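import Mathlib
import Groth.Prelude.Def_FSch3

/-! Ideal sheaves on affine schemes and pullback (helper2). -/

namespace H2IdSpec
open AlgebraicGeometry CategoryTheory
universe u

theorem idealSpec_ideal_top (R : Type u) [CommRing R] (I : Ideal R) :
    (FSch.idealSpec R I).ideal ⟨⊤, isAffineOpen_top _⟩ =
      I.comap (Scheme.ΓSpecIso (CommRingCat.of R)).hom.hom := by
  unfold FSch.idealSpec
  rw [Scheme.ker_of_isAffine]
  have hn := Scheme.ΓSpecIso_naturality (CommRingCat.ofHom (Ideal.Quotient.mk I))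
  ext x
  simp only [Scheme.IdealSheafData.ofIdealTop_ideal]
  have hx : (Scheme.ΓSpecIso (CommRingCat.of (R ⧸ I))).hom.hom
      ((Spec.map (CommRingCat.ofHom (Ideal.Quotient.mk I))).appTop.hom x) =
      Ideal.Quotient.mk I ((Scheme.ΓSpecIso (CommRingCat.of R)).hom.hom x) := by
    exact congrArg (fun t => t.hom x) hn
  have hinj : Function.Injective (Scheme.ΓSpecIso (CommRingCat.of (R ⧸ I))).hom.hom :=
    (ConcreteCategory.bijective_of_isIso (Scheme.ΓSpecIso (CommRingCat.of (R ⧸ I))).hom).1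
  have key : (Spec.map (CommRingCat.ofHom (Ideal.Quotient.mk I))).appTop.hom x = 0 ↔
      (Scheme.ΓSpecIso (CommRingCat.of R)).hom.hom x ∈ I := by
    rw [← Ideal.Quotient.eq_zero_iff_mem, ← hx]
    exact ⟨fun h => by rw [h, map_zero], fun h => hinj (by rw [h, map_zero])⟩
  simpa using key

theorem comap_le_iff {R S : Type u} [CommRing R] [CommRing S] (g : S →+* R) (g' : R →+* S)
    (h1 : ∀ x, g (g' x) = x) (h2 : ∀ y, g' (g y) = y) (K : Ideal R) (L : Ideal S) :
    K.comap g ≤ L ↔ K ≤ L.comap g' := by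
  constructor
  · intro h x hx
    exact h (by rw [Ideal.mem_comap, h1]; exact hx)
  · intro h y hy
    have := h hy
    rw [Ideal.mem_comap, h2] at this
    exact this

theorem iso_hom_inv {R S : CommRingCat.{u}} (e : R ≅ S) (x : S) : e.hom.hom (e.inv.hom x) = x := by
  exact congrArg (fun t => t.hom x) e.inv_hom_id

theorem iso_inv_hom {R S : CommRingCat.{u}} (e : R ≅ S) (x : R) : e.inv.hom (e.hom.hom x) = x := by
  exact congrArg (fun t => t.hom x) e.hom_inv_id

theorem comap_idealSpec (A B : Type u) [CommRing A] [CommRing B] (φ : B →+* A) (𝔟 : Ideal B) :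
    (FSch.idealSpec B 𝔟).comap (Spec.map (CommRingCat.ofHom φ)) = FSch.idealSpec A (𝔟.map φ) := by
  apply eq_of_forall_ge_iff
  intro J
  rw [← Scheme.IdealSheafData.le_map_iff_comap_le]
  have hle : ∀ {X : Scheme.{u}} [IsAffine X] (I J : X.IdealSheafData),
      I ≤ J ↔ I.ideal ⟨⊤, isAffineOpen_top X⟩ ≤ J.ideal ⟨⊤, isAffineOpen_top X⟩ :=
    fun I J => ⟨fun h => h _, Scheme.IdealSheafData.le_of_isAffine⟩
  rw [hle, hle, idealSpec_ideal_top, idealSpec_ideal_top,
    Scheme.IdealSheafData.ideal_map_of_isAffineHom]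
  rw [comap_le_iff _ (Scheme.ΓSpecIso (CommRingCat.of B)).inv.hom (iso_hom_inv _) (iso_inv_hom _),
    comap_le_iff _ (Scheme.ΓSpecIso (CommRingCat.of A)).inv.hom (iso_hom_inv _) (iso_inv_hom _),
    Ideal.map_le_iff_le_comap]
  have hnat := Scheme.ΓSpecIso_inv_naturality (CommRingCat.ofHom φ)
  have hx : ∀ x : B, (Spec.map (CommRingCat.ofHom φ)).appTop.hom
      ((Scheme.ΓSpecIso (CommRingCat.of B)).inv.hom x) =
      (Scheme.ΓSpecIso (CommRingCat.of A)).inv.hom (φ x) := fun x => by
    exact (congrArg (fun t => t.hom x) hnat).symm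
  constructor
  · intro h x hx'
    have := h hx'
    rw [Ideal.mem_comap, Ideal.mem_comap] at this
    rw [Ideal.mem_comap, Ideal.mem_comap, ← hx]
    exact this
  · intro h x hx'
    have := h hx'
    rw [Ideal.mem_comap, Ideal.mem_comap, ← hx] at this
    rw [Ideal.mem_comap, Ideal.mem_comap]
    exact this

end H2IdSpec
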