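import Mathlib
import Groth.Prelude.Def_FSch3
import Groth.Agent.Lib.helper2.IdSpec

/-! The formal spectrum of a Noetherian ring is a locally Noetherian adic system (helper2). -/

namespace H2IdSpec
open AlgebraicGeometry CategoryTheory
universe u

theorem factor_ker {R : Type u} [CommRing R] {S T : Ideal R} (H : S ≤ T) :
    RingHom.ker (Ideal.Quotient.factor H) = T.map (Ideal.Quotient.mk S) := by
  ext x
  obtain ⟨a, rfl⟩ := Ideal.Quotient.mk_surjective x
  rw [RingHom.mem_ker, Ideal.Quotient.factor_mk, Ideal.Quotient.eq_zero_iff_mem,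
    Ideal.mem_quotient_iff_mem H]

theorem specMap_ker_ideal_top {R S : Type u} [CommRing R] [CommRing S] (ψ : R →+* S) :
    (Spec.map (CommRingCat.ofHom ψ)).ker.ideal ⟨⊤, isAffineOpen_top _⟩ =
      (RingHom.ker ψ).comap (Scheme.ΓSpecIso (CommRingCat.of R)).hom.hom := by
  rw [Scheme.ker_of_isAffine]
  have hn := Scheme.ΓSpecIso_naturality (CommRingCat.ofHom ψ)
  ext x
  simp only [Scheme.IdealSheafData.ofIdealTop_ideal]
  have hx : (Scheme.ΓSpecIso (CommRingCat.of S)).hom.hom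
      ((Spec.map (CommRingCat.ofHom ψ)).appTop.hom x) =
      ψ ((Scheme.ΓSpecIso (CommRingCat.of R)).hom.hom x) := by
    exact congrArg (fun t => t.hom x) hn
  have hinj : Function.Injective (Scheme.ΓSpecIso (CommRingCat.of S)).hom.hom :=
    (ConcreteCategory.bijective_of_isIso (Scheme.ΓSpecIso (CommRingCat.of S)).hom).1
  have key : (Spec.map (CommRingCat.ofHom ψ)).appTop.hom x = 0 ↔
      (Scheme.ΓSpecIso (CommRingCat.of R)).hom.hom x ∈ RingHom.ker ψ := by
    rw [RingHom.mem_ker, ← hx]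
    exact ⟨fun h => by rw [h, map_zero], fun h => hinj (by rw [h, map_zero])⟩
  simpa using key

theorem comap_eq_map_inv {R S : Type u} [CommRing R] [CommRing S] (g : S →+* R) (g' : R →+* S)
    (h1 : ∀ x, g (g' x) = x) (h2 : ∀ y, g' (g y) = y) (K : Ideal R) : K.comap g = K.map g' := by
  apply le_antisymm
  · rw [comap_le_iff g g' h1 h2]; exact Ideal.le_comap_map
  · rw [Ideal.map_le_iff_le_comap]
    intro x hx
    rw [Ideal.mem_comap, Ideal.mem_comap, h1]; exact hx

theorem spf_toX (A : Type u) [CommRing A] (J : Ideal A) (n : ℕ) :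
    (FSch.spf A J).toX n = Spec.map (CommRingCat.ofHom (Ideal.Quotient.factor
      (Ideal.pow_le_pow_right (Nat.succ_le_succ (Nat.zero_le n)) :
        J ^ (n + 1) ≤ J ^ (0 + 1)))) := by
  induction n with
  | zero =>
    show 𝟙 _ = _
    rw [Ideal.Quotient.factor_eq]
    exact (Spec.map_id _).symm
  | succ k ih =>
    show (FSch.spf A J).toX k ≫ (FSch.spf A J).ι k = _
    rw [ih]
    show Spec.map _ ≫ CohB1.specQuotTrans J k = _
    unfold CohB1.specQuotTrans
    rw [← Spec.map_comp, ← CommRingCat.ofHom_comp, Ideal.Quotient.factor_comp]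

theorem sq_zero_of_mem_ker (A : Type u) [CommRing A] (J : Ideal A) (n : ℕ)
    (x : A ⧸ J ^ (n + 2))
    (hx : x ∈ RingHom.ker (Ideal.Quotient.factor
      (Ideal.pow_le_pow_right (Nat.le_succ (n + 1)) : J ^ (n + 2) ≤ J ^ (n + 1)))) :
    x ^ 2 = 0 := by
  obtain ⟨a, rfl⟩ := Ideal.Quotient.mk_surjective x
  rw [RingHom.mem_ker, Ideal.Quotient.factor_mk, Ideal.Quotient.eq_zero_iff_mem] at hx
  rw [← map_pow, Ideal.Quotient.eq_zero_iff_mem]
  have h2 : a ^ 2 ∈ (J ^ (n + 1)) ^ 2 := Ideal.pow_mem_pow hx 2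
  rw [← pow_mul] at h2
  exact Ideal.pow_le_pow_right (by omega) h2

theorem spf_isFormal (A : Type u) [CommRing A] (J : Ideal A) : (FSch.spf A J).IsFormal := by
  intro n
  constructor
  · show IsClosedImmersion (Spec.map (CommRingCat.ofHom (Ideal.Quotient.factor
      (Ideal.pow_le_pow_right (Nat.le_succ (n + 1)) : J ^ (n + 2) ≤ J ^ (n + 1)))))
    exact IsClosedImmersion.spec_of_surjective _ (Ideal.Quotient.factor_surjective
      (Ideal.pow_le_pow_right (Nat.le_succ (n + 1)) : J ^ (n + 2) ≤ J ^ (n + 1)))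
  · intro p
    have hmem : (show PrimeSpectrum (A ⧸ J ^ (n + 2)) from p) ∈
        Set.range (PrimeSpectrum.comap (Ideal.Quotient.factor
          (Ideal.pow_le_pow_right (Nat.le_succ (n + 1)) : J ^ (n + 2) ≤ J ^ (n + 1)))) := by
      rw [range_comap_of_surjective _ _ (Ideal.Quotient.factor_surjective _),
        PrimeSpectrum.mem_zeroLocus]
      intro x hx
      have hx2 := sq_zero_of_mem_ker A J n x hx
      have hp : (show PrimeSpectrum (A ⧸ J ^ (n + 2)) from p).asIdeal.IsPrime :=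
        (show PrimeSpectrum (A ⧸ J ^ (n + 2)) from p).isPrime
      exact hp.mem_of_pow_mem 2 (by rw [hx2]; exact zero_mem _)
    obtain ⟨q, hq⟩ := hmem
    exact ⟨q, hq⟩

theorem adic_key (A : Type u) [CommRing A] (J : Ideal A) (n : ℕ) :
    (Spec.map (CommRingCat.ofHom (Ideal.Quotient.factor
      (Ideal.pow_le_pow_right (Nat.le_succ (n + 1)) : J ^ (n + 2) ≤ J ^ (n + 1))))).ker =
    (Spec.map (CommRingCat.ofHom (Ideal.Quotient.factor
      (Ideal.pow_le_pow_right (Nat.succ_le_succ (Nat.zero_le (n + 1))) :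
        J ^ (n + 2) ≤ J ^ (0 + 1))))).ker ^ (n + 1) := by
  apply Scheme.IdealSheafData.ext_of_isAffine
  have hpow : ∀ (K : (Spec (CommRingCat.of (A ⧸ J ^ (n + 2)))).IdealSheafData) (m : ℕ),
      (K ^ m).ideal ⟨⊤, isAffineOpen_top _⟩ = (K.ideal ⟨⊤, isAffineOpen_top _⟩) ^ m :=
    fun K m => map_pow Scheme.IdealSheafData.equivOfIsAffine K m
  have hcm : ∀ K : Ideal (A ⧸ J ^ (n + 2)),
      K.comap (Scheme.ΓSpecIso (CommRingCat.of (A ⧸ J ^ (n + 2)))).hom.hom =
      K.map (Scheme.ΓSpecIso (CommRingCat.of (A ⧸ J ^ (n + 2)))).inv.hom :=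
    fun K => comap_eq_map_inv _ _
      (iso_hom_inv (Scheme.ΓSpecIso (CommRingCat.of (A ⧸ J ^ (n + 2)))))
      (iso_inv_hom (Scheme.ΓSpecIso (CommRingCat.of (A ⧸ J ^ (n + 2))))) K
  rw [hpow, specMap_ker_ideal_top, specMap_ker_ideal_top, factor_ker, factor_ker, hcm, hcm,
    ← Ideal.map_pow, ← Ideal.map_pow, zero_add, pow_one]

theorem spf_isAdic (A : Type u) [CommRing A] (J : Ideal A) : (FSch.spf A J).IsAdic := by
  intro n
  rw [spf_toX]
  exact adic_key A J n

theorem spf_isLocNoeth (A : Type u) [CommRing A] [IsNoetherianRing A] (J : Ideal A) :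
    (FSch.spf A J).IsLocNoethFormal := by
  refine ⟨spf_isFormal A J, spf_isAdic A J, fun n => ?_⟩
  show IsLocallyNoetherian (Spec (CommRingCat.of (A ⧸ J ^ (n + 1))))
  haveI : IsNoetherianRing (CommRingCat.of (A ⧸ J ^ (n + 1))) :=
    (inferInstance : IsNoetherianRing (A ⧸ J ^ (n + 1)))
  infer_instance

end H2IdSpec
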