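import Mathlib
import Groth.Prelude.Def_FSch3
import Groth.Agent.Lib.helper2.IdSpec
import Groth.Agent.Lib.helper2.IdSpec2

/-! Inverse image of a product of ideal sheaves (helper2). -/

namespace H2ComapMul
open AlgebraicGeometry CategoryTheory H2IdSpec
universe u

theorem ideal_comap_mul_iso {R S : CommRingCat.{u}} (e : R ≅ S) (K L : Ideal S) :
    (K * L).comap e.hom.hom = K.comap e.hom.hom * L.comap e.hom.hom := by
  have hcm : ∀ K : Ideal S, K.comap e.hom.hom = K.map e.inv.hom :=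
    fun K => comap_eq_map_inv _ _ (iso_hom_inv e) (iso_inv_hom e) K
  rw [hcm, hcm, hcm, Ideal.map_mul]

theorem comap_mul_of_isOpenImmersion {U X : Scheme.{u}} (j : U ⟶ X) [IsOpenImmersion j]
    (I₁ I₂ : X.IdealSheafData) : (I₁ * I₂).comap j = I₁.comap j * I₂.comap j := by
  ext W : 2
  rw [Scheme.IdealSheafData.ideal_comap_of_isOpenImmersion, Scheme.IdealSheafData.ideal_mul,
    Pi.mul_apply, Scheme.IdealSheafData.ideal_mul, Pi.mul_apply,
    Scheme.IdealSheafData.ideal_comap_of_isOpenImmersion,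
    Scheme.IdealSheafData.ideal_comap_of_isOpenImmersion]
  exact ideal_comap_mul_iso (j.appIso W).symm _ _

theorem eq_idealSpec (B : Type u) [CommRing B] (K : (Spec (CommRingCat.of B)).IdealSheafData) :
    K = FSch.idealSpec B ((K.ideal ⟨⊤, isAffineOpen_top _⟩).comap
      (Scheme.ΓSpecIso (CommRingCat.of B)).inv.hom) := by
  apply Scheme.IdealSheafData.ext_of_isAffine
  rw [idealSpec_ideal_top, Ideal.comap_comap]
  have h1 : (Scheme.ΓSpecIso (CommRingCat.of B)).inv.hom.comp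
      (Scheme.ΓSpecIso (CommRingCat.of B)).hom.hom = RingHom.id _ := by
    ext x; exact iso_inv_hom (Scheme.ΓSpecIso (CommRingCat.of B)) x
  rw [h1, Ideal.comap_id]

theorem idealSpec_mul (B : Type u) [CommRing B] (𝔟₁ 𝔟₂ : Ideal B) :
    FSch.idealSpec B (𝔟₁ * 𝔟₂) = FSch.idealSpec B 𝔟₁ * FSch.idealSpec B 𝔟₂ := by
  apply Scheme.IdealSheafData.ext_of_isAffine
  rw [Scheme.IdealSheafData.ideal_mul, Pi.mul_apply, idealSpec_ideal_top, idealSpec_ideal_top,
    idealSpec_ideal_top]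
  exact ideal_comap_mul_iso (Scheme.ΓSpecIso (CommRingCat.of B)) _ _

theorem comap_mul_SpecMap (A B : Type u) [CommRing A] [CommRing B] (φ : B →+* A)
    (K₁ K₂ : (Spec (CommRingCat.of B)).IdealSheafData) :
    (K₁ * K₂).comap (Spec.map (CommRingCat.ofHom φ)) =
      K₁.comap (Spec.map (CommRingCat.ofHom φ)) * K₂.comap (Spec.map (CommRingCat.ofHom φ)) := by
  obtain ⟨𝔟₁, rfl⟩ : ∃ 𝔟, K₁ = FSch.idealSpec B 𝔟 := ⟨_, eq_idealSpec B K₁⟩
  obtain ⟨𝔟₂, rfl⟩ : ∃ 𝔟, K₂ = FSch.idealSpec B 𝔟 := ⟨_, eq_idealSpec B K₂⟩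
  rw [← idealSpec_mul, comap_idealSpec, comap_idealSpec, comap_idealSpec, Ideal.map_mul,
    idealSpec_mul]

theorem comap_mul_SpecMap' {R S : CommRingCat.{u}} (ψ : R ⟶ S) (K₁ K₂ : (Spec R).IdealSheafData) :
    (K₁ * K₂).comap (Spec.map ψ) = K₁.comap (Spec.map ψ) * K₂.comap (Spec.map ψ) :=
  comap_mul_SpecMap S R ψ.hom K₁ K₂

theorem comap_mul_of_isAffine {U V : Scheme.{u}} [IsAffine U] [IsAffine V] (g : U ⟶ V)
    (K₁ K₂ : V.IdealSheafData) : (K₁ * K₂).comap g = K₁.comap g * K₂.comap g := by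
  have hg : g = U.isoSpec.hom ≫ Spec.map g.appTop ≫ V.isoSpec.inv := by
    rw [← Category.assoc, Scheme.isoSpec_hom_naturality, Category.assoc, Iso.hom_inv_id,
      Category.comp_id]
  have hc : ∀ K : V.IdealSheafData, K.comap g =
      ((K.comap V.isoSpec.inv).comap (Spec.map g.appTop)).comap U.isoSpec.hom := by
    intro K
    have h1 : K.comap g = K.comap (U.isoSpec.hom ≫ Spec.map g.appTop ≫ V.isoSpec.inv) :=
      congrArg (fun t => K.comap t) hg
    rw [h1, Scheme.IdealSheafData.comap_comp, Scheme.IdealSheafData.comap_comp]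
  rw [hc, hc K₁, hc K₂, comap_mul_of_isOpenImmersion V.isoSpec.inv, comap_mul_SpecMap',
    comap_mul_of_isOpenImmersion U.isoSpec.hom]

theorem eq_of_comap_ι_eq {X : Scheme.{u}} {ι : Type*} (U : ι → X.affineOpens)
    (hU : ⨆ i, (U i).1 = ⊤) (I J : X.IdealSheafData)
    (H : ∀ i, I.comap (U i).1.ι = J.comap (U i).1.ι) : I = J := by
  refine Scheme.IdealSheafData.ext_of_iSup_eq_top U hU (fun i => ?_)
  haveI : IsAffine (U i).1.toScheme := (U i).2
  have h := congrArg (fun K => K.ideal ⟨⊤, isAffineOpen_top _⟩) (H i)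
  simp only [Scheme.IdealSheafData.ideal_comap_of_isOpenImmersion] at h
  have hsurj : Function.Surjective ((U i).1.ι.appIso ⊤).inv.hom :=
    (ConcreteCategory.bijective_of_isIso ((U i).1.ι.appIso ⊤).inv).2
  have h2 := Ideal.comap_injective_of_surjective _ hsurj h
  have e : (⟨(U i).1.ι ''ᵁ ⊤, (isAffineOpen_top _).image_of_isOpenImmersion _⟩ : X.affineOpens) =
      U i := Subtype.ext (by simp)
  have htr : ∀ W : X.affineOpens, W = U i → I.ideal W = J.ideal W →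
      I.ideal (U i) = J.ideal (U i) := by
    rintro W rfl h; exact h
  exact htr _ e h2

theorem comap_mul {X Y : Scheme.{u}} (f : X ⟶ Y) (K₁ K₂ : Y.IdealSheafData) :
    (K₁ * K₂).comap f = K₁.comap f * K₂.comap f := by
  let ι := {p : X.affineOpens × Y.affineOpens // p.1.1 ≤ f ⁻¹ᵁ p.2.1}
  have hU : ⨆ p : ι, (p.1.1).1 = ⊤ := by
    rw [eq_top_iff]
    intro x _
    obtain ⟨V, hV, hxV, -⟩ := exists_isAffineOpen_mem_and_subset (x := f x) (U := ⊤)
      (TopologicalSpace.Opens.mem_top _)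
    obtain ⟨W, hW, hxW, hWV⟩ := exists_isAffineOpen_mem_and_subset (x := x) (U := f ⁻¹ᵁ V) hxV
    exact TopologicalSpace.Opens.mem_iSup.mpr
      ⟨⟨(⟨W, hW⟩, ⟨V, hV⟩), (fun y hy => hWV hy : W ≤ f ⁻¹ᵁ V)⟩, hxW⟩
  refine eq_of_comap_ι_eq (fun p : ι => p.1.1) hU _ _ (fun p => ?_)
  obtain ⟨⟨U, V⟩, hUV⟩ := p
  haveI : IsAffine U.1.toScheme := U.2
  haveI : IsAffine V.1.toScheme := V.2
  have hres : U.1.ι ≫ f = f.resLE V.1 U.1 hUV ≫ V.1.ι := (Scheme.Hom.resLE_comp_ι f hUV).symm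
  have hc : ∀ K : Y.IdealSheafData, (K.comap f).comap U.1.ι =
      (K.comap V.1.ι).comap (f.resLE V.1 U.1 hUV) := fun K =>
    (Scheme.IdealSheafData.comap_comp K U.1.ι f).symm.trans
      ((congrArg (fun g => K.comap g) hres).trans
        (Scheme.IdealSheafData.comap_comp K _ V.1.ι))
  show ((K₁ * K₂).comap f).comap U.1.ι = (K₁.comap f * K₂.comap f).comap U.1.ι
  rw [hc (K₁ * K₂), comap_mul_of_isOpenImmersion V.1.ι K₁ K₂,
    comap_mul_of_isAffine (f.resLE V.1 U.1 hUV),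
    comap_mul_of_isOpenImmersion U.1.ι (K₁.comap f) (K₂.comap f), hc K₁, hc K₂]

end H2ComapMul
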