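import Mathlib
import Groth.Prelude.Def_FSch3
import Groth.Agent.Lib.helper2.ComapMul

/-! The completion along an inverse image ideal is the fibre product (helper2). -/

namespace H2ComapMul
open AlgebraicGeometry CategoryTheory CategoryTheory.Limits
universe u

theorem comap_pow_succ {X Y : Scheme.{u}} (f : X ⟶ Y) (K : Y.IdealSheafData) (n : ℕ) :
    (K ^ (n + 1)).comap f = (K.comap f) ^ (n + 1) := by
  induction n with
  | zero => simp only [zero_add, pow_one]
  | succ k ih => rw [pow_succ, comap_mul, ih, ← pow_succ]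

theorem isPullback_subschemeMap {X Y : Scheme.{u}} (f : X ⟶ Y) (K : Y.IdealSheafData)
    (I : X.IdealSheafData) (hI : I = K.comap f) (H : K ≤ I.map f) :
    IsPullback I.subschemeι (Scheme.IdealSheafData.subschemeMap I K f H) f K.subschemeι := by
  subst hI
  exact IsPullback.of_iso_pullback
    ⟨(Scheme.IdealSheafData.subschemeMap_subschemeι _ _ f H).symm⟩ (K.comapIso f)
    (K.comapIso_hom_fst f) (K.comapIso_hom_snd f)

theorem completion_pullback {X Y : Scheme.{u}} (f : X ⟶ Y) (𝓚 : Y.IdealSheafData)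
    (h : FSch.PowCompat f (𝓚.comap f) 𝓚) :
    (∀ n : ℕ, IsPullback (FSch.completionToX X (𝓚.comap f) n)
        ((FSch.completionMap f (𝓚.comap f) 𝓚 h : FSch.Hom _ _).app n) f
        (FSch.completionToX Y 𝓚 n)) ∧
      FSch.IsAdicHom (FSch.completionMap f (𝓚.comap f) 𝓚 h) := by
  have hP : ∀ n : ℕ, IsPullback (FSch.completionToX X (𝓚.comap f) n)
      ((FSch.completionMap f (𝓚.comap f) 𝓚 h : FSch.Hom _ _).app n) f
      (FSch.completionToX Y 𝓚 n) := fun n =>
    isPullback_subschemeMap f (𝓚 ^ (n + 1)) ((𝓚.comap f) ^ (n + 1))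
      (comap_pow_succ f 𝓚 n).symm (Scheme.IdealSheafData.le_map_iff_comap_le.mpr (h n))
  refine ⟨hP, fun n => ?_⟩
  have e1 : (FSch.completionAlong X (𝓚.comap f)).ι n ≫ FSch.completionToX X (𝓚.comap f) (n + 1) =
      FSch.completionToX X (𝓚.comap f) n :=
    Scheme.IdealSheafData.inclusion_subschemeι (FSch.pow_succ_le X (𝓚.comap f) n)
  have e2 : (FSch.completionAlong Y 𝓚).ι n ≫ FSch.completionToX Y 𝓚 (n + 1) =
      FSch.completionToX Y 𝓚 n :=
    Scheme.IdealSheafData.inclusion_subschemeι (FSch.pow_succ_le Y 𝓚 n)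
  have s : IsPullback
      ((FSch.completionAlong X (𝓚.comap f)).ι n ≫ FSch.completionToX X (𝓚.comap f) (n + 1))
      ((FSch.completionMap f (𝓚.comap f) 𝓚 h : FSch.Hom _ _).app n) f
      ((FSch.completionAlong Y 𝓚).ι n ≫ FSch.completionToX Y 𝓚 (n + 1)) := by
    rw [e1, e2]; exact hP n
  exact IsPullback.of_right s
    ((FSch.completionMap f (𝓚.comap f) 𝓚 h : FSch.Hom _ _).comm n).symm (hP (n + 1))

end H2ComapMul
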