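import Mathlib
import Groth.Prelude.Def_FSch3
import Groth.Agent.Lib.helper2.ComplPull

/-! Closed sub-systems of locally Noetherian adic formal systems (helper2). -/

namespace H2ComapMul
open AlgebraicGeometry CategoryTheory CategoryTheory.Limits
universe u

theorem ker_fst_of_isPullback {P X Y Z : Scheme.{u}} {fst : P ⟶ X} {snd : P ⟶ Y} {f : X ⟶ Z}
    {g : Y ⟶ Z} [IsClosedImmersion g] (sq : IsPullback fst snd f g) :
    fst.ker = g.ker.comap f := by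
  rw [← sq.isoPullback_hom_fst, Scheme.Hom.ker_comp_of_isIso,
    Scheme.IdealSheafData.ker_fst_of_isClosedImmersion]

section
variable (𝔛 : FSch.Sys.{u}) (𝒜 : ∀ n, (𝔛.X n).IdealSheafData)
  (h : ∀ n, (𝒜 (n + 1)).comap (𝔛.ι n) = 𝒜 n)

theorem subSys_sq (n : ℕ) : IsPullback (𝒜 n).subschemeι
    ((FSch.subSys 𝔛 𝒜 (fun n ↦ (h n).le)).ι n) (𝔛.ι n) (𝒜 (n + 1)).subschemeι :=
  isPullback_subschemeMap (𝔛.ι n) (𝒜 (n + 1)) (𝒜 n) (h n).symm
    (Scheme.IdealSheafData.le_map_iff_comap_le.mpr (h n).le)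

theorem subSys_toX_sq (m : ℕ) : IsPullback ((FSch.subSys 𝔛 𝒜 (fun n ↦ (h n).le)).toX m)
    (𝒜 0).subschemeι (𝒜 m).subschemeι (𝔛.toX m) := by
  induction m with
  | zero =>
    show IsPullback (𝟙 _) (𝒜 0).subschemeι (𝒜 0).subschemeι (𝟙 _)
    exact IsPullback.of_horiz_isIso ⟨by simp⟩
  | succ k ih =>
    show IsPullback ((FSch.subSys 𝔛 𝒜 (fun n ↦ (h n).le)).toX k ≫
      (FSch.subSys 𝔛 𝒜 (fun n ↦ (h n).le)).ι k) (𝒜 0).subschemeι (𝒜 (k + 1)).subschemeι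
      (𝔛.toX k ≫ 𝔛.ι k)
    exact ih.paste_horiz (subSys_sq 𝔛 𝒜 h k).flip

theorem toX_isClosedImmersion (hF : 𝔛.IsFormal) (m : ℕ) : IsClosedImmersion (𝔛.toX m) := by
  induction m with
  | zero => show IsClosedImmersion (𝟙 _); infer_instance
  | succ k ih =>
    show IsClosedImmersion (𝔛.toX k ≫ 𝔛.ι k)
    haveI := ih
    haveI := (hF k).1
    infer_instance

theorem subSys_main (h𝔛 : 𝔛.IsLocNoethFormal) :
    (FSch.subSys 𝔛 𝒜 (fun n ↦ (h n).le)).IsLocNoethFormal ∧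
      FSch.IsAdicHom (FSch.subSysι 𝔛 𝒜 (fun n ↦ (h n).le)) := by
  obtain ⟨hF, hA, hN⟩ := h𝔛
  refine ⟨⟨?_, ?_, ?_⟩, ?_⟩
  · intro n
    have sq := subSys_sq 𝔛 𝒜 h n
    refine ⟨MorphismProperty.of_isPullback (P := @IsClosedImmersion) sq (hF n).1, ?_⟩
    haveI : Surjective (𝔛.ι n) := ⟨(hF n).2⟩
    have hs : Surjective ((FSch.subSys 𝔛 𝒜 (fun n ↦ (h n).le)).ι n) :=
      MorphismProperty.of_isPullback (P := @Surjective) sq inferInstance
    exact hs.surj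
  · intro n
    haveI := (hF n).1
    haveI := toX_isClosedImmersion 𝔛 hF (n + 1)
    have e1 := ker_fst_of_isPullback (subSys_sq 𝔛 𝒜 h n).flip
    have e2 := ker_fst_of_isPullback (subSys_toX_sq 𝔛 𝒜 h (n + 1))
    exact e1.trans ((congrArg (fun K => K.comap (𝒜 (n + 1)).subschemeι) (hA n)).trans
      ((comap_pow_succ _ _ n).trans (congrArg (fun K => K ^ (n + 1)) e2.symm)))
  · intro n
    haveI := hN n
    show IsLocallyNoetherian (𝒜 n).subscheme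
    exact LocallyOfFiniteType.isLocallyNoetherian (𝒜 n).subschemeι
  · intro n
    exact (subSys_sq 𝔛 𝒜 h n).flip

end

end H2ComapMul
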