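import Mathlib
import Groth.Prelude.Def_FSch3
import Groth.Agent.Lib.helper2.SubSysLib

/-! Adic morphisms onto locally Noetherian adic formal systems (helper2). -/

namespace H2ComapMul
open AlgebraicGeometry CategoryTheory CategoryTheory.Limits H2IdSpec
universe u

theorem noeth_of_surj_nilp {B C : Type u} [CommRing B] [CommRing C] (f : B →+* C)
    (hf : Function.Surjective f) [IsNoetherianRing C] (hfg : (RingHom.ker f).FG) (m : ℕ)
    (hm : (RingHom.ker f) ^ m = ⊥) : IsNoetherianRing B := by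
  apply IsNoetherianRing.of_prime
  intro P hP
  have hKP : RingHom.ker f ≤ P := Ideal.IsPrime.le_of_pow_le (n := m) (by rw [hm]; exact bot_le)
  refine Ideal.fg_of_fg_map_of_fg_inf_ker_of_surjective (f := f) (IsNoetherian.noetherian _) ?_ hf
  rw [inf_eq_right.mpr hKP]; exact hfg

theorem ker_comap_self {X Y : Scheme.{u}} (f : X ⟶ Y) : f.ker.comap f = ⊥ := by
  rw [← le_bot_iff, ← Scheme.IdealSheafData.map_bot f]
  exact Scheme.IdealSheafData.comap_map_le _ _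

theorem toX_ker_pow (𝔖 : FSch.Sys.{u}) (hF : 𝔖.IsFormal) (hA : 𝔖.IsAdic) (n : ℕ) :
    (𝔖.toX n).ker ^ (n + 1) = ⊥ := by
  haveI := (hF n).1
  haveI := toX_isClosedImmersion 𝔖 hF (n + 1)
  have sq : IsPullback (𝔖.toX n) (𝟙 _) (𝔖.ι n) (𝔖.toX (n + 1)) :=
    IsPullback.of_vert_isIso_mono
      ⟨by show _ = 𝟙 _ ≫ (𝔖.toX n ≫ 𝔖.ι n); rw [Category.id_comp]⟩
  have e1 := ker_fst_of_isPullback sq
  rw [e1, ← comap_pow_succ, ← hA n, ker_comap_self]

theorem isLocallyNoetherian_of_cover {Z₀ Z : Scheme.{u}} (i : Z₀ ⟶ Z) [IsClosedImmersion i]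
    [IsLocallyNoetherian Z₀] (m : ℕ) (hm : i.ker ^ m = ⊥) {ι : Type*} (U : ι → Z.affineOpens)
    (hU : (⨆ k, (U k : Z.Opens)) = ⊤) (hft : ∀ k, (i.ker.ideal (U k)).FG) :
    IsLocallyNoetherian Z := by
  refine isLocallyNoetherian_of_affine_cover hU (fun k => ?_)
  haveI : IsNoetherianRing Γ(Z₀, i ⁻¹ᵁ (U k).1) :=
    IsLocallyNoetherian.component_noetherian ⟨i ⁻¹ᵁ (U k).1, (U k).2.preimage i⟩
  have hker : RingHom.ker (i.app (U k).1).hom = i.ker.ideal (U k) :=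
    (Scheme.Hom.ker_apply i (U k)).symm
  refine noeth_of_surj_nilp (i.app (U k).1).hom (i.app_surjective (U k).1 (U k).2) ?_ m ?_
  · rw [hker]; exact hft k
  · rw [hker]
    have h1 := congrArg (fun K => K.ideal (U k)) hm
    simpa [Scheme.IdealSheafData.ideal_pow] using h1

theorem fg_comap_iso {R S : CommRingCat.{u}} (e : R ≅ S) (K : Ideal S) (h : K.FG) :
    (K.comap e.hom.hom).FG := by
  rw [comap_eq_map_inv _ _ (iso_hom_inv e) (iso_inv_hom e) K]
  exact h.map _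

theorem fg_of_fg_comap_iso {R S : CommRingCat.{u}} (e : R ≅ S) (K : Ideal S)
    (h : (K.comap e.hom.hom).FG) : K.FG := by
  have h2 := fg_comap_iso e.symm _ h
  rw [Ideal.comap_comap] at h2
  have h1 : e.hom.hom.comp e.symm.hom.hom = RingHom.id _ := by
    ext x; exact iso_hom_inv e x
  rwa [h1, Ideal.comap_id] at h2

theorem fg_comap_openImm {U X : Scheme.{u}} (j : U ⟶ X) [IsOpenImmersion j]
    (K : X.IdealSheafData) (W : U.affineOpens)
    (h : (K.ideal ⟨j ''ᵁ W.1, W.2.image_of_isOpenImmersion j⟩).FG) :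
    ((K.comap j).ideal W).FG := by
  rw [Scheme.IdealSheafData.ideal_comap_of_isOpenImmersion]
  exact fg_comap_iso (j.appIso W.1).symm _ h

theorem fg_transport {X : Scheme.{u}} (K : X.IdealSheafData) (W W' : X.affineOpens)
    (e : W = W') (h : (K.ideal W).FG) : (K.ideal W').FG := by
  subst e; exact h

theorem fg_top_comap_iso {U X : Scheme.{u}} [IsAffine U] [IsAffine X] (j : U ⟶ X) [IsIso j]
    (K : X.IdealSheafData) (h : (K.ideal ⟨⊤, isAffineOpen_top X⟩).FG) :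
    ((K.comap j).ideal ⟨⊤, isAffineOpen_top U⟩).FG := by
  apply fg_comap_openImm
  refine fg_transport K _ _ ?_ h
  apply Subtype.ext
  show (⊤ : X.Opens) = j ''ᵁ ⊤
  rw [Scheme.Hom.image_top_eq_opensRange, Scheme.Hom.opensRange_of_isIso]

theorem fg_top_comap_SpecMap {R S : CommRingCat.{u}} (ψ : R ⟶ S) (L : (Spec R).IdealSheafData)
    (h : (L.ideal ⟨⊤, isAffineOpen_top _⟩).FG) :
    ((L.comap (Spec.map ψ)).ideal ⟨⊤, isAffineOpen_top _⟩).FG := by
  obtain ⟨𝔟, rfl⟩ : ∃ 𝔟, L = FSch.idealSpec R 𝔟 := ⟨_, eq_idealSpec R L⟩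
  have h𝔟 : 𝔟.FG := by
    rw [idealSpec_ideal_top] at h
    exact fg_of_fg_comap_iso (Scheme.ΓSpecIso (CommRingCat.of R)) 𝔟 h
  have e1 : (FSch.idealSpec R 𝔟).comap (Spec.map ψ) = FSch.idealSpec S (𝔟.map ψ.hom) :=
    comap_idealSpec S R ψ.hom 𝔟
  rw [e1, idealSpec_ideal_top]
  exact fg_comap_iso (Scheme.ΓSpecIso (CommRingCat.of S)) _ (h𝔟.map _)

theorem comap_affine_factor {U V : Scheme.{u}} [IsAffine U] [IsAffine V] (g : U ⟶ V)
    (K : V.IdealSheafData) : K.comap g =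
      ((K.comap V.isoSpec.inv).comap (Spec.map g.appTop)).comap U.isoSpec.hom := by
  have hg : g = U.isoSpec.hom ≫ Spec.map g.appTop ≫ V.isoSpec.inv := by
    rw [← Category.assoc, Scheme.isoSpec_hom_naturality, Category.assoc, Iso.hom_inv_id,
      Category.comp_id]
  have h1 : K.comap g = K.comap (U.isoSpec.hom ≫ Spec.map g.appTop ≫ V.isoSpec.inv) :=
    congrArg (fun t => K.comap t) hg
  rw [h1, Scheme.IdealSheafData.comap_comp, Scheme.IdealSheafData.comap_comp]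

theorem fg_top_comap_affine {U V : Scheme.{u}} [IsAffine U] [IsAffine V] (g : U ⟶ V)
    (K : V.IdealSheafData) (h : (K.ideal ⟨⊤, isAffineOpen_top V⟩).FG) :
    ((K.comap g).ideal ⟨⊤, isAffineOpen_top U⟩).FG := by
  rw [comap_affine_factor g K]
  exact fg_top_comap_iso _ _ (fg_top_comap_SpecMap _ _ (fg_top_comap_iso _ _ h))

theorem fg_comap_of_le {X Y : Scheme.{u}} (f : X ⟶ Y) (K : Y.IdealSheafData)
    (U : X.affineOpens) (V : Y.affineOpens) (hUV : U.1 ≤ f ⁻¹ᵁ V.1) (h : (K.ideal V).FG) :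
    ((K.comap f).ideal U).FG := by
  haveI : IsAffine U.1.toScheme := U.2
  haveI : IsAffine V.1.toScheme := V.2
  have hres : U.1.ι ≫ f = f.resLE V.1 U.1 hUV ≫ V.1.ι := (Scheme.Hom.resLE_comp_ι f hUV).symm
  have hc : (K.comap f).comap U.1.ι = (K.comap V.1.ι).comap (f.resLE V.1 U.1 hUV) :=
    (Scheme.IdealSheafData.comap_comp K U.1.ι f).symm.trans
      ((congrArg (fun g => K.comap g) hres).trans
        (Scheme.IdealSheafData.comap_comp K _ V.1.ι))
  -- step F4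
  have h4 : ((K.comap V.1.ι).ideal ⟨⊤, isAffineOpen_top _⟩).FG := by
    apply fg_comap_openImm
    refine fg_transport K _ _ ?_ h
    apply Subtype.ext
    show V.1 = V.1.ι ''ᵁ ⊤
    simp
  have h3 := fg_top_comap_affine (f.resLE V.1 U.1 hUV) _ h4
  rw [← hc, Scheme.IdealSheafData.ideal_comap_of_isOpenImmersion] at h3
  have h5 := fg_of_fg_comap_iso (U.1.ι.appIso ⊤).symm _ h3
  refine fg_transport _ _ _ ?_ h5
  apply Subtype.ext
  show U.1.ι ''ᵁ ⊤ = U.1
  simp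

theorem cover_iSup {X Y : Scheme.{u}} (f : X ⟶ Y) :
    (⨆ p : {p : X.affineOpens × Y.affineOpens // p.1.1 ≤ f ⁻¹ᵁ p.2.1}, (p.1.1 : X.Opens)) = ⊤ := by
  rw [eq_top_iff]
  intro x _
  obtain ⟨V, hV, hxV, -⟩ := exists_isAffineOpen_mem_and_subset (x := f x) (U := ⊤)
    (TopologicalSpace.Opens.mem_top _)
  obtain ⟨W, hW, hxW, hWV⟩ := exists_isAffineOpen_mem_and_subset (x := x) (U := f ⁻¹ᵁ V) hxV
  exact TopologicalSpace.Opens.mem_iSup.mpr
    ⟨⟨(⟨W, hW⟩, ⟨V, hV⟩), (fun y hy => hWV hy : W ≤ f ⁻¹ᵁ V)⟩, hxW⟩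

section
variable {𝔛 𝔖 : FSch.Sys.{u}} (f : 𝔛 ⟶ 𝔖) (hf : FSch.IsAdicHom f)
include hf

theorem adic_toX_sq (m : ℕ) : IsPullback (𝔛.toX m) ((f : FSch.Hom _ _).app 0)
    ((f : FSch.Hom _ _).app m) (𝔖.toX m) := by
  induction m with
  | zero =>
    show IsPullback (𝟙 _) ((f : FSch.Hom _ _).app 0) ((f : FSch.Hom _ _).app 0) (𝟙 _)
    exact IsPullback.of_horiz_isIso ⟨by simp⟩
  | succ k ih =>
    show IsPullback (𝔛.toX k ≫ 𝔛.ι k) _ _ (𝔖.toX k ≫ 𝔖.ι k)
    exact ih.paste_horiz (hf k)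

theorem adic_formal (hF : 𝔖.IsFormal) : 𝔛.IsFormal := by
  intro n
  have sq := (hf n).flip
  refine ⟨MorphismProperty.of_isPullback (P := @IsClosedImmersion) sq (hF n).1, ?_⟩
  haveI : Surjective (𝔖.ι n) := ⟨(hF n).2⟩
  have hs : Surjective (𝔛.ι n) :=
    MorphismProperty.of_isPullback (P := @Surjective) sq inferInstance
  exact hs.surj

theorem adic_main (h𝔖 : 𝔖.IsLocNoethFormal) [IsLocallyNoetherian (𝔛.X 0)] :
    𝔛.IsLocNoethFormal := by
  obtain ⟨hF, hA, hN⟩ := h𝔖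
  have hFX := adic_formal f hf hF
  refine ⟨hFX, ?_, ?_⟩
  · intro n
    haveI := (hF n).1
    haveI := toX_isClosedImmersion 𝔖 hF (n + 1)
    have e1 := ker_fst_of_isPullback (hf n)
    have e2 := ker_fst_of_isPullback (adic_toX_sq f hf (n + 1))
    exact e1.trans ((congrArg (fun K => K.comap ((f : FSch.Hom _ _).app (n + 1))) (hA n)).trans
      ((comap_pow_succ _ _ n).trans (congrArg (fun K => K ^ (n + 1)) e2.symm)))
  · intro n
    haveI := toX_isClosedImmersion 𝔖 hF n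
    haveI := toX_isClosedImmersion 𝔛 hFX n
    haveI := hN n
    have e2 := ker_fst_of_isPullback (adic_toX_sq f hf n)
    have hnil : (𝔛.toX n).ker ^ (n + 1) = ⊥ := by
      rw [e2, ← comap_pow_succ, toX_ker_pow 𝔖 hF hA n, Scheme.IdealSheafData.comap_bot]
    refine isLocallyNoetherian_of_cover (𝔛.toX n) (n + 1) hnil
      (fun p : {p : (𝔛.X n).affineOpens × (𝔖.X n).affineOpens //
        p.1.1 ≤ ((f : FSch.Hom _ _).app n) ⁻¹ᵁ p.2.1} => p.1.1) (cover_iSup _) (fun p => ?_)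
    rw [e2]
    haveI : IsNoetherianRing Γ(𝔖.X n, p.1.2.1) := IsLocallyNoetherian.component_noetherian p.1.2
    exact fg_comap_of_le _ _ p.1.1 p.1.2 p.2 (IsNoetherian.noetherian _)

end

end H2ComapMul
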