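import Mathlib
import Groth.Prelude.Def_AnPts

/-! Helper library for the analytic-points block (complex topology on `X(ℂ)`). -/

open AlgebraicGeometry CategoryTheory TopologicalSpace Opposite An

namespace H2An

variable {X : Scheme.{0}} [X.Over SC]

/-- Evaluation at a `ℂ`-point as a ring homomorphism. -/
noncomputable def evHom (x : Pts X) (U : X.Opens) (h : x.pt ∈ U) : Γ(X, U) →+* ℂ :=
  (Scheme.ΓSpecIso (CommRingCat.of ℂ)).hom.hom.comp (x.1.appLE U ⊤ (x.top_le_preimage h)).hom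

lemma evHom_apply (x : Pts X) (U : X.Opens) (h : x.pt ∈ U) (f : Γ(X, U)) :
    evHom x U h f = x.ev U h f := rfl

lemma ev_res (x : Pts X) {U U' : X.Opens} (hle : U' ≤ U) (h' : x.pt ∈ U') (f : Γ(X, U)) :
    x.ev U' h' (X.presheaf.map (homOfLE hle).op f) = x.ev U (hle h') f := by
  unfold Pts.ev
  congr 1
  have := Scheme.Hom.map_appLE x.1 (x.top_le_preimage h') (homOfLE hle).op
  rw [← this]
  rfl

lemma ev_congr (x : Pts X) {U U' : X.Opens} (e : U = U') (h : x.pt ∈ U) (f : Γ(X, U)) :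
    x.ev U' (e ▸ h) (X.presheaf.map (eqToHom e.symm).op f) = x.ev U h f := by
  subst e
  simp

lemma evTop_strHom (x : Pts X) (c : ℂ) : x.evTop (strHom X c) = c := by
  unfold Pts.evTop Pts.ev strHom
  have h1 : (X ↘ SC).appTop ≫ x.1.appLE ⊤ ⊤ (x.top_le_preimage (Opens.mem_top _)) = 𝟙 _ := by
    have h2 : x.1.appLE ⊤ ⊤ (x.top_le_preimage (Opens.mem_top _)) = x.1.appTop := by
      change x.1.appLE ⊤ (x.1 ⁻¹ᵁ ⊤) le_rfl = x.1.app ⊤
      exact Scheme.Hom.appLE_eq_app _
    rw [h2, ← Scheme.Hom.comp_appTop, x.2]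
    rfl
  have h3 := ConcreteCategory.congr_hom h1 ((Scheme.ΓSpecIso (CommRingCat.of ℂ)).inv.hom c)
  simp only [RingHom.coe_comp, Function.comp_apply]
  rw [CommRingCat.comp_apply] at h3
  erw [h3]
  exact ConcreteCategory.congr_hom (Scheme.ΓSpecIso (CommRingCat.of ℂ)).inv_hom_id c

lemma cpt_mem_basicOpen_iff (r : Γ(SC, ⊤)) :
    cpt ∈ SC.basicOpen r ↔ (Scheme.ΓSpecIso (CommRingCat.of ℂ)).hom r ≠ 0 := by
  rw [basicOpen_eq_of_affine']
  have h : (cpt : PrimeSpectrum ℂ).asIdeal = ⊥ :=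
    @Ideal.eq_bot_of_prime _ _ _ (PrimeSpectrum.isPrime _)
  change _ ∉ (cpt : PrimeSpectrum ℂ).asIdeal ↔ _
  rw [h, Ideal.mem_bot]

lemma mem_basicOpen_iff (x : Pts X) (U : X.Opens) (h : x.pt ∈ U) (a : Γ(X, U)) :
    x.pt ∈ X.basicOpen a ↔ x.ev U h a ≠ 0 := by
  have h1 : x.pt ∈ X.basicOpen a ↔ cpt ∈ x.1 ⁻¹ᵁ X.basicOpen a := Iff.rfl
  unfold Pts.ev
  rw [h1, ← cpt_mem_basicOpen_iff, Scheme.basicOpen_appLE]
  simp

lemma basicSet_res {V V' : X.Opens} (hle : V' ≤ V) (f : Γ(X, V)) (W : Set ℂ) :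
    Pts.basicSet V' (X.presheaf.map (homOfLE hle).op f) W =
      Pts.basicSet V f W ∩ Pts.pt ⁻¹' (V' : Set X) := by
  ext x
  constructor
  · rintro ⟨h, hv⟩
    rw [ev_res] at hv
    exact ⟨⟨hle h, hv⟩, h⟩
  · rintro ⟨⟨h, hv⟩, h'⟩
    refine ⟨h', ?_⟩
    rw [ev_res]
    exact hv

lemma basicSet_subset_preimage (V : X.Opens) (f : Γ(X, V)) (W : Set ℂ) :
    Pts.basicSet V f W ⊆ Pts.pt ⁻¹' (V : Set X) := fun _ hx => hx.1

section OpenImm

variable {U : Scheme.{0}} [U.Over SC] (j : U ⟶ X) [j.IsOver SC]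

lemma map_injective_of_mono [Mono j] : Function.Injective (Pts.map j) := by
  intro x y h
  apply Subtype.ext
  have := congrArg Subtype.val h
  simp only [Pts.map_val] at this
  exact (cancel_mono j).1 this

lemma range_map_of_isOpenImmersion [IsOpenImmersion j] :
    Set.range (Pts.map j) = Pts.pt ⁻¹' (Set.range j) := by
  ext x
  constructor
  · rintro ⟨u, rfl⟩
    rw [Set.mem_preimage, Pts.pt_map]
    exact ⟨u.pt, rfl⟩
  · intro hx
    have H : Set.range x.1 ⊆ Set.range j := by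
      rintro _ ⟨p, rfl⟩
      rw [eq_cpt p]; exact hx
    refine ⟨⟨IsOpenImmersion.lift j x.1 H, ?_⟩, ?_⟩
    · rw [← comp_over j, ← Category.assoc, IsOpenImmersion.lift_fac, x.2]
    · apply Subtype.ext
      exact IsOpenImmersion.lift_fac _ _ _

lemma basicSet_eq_preimage_of_isOpenImmersion [IsOpenImmersion j] (V : U.Opens) (g : Γ(U, V))
    (W : Set ℂ) :
    Pts.basicSet V g W = Pts.map j ⁻¹' Pts.basicSet (j ''ᵁ V) ((j.appIso V).inv g) W := by
  rw [Pts.preimage_basicSet]
  have hle : V ≤ j ⁻¹ᵁ j ''ᵁ V := (j.preimage_image_eq V).ge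
  have hg : g = U.presheaf.map (homOfLE hle).op (j.app (j ''ᵁ V) ((j.appIso V).inv g)) := by
    have h1 : (j.appIso V).hom ((j.appIso V).inv g) = g :=
      ConcreteCategory.congr_hom (j.appIso V).inv_hom_id g
    rw [Scheme.Hom.appIso_hom'] at h1
    exact h1.symm
  conv_lhs => rw [hg]
  rw [basicSet_res]
  apply Set.inter_eq_left.2
  intro x hx
  have := basicSet_subset_preimage _ _ _ hx
  rw [j.preimage_image_eq V] at this
  exact this

lemma isInducing_map_of_isOpenImmersion [IsOpenImmersion j] :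
    Topology.IsInducing (Pts.map j) := by
  constructor
  apply le_antisymm
  · exact (Pts.continuous_map j).le_induced
  · apply le_generateFrom
    rintro _ ⟨V, g, W, hW, rfl⟩
    rw [basicSet_eq_preimage_of_isOpenImmersion j]
    exact isOpen_induced_iff.2 ⟨_, Pts.isOpen_basicSet _ _ hW, rfl⟩

lemma isOpenEmbedding_map_of_isOpenImmersion [IsOpenImmersion j] :
    Topology.IsOpenEmbedding (Pts.map j) := by
  refine ⟨⟨isInducing_map_of_isOpenImmersion j, map_injective_of_mono j⟩, ?_⟩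
  rw [range_map_of_isOpenImmersion]
  exact Pts.isOpen_preimage_pt j.opensRange

end OpenImm

lemma appLE_top_top (x : Pts X) :
    x.1.appLE ⊤ ⊤ (x.top_le_preimage (Opens.mem_top _)) = x.1.appTop := by
  change x.1.appLE ⊤ (x.1 ⁻¹ᵁ ⊤) le_rfl = x.1.app ⊤
  exact Scheme.Hom.appLE_eq_app _

lemma evTop_eq (x : Pts X) (f : Γ(X, ⊤)) :
    x.evTop f = (Scheme.ΓSpecIso (CommRingCat.of ℂ)).hom (x.1.appTop f) := by
  unfold Pts.evTop Pts.ev
  rw [appLE_top_top]

lemma continuous_evTop (f : Γ(X, ⊤)) : Continuous (fun x : Pts X => x.evTop f) := by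
  refine continuous_def.2 fun W hW => ?_
  have : (fun x : Pts X => x.evTop f) ⁻¹' W = Pts.basicSet ⊤ f W := by
    ext x
    constructor
    · intro h; exact ⟨Opens.mem_top _, h⟩
    · rintro ⟨_, h⟩; exact h
  rw [this]
  exact Pts.isOpen_basicSet _ _ hW

lemma isoSpec_inv_appTop' (X : Scheme.{0}) [IsAffine X] :
    X.isoSpec.inv.appTop = (Scheme.ΓSpecIso Γ(X, ⊤)).inv := by
  have h : X.isoSpec.inv.appTop ≫ X.isoSpec.hom.appTop = 𝟙 _ := by
    rw [← Scheme.Hom.comp_appTop, Iso.hom_inv_id]; rfl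
  rw [Scheme.isoSpec_hom, Scheme.toSpecΓ_appTop] at h
  rw [← Category.comp_id (X.isoSpec.inv.appTop), ← (Scheme.ΓSpecIso Γ(X, ⊤)).hom_inv_id,
    ← Category.assoc, h, Category.id_comp]

lemma ofHom_strHom (X : Scheme.{0}) [X.Over SC] :
    CommRingCat.ofHom (strHom X) =
      (Scheme.ΓSpecIso (CommRingCat.of ℂ)).inv ≫ (X ↘ SC).appTop := rfl

section Affine

variable [IsAffine X]

lemma ptOf_aux (φ : Γ(X, ⊤) →+* ℂ) (hφ : φ.comp (strHom X) = RingHom.id ℂ) :
    (Spec.map (CommRingCat.ofHom φ) ≫ X.isoSpec.inv) ≫ (X ↘ SC) = 𝟙 SC := by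
  apply ext_of_isAffine
  rw [← cancel_mono (Scheme.ΓSpecIso (CommRingCat.of ℂ)).hom]
  simp only [Scheme.Hom.comp_appTop, Category.assoc, isoSpec_inv_appTop',
    Scheme.ΓSpecIso_naturality]
  have key : (Scheme.ΓSpecIso Γ(X, ⊤)).inv ≫
      (Scheme.ΓSpecIso (CommRingCat.of ↑Γ(X, ⊤))).hom ≫ CommRingCat.ofHom φ =
        CommRingCat.ofHom φ := Iso.inv_hom_id_assoc _ _
  rw [key]
  have h1 : CommRingCat.ofHom (strHom X) ≫ CommRingCat.ofHom φ = 𝟙 _ := by
    apply CommRingCat.hom_ext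
    rw [CommRingCat.hom_comp, CommRingCat.hom_ofHom, CommRingCat.hom_ofHom, hφ]
    rfl
  rw [ofHom_strHom, Category.assoc] at h1
  rw [← cancel_epi (Scheme.ΓSpecIso (CommRingCat.of ℂ)).inv, h1]
  simp

/-- The `ℂ`-point of an affine scheme over `ℂ` attached to a `ℂ`-algebra map `Γ(X) → ℂ`. -/
noncomputable def ptOf (φ : Γ(X, ⊤) →+* ℂ) (hφ : φ.comp (strHom X) = RingHom.id ℂ) : Pts X :=
  ⟨Spec.map (CommRingCat.ofHom φ) ≫ X.isoSpec.inv, ptOf_aux φ hφ⟩

lemma evTop_ptOf (φ : Γ(X, ⊤) →+* ℂ) (hφ : φ.comp (strHom X) = RingHom.id ℂ) (f : Γ(X, ⊤)) :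
    (ptOf φ hφ).evTop f = φ f := by
  rw [evTop_eq]
  change ((Spec.map (CommRingCat.ofHom φ) ≫ X.isoSpec.inv).appTop ≫
    (Scheme.ΓSpecIso (CommRingCat.of ℂ)).hom) f = φ f
  simp only [Scheme.Hom.comp_appTop, Category.assoc, isoSpec_inv_appTop',
    Scheme.ΓSpecIso_naturality]
  have key : (Scheme.ΓSpecIso Γ(X, ⊤)).inv ≫
      (Scheme.ΓSpecIso (CommRingCat.of ↑Γ(X, ⊤))).hom ≫ CommRingCat.ofHom φ =
        CommRingCat.ofHom φ := Iso.inv_hom_id_assoc _ _
  rw [key]
  rfl

lemma pts_ext_of_isAffine {x y : Pts X} (h : ∀ f, x.evTop f = y.evTop f) : x = y := by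
  apply Subtype.ext
  apply ext_of_isAffine
  apply CommRingCat.hom_ext
  apply RingHom.ext
  intro f
  have := h f
  rw [evTop_eq, evTop_eq] at this
  exact (Scheme.ΓSpecIso (CommRingCat.of ℂ)).commRingCatIsoToRingEquiv.injective this

lemma isOpen_aux (k : ℕ) {W : Set ℂ} (hW : IsOpen W) :
    IsOpen {p : ℂ × ℂ | p.1 ≠ 0 ∧ p.2 / p.1 ^ k ∈ W} := by
  have h1 : ContinuousOn (fun p : ℂ × ℂ => p.2 / p.1 ^ k) {p : ℂ × ℂ | p.1 ≠ 0} :=
    ContinuousOn.div continuousOn_snd (continuousOn_fst.pow k) (fun p hp => pow_ne_zero k hp)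
  have h2 : IsOpen {p : ℂ × ℂ | p.1 ≠ 0} := isOpen_ne.preimage continuous_fst
  exact h1.isOpen_inter_preimage h2 hW

/-- On an affine scheme over `ℂ`, the complex topology on `X(ℂ)` is the weak topology of the
evaluations of global sections. -/
lemma isInducing_evTop : Topology.IsInducing (fun (x : Pts X) (f : Γ(X, ⊤)) => x.evTop f) := by
  constructor
  apply le_antisymm
  · exact (continuous_pi continuous_evTop).le_induced
  · apply le_generateFrom
    rintro _ ⟨U, f, W, hW, rfl⟩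
    rw [@isOpen_iff_forall_mem_open]
    intro x₀ hx₀
    obtain ⟨hx₀U, hx₀W⟩ := hx₀
    obtain ⟨a, haU, hax₀⟩ := (isAffineOpen_top X).exists_basicOpen_le (V := U) ⟨x₀.pt, hx₀U⟩
      (Opens.mem_top _)
    obtain ⟨k, b, hb⟩ := IsLocalization.Away.surj (S := Γ(X, X.basicOpen a)) a
      (X.presheaf.map (homOfLE haU).op f)
    have hle : X.basicOpen a ≤ ⊤ := le_top
    have ha' : algebraMap Γ(X, ⊤) Γ(X, X.basicOpen a) a = X.presheaf.map (homOfLE hle).op a := rfl
    have hb' : algebraMap Γ(X, ⊤) Γ(X, X.basicOpen a) b = X.presheaf.map (homOfLE hle).op b := rfl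
    rw [ha', hb'] at hb
    have key : ∀ x : Pts X, ∀ hx : x.pt ∈ X.basicOpen a,
        x.ev U (haU hx) f * x.evTop a ^ k = x.evTop b := by
      intro x hx
      have h1 := congrArg (evHom x (X.basicOpen a) hx) hb
      rw [map_mul, map_pow, evHom_apply, evHom_apply, evHom_apply, ev_res, ev_res, ev_res] at h1
      exact h1
    refine ⟨(fun (x : Pts X) (g : Γ(X, ⊤)) => x.evTop g) ⁻¹'
      ((fun F : Γ(X, ⊤) → ℂ => (F a, F b)) ⁻¹' {p : ℂ × ℂ | p.1 ≠ 0 ∧ p.2 / p.1 ^ k ∈ W}),
      ?_, ?_, ?_⟩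
    · rintro x ⟨hxa, hxW⟩
      simp only at hxa hxW
      have hx : x.pt ∈ X.basicOpen a := (mem_basicOpen_iff x ⊤ (Opens.mem_top _) a).2 hxa
      refine ⟨haU hx, ?_⟩
      have h2 := key x hx
      have h3 : x.ev U (haU hx) f = x.evTop b / x.evTop a ^ k := by
        rw [eq_div_iff (pow_ne_zero k hxa)]
        exact h2
      rw [h3]
      exact hxW
    · refine isOpen_induced_iff.2 ⟨_, ?_, rfl⟩
      apply (isOpen_aux k hW).preimage
      exact (continuous_apply a).prodMk (continuous_apply b)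
    · have hxa : x₀.evTop a ≠ 0 := (mem_basicOpen_iff x₀ ⊤ (Opens.mem_top _) a).1 hax₀
      refine ⟨hxa, ?_⟩
      simp only
      have h2 := key x₀ hax₀
      have h3 : x₀.ev U (haU hax₀) f = x₀.evTop b / x₀.evTop a ^ k := by
        rw [eq_div_iff (pow_ne_zero k hxa)]
        exact h2
      rw [← h3]
      exact hx₀W

lemma evTop_eval₂ {n : ℕ} (s : Fin n → Γ(X, ⊤)) (x : Pts X) (P : MvPolynomial (Fin n) ℂ) :
    x.evTop (MvPolynomial.eval₂Hom (strHom X) s P) =
      MvPolynomial.eval (fun i => x.evTop (s i)) P := by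
  have h : (evHom x ⊤ (Opens.mem_top _)).comp (MvPolynomial.eval₂Hom (strHom X) s) =
      MvPolynomial.eval (fun i => x.evTop (s i)) := by
    apply MvPolynomial.ringHom_ext
    · intro c
      simp only [RingHom.coe_comp, Function.comp_apply, MvPolynomial.eval₂Hom_C,
        MvPolynomial.eval_C]
      exact evTop_strHom x c
    · intro i
      simp only [RingHom.coe_comp, Function.comp_apply, MvPolynomial.eval₂Hom_X',
        MvPolynomial.eval_X]
      rfl
  exact RingHom.congr_fun h P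

/-- Generators of the coordinate ring of an affine `ℂ`-scheme give a closed embedding of its
`ℂ`-points into `ℂⁿ`. -/
theorem isClosedEmbedding_of_generators {n : ℕ} (s : Fin n → Γ(X, ⊤))
    (hs : Function.Surjective (MvPolynomial.eval₂Hom (strHom X) s)) :
    Topology.IsClosedEmbedding (fun (x : Pts X) (i : Fin n) => x.evTop (s i)) := by
  classical
  set E : Pts X → (Fin n → ℂ) := fun x i => x.evTop (s i) with hE
  have hEc : Continuous E := continuous_pi fun i => continuous_evTop (s i)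
  choose Q hQ using hs
  let Ψ : (Fin n → ℂ) → (Γ(X, ⊤) → ℂ) := fun c f => MvPolynomial.eval c (Q f)
  have hΨc : Continuous Ψ := continuous_pi fun f => MvPolynomial.continuous_eval (Q f)
  have hΨE : Ψ ∘ E = fun (x : Pts X) (f : Γ(X, ⊤)) => x.evTop f := by
    funext x f
    change MvPolynomial.eval (fun i => x.evTop (s i)) (Q f) = x.evTop f
    rw [← evTop_eval₂, hQ]
  have hind : Topology.IsInducing E := by
    apply Topology.IsInducing.of_comp hEc hΨc
    rw [hΨE]
    exact isInducing_evTop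
  have hinj : Function.Injective E := by
    intro x y hxy
    apply pts_ext_of_isAffine
    intro f
    rw [← hQ f, evTop_eval₂, evTop_eval₂]
    exact congrArg (fun c => MvPolynomial.eval c (Q f)) hxy
  refine ⟨⟨hind, hinj⟩, ?_⟩
  have hrange : Set.range E = ⋂ P ∈ {P : MvPolynomial (Fin n) ℂ |
      MvPolynomial.eval₂Hom (strHom X) s P = 0}, {c : Fin n → ℂ | MvPolynomial.eval c P = 0} := by
    ext c
    simp only [Set.mem_range, Set.mem_iInter, Set.mem_ofPred_eq]
    constructor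
    · rintro ⟨x, rfl⟩ P hP
      change MvPolynomial.eval (fun i => x.evTop (s i)) P = 0
      rw [← evTop_eval₂, hP]
      exact map_zero (evHom x ⊤ (Opens.mem_top _))
    · intro hc
      have hker : ∀ P, MvPolynomial.eval₂Hom (strHom X) s P = 0 →
          MvPolynomial.eval c P = 0 := hc
      let φ : Γ(X, ⊤) →+* ℂ := RingHom.liftOfSurjective (MvPolynomial.eval₂Hom (strHom X) s)
        (fun f => ⟨Q f, hQ f⟩) ⟨MvPolynomial.eval c, fun P hP => hker P hP⟩
      have hφ' : ∀ P, φ (MvPolynomial.eval₂Hom (strHom X) s P) = MvPolynomial.eval c P := by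
        intro P
        exact RingHom.liftOfRightInverse_comp_apply _ _ _ _ P
      have hφ : φ.comp (strHom X) = RingHom.id ℂ := by
        apply RingHom.ext
        intro z
        have := hφ' (MvPolynomial.C z)
        simp only [MvPolynomial.eval₂Hom_C, MvPolynomial.eval_C] at this
        exact this
      refine ⟨ptOf φ hφ, ?_⟩
      funext i
      change (ptOf φ hφ).evTop (s i) = c i
      rw [evTop_ptOf]
      have := hφ' (MvPolynomial.X i)
      simp only [MvPolynomial.eval₂Hom_X', MvPolynomial.eval_X] at this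
      exact this
  rw [hrange]
  apply isClosed_biInter
  intro P _
  exact isClosed_eq (MvPolynomial.continuous_eval P) continuous_const

lemma exists_pt_of_zero {n : ℕ} (s : Fin n → Γ(X, ⊤))
    (hs : Function.Surjective (MvPolynomial.eval₂Hom (strHom X) s)) (c : Fin n → ℂ)
    (hc : ∀ P, MvPolynomial.eval₂Hom (strHom X) s P = 0 → MvPolynomial.eval c P = 0) :
    ∃ x : Pts X, (fun i => x.evTop (s i)) = c := by
  classical
  choose Q hQ using hs
  let φ : Γ(X, ⊤) →+* ℂ := RingHom.liftOfSurjective (MvPolynomial.eval₂Hom (strHom X) s)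
    (fun f => ⟨Q f, hQ f⟩) ⟨MvPolynomial.eval c, fun P hP => hc P hP⟩
  have hφ' : ∀ P, φ (MvPolynomial.eval₂Hom (strHom X) s P) = MvPolynomial.eval c P := by
    intro P
    exact RingHom.liftOfRightInverse_comp_apply _ _ _ _ P
  have hφ : φ.comp (strHom X) = RingHom.id ℂ := by
    apply RingHom.ext
    intro z
    have := hφ' (MvPolynomial.C z)
    simp only [MvPolynomial.eval₂Hom_C, MvPolynomial.eval_C] at this
    exact this
  refine ⟨ptOf φ hφ, ?_⟩
  funext i
  rw [evTop_ptOf]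
  have := hφ' (MvPolynomial.X i)
  simp only [MvPolynomial.eval₂Hom_X', MvPolynomial.eval_X] at this
  exact this

lemma exists_generators [LocallyOfFiniteType (X ↘ SC)] :
    ∃ (n : ℕ) (s : Fin n → Γ(X, ⊤)),
      Function.Surjective (MvPolynomial.eval₂Hom (strHom X) s) := by
  have h1 : ((X ↘ SC).appTop).hom.FiniteType :=
    (HasRingHomProperty.iff_of_isAffine (P := @LocallyOfFiniteType)).1 inferInstance
  have h2 : (strHom X).FiniteType := by
    unfold strHom
    exact h1.comp (RingHom.FiniteType.of_surjective _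
      (Scheme.ΓSpecIso (CommRingCat.of ℂ)).symm.commRingCatIsoToRingEquiv.surjective)
  letI := (strHom X).toAlgebra
  have h3 : Algebra.FiniteType ℂ Γ(X, ⊤) := h2
  obtain ⟨n, f, hf⟩ := Algebra.FiniteType.iff_quotient_mvPolynomial''.1 h3
  refine ⟨n, fun i => f (MvPolynomial.X i), ?_⟩
  have h4 : (MvPolynomial.eval₂Hom (strHom X) fun i => f (MvPolynomial.X i)) = f.toRingHom := by
    apply MvPolynomial.ringHom_ext
    · intro c
      simp only [MvPolynomial.eval₂Hom_C]
      exact (f.commutes c).symm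
    · intro i
      simp
  rw [h4]
  exact hf

lemma nonempty_pts_of_affine [LocallyOfFiniteType (X ↘ SC)] [Nonempty X] : Nonempty (Pts X) := by
  obtain ⟨n, s, hs⟩ := exists_generators (X := X)
  haveI : Nontrivial Γ(X, ⊤) :=
    @Scheme.component_nontrivial X ⊤ ⟨⟨Classical.arbitrary X, trivial⟩⟩
  have hI : RingHom.ker (MvPolynomial.eval₂Hom (strHom X) s) ≠ ⊤ := RingHom.ker_ne_top _
  obtain ⟨M, hM, hIM⟩ := Ideal.exists_le_maximal _ hI
  obtain ⟨c, hc⟩ := MvPolynomial.eq_vanishingIdeal_singleton_of_isMaximal ℂ hM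
  obtain ⟨x, -⟩ := exists_pt_of_zero s hs c (fun P hP => by
    have h1 : P ∈ M := hIM hP
    rw [hc, MvPolynomial.mem_vanishingIdeal_singleton_iff] at h1
    rwa [MvPolynomial.aeval_eq_eval] at h1)
  exact ⟨x⟩

lemma locallyCompactSpace_of_affine [LocallyOfFiniteType (X ↘ SC)] :
    LocallyCompactSpace (Pts X) := by
  obtain ⟨n, s, hs⟩ := exists_generators (X := X)
  exact (isClosedEmbedding_of_generators s hs).locallyCompactSpace

end Affine

section ClosedImm

variable {Z : Scheme.{0}} [Z.Over SC] (i : Z ⟶ X) [i.IsOver SC]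

lemma quasiCompact_pt (x : Pts X) : QuasiCompact x.1 := by
  constructor
  intro U _ _
  apply Set.Subsingleton.isCompact
  intro a _ b _
  exact (eq_cpt a).trans (eq_cpt b).symm

lemma ker_le_of_pt_mem_range [IsClosedImmersion i] (x : Pts X) (hx : x.pt ∈ Set.range i) :
    i.ker ≤ x.1.ker := by
  haveI := quasiCompact_pt x
  rw [Scheme.IdealSheafData.le_def]
  intro U
  rw [Scheme.Hom.ker_apply x.1 U]
  refine (Scheme.Hom.ideal_ker_le i U).trans ?_
  intro s hs
  rw [RingHom.mem_ker] at hs ⊢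
  obtain ⟨z, hz⟩ := hx
  have h0 : (x.1.app U).hom s = x.1.app U s := rfl
  rw [h0, ← basicOpen_eq_bot_iff, ← Scheme.preimage_basicOpen]
  apply Opens.ext
  ext p
  simp only [Opens.coe_bot, Set.mem_empty_iff_false, iff_false]
  intro hp
  have h1 : x.pt ∈ X.basicOpen s := by
    rw [eq_cpt p] at hp
    exact hp
  rw [← hz] at h1
  have h2 : z ∈ i ⁻¹ᵁ X.basicOpen s := h1
  have h3 : i.app U s = 0 := hs
  rw [Scheme.preimage_basicOpen, h3, Scheme.basicOpen_zero] at h2
  exact h2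

lemma range_map_of_isClosedImmersion [IsClosedImmersion i] :
    Set.range (Pts.map i) = Pts.pt ⁻¹' (Set.range i) := by
  ext x
  constructor
  · rintro ⟨u, rfl⟩
    rw [Set.mem_preimage, Pts.pt_map]
    exact ⟨u.pt, rfl⟩
  · intro hx
    have H := ker_le_of_pt_mem_range i x hx
    refine ⟨⟨IsClosedImmersion.lift i x.1 H, ?_⟩, ?_⟩
    · rw [← comp_over i, ← Category.assoc, IsClosedImmersion.lift_fac, x.2]
    · apply Subtype.ext
      exact IsClosedImmersion.lift_fac _ _ _

lemma isInducing_map_of_isClosedImmersion [IsClosedImmersion i] :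
    Topology.IsInducing (Pts.map i) := by
  constructor
  apply le_antisymm
  · exact (Pts.continuous_map i).le_induced
  · apply le_generateFrom
    rintro _ ⟨V, g, W, hW, rfl⟩
    rw [@isOpen_iff_forall_mem_open]
    rintro z₀ ⟨hz₀V, hz₀W⟩
    obtain ⟨V', hV'o, hV'⟩ := i.isEmbedding.isInducing.isOpen_iff.1 V.2
    have hiz : i z₀.pt ∈ (⟨V', hV'o⟩ : X.Opens) := by
      change z₀.pt ∈ i ⁻¹' V'
      rw [hV']
      exact hz₀V
    obtain ⟨U, hU, hzU, hUV'⟩ := exists_isAffineOpen_mem_and_subset hiz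
    have hle : i ⁻¹ᵁ U ≤ V := by
      intro z hz
      have : z ∈ i ⁻¹' V' := hUV' hz
      rw [hV'] at this
      exact this
    obtain ⟨G, hG⟩ := i.app_surjective U hU (Z.presheaf.map (homOfLE hle).op g)
    refine ⟨Pts.map i ⁻¹' Pts.basicSet U G W, ?_,
      isOpen_induced_iff.2 ⟨_, Pts.isOpen_basicSet _ _ hW, rfl⟩, ?_⟩
    · rw [Pts.preimage_basicSet, hG, basicSet_res]
      exact Set.inter_subset_left
    · rw [Pts.preimage_basicSet, hG, basicSet_res]
      exact ⟨⟨hz₀V, hz₀W⟩, hzU⟩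

lemma isClosedEmbedding_map_of_isClosedImmersion [IsClosedImmersion i] :
    Topology.IsClosedEmbedding (Pts.map i) := by
  refine ⟨⟨isInducing_map_of_isClosedImmersion i, map_injective_of_mono i⟩, ?_⟩
  rw [range_map_of_isClosedImmersion]
  exact (i.isClosedEmbedding.isClosed_range).preimage Pts.continuous_pt

end ClosedImm

section FiniteType

variable [LocallyOfFiniteType (X ↘ SC)]

lemma closedPoint_eq_cpt : (IsLocalRing.closedPoint ℂ : PrimeSpectrum ℂ) = cpt := eq_cpt _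

lemma pt_injective : Function.Injective (Pts.pt : Pts X → X) := by
  intro x y h
  have h' : x.1 (IsLocalRing.closedPoint ℂ) = y.1 (IsLocalRing.closedPoint ℂ) := by
    rw [closedPoint_eq_cpt]
    exact h
  exact Subtype.ext (ext_of_apply_closedPoint_eq (X ↘ SC) x.2 y.2 h')

lemma isClosed_pt (x : Pts X) : IsClosed ({x.pt} : Set X) := by
  have h := ((pointEquivClosedPoint (X ↘ SC)) ⟨x.1, x.2⟩).2
  have e : ((pointEquivClosedPoint (X ↘ SC)) ⟨x.1, x.2⟩ : X) = x.pt := by
    change x.1 (IsLocalRing.closedPoint ℂ) = x.1 cpt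
    rw [closedPoint_eq_cpt]
  rw [e] at h
  exact h

lemma exists_pt_eq (p : X) (hp : IsClosed ({p} : Set X)) : ∃ x : Pts X, x.pt = p :=
  ⟨⟨pointOfClosedPoint (X ↘ SC) p hp, pointOfClosedPoint_comp _ _ _⟩,
    pointOfClosedPoint_apply _ _ _ _⟩

lemma jacobsonSpace : JacobsonSpace X := LocallyOfFiniteType.jacobsonSpace (X ↘ SC)

lemma isLocallyNoetherian : IsLocallyNoetherian X :=
  LocallyOfFiniteType.isLocallyNoetherian (X ↘ SC)

end FiniteType

/-- Lifting `ℂ`-points along a morphism: a `ℂ`-point in the image lifts. -/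
lemma exists_pt_lift {X Y : Scheme.{0}} [X.Over SC] [Y.Over SC]
    [LocallyOfFiniteType (X ↘ SC)] [LocallyOfFiniteType (Y ↘ SC)] (f : X ⟶ Y) [f.IsOver SC]
    (y : Pts Y) (x₀ : X) (hx₀ : f x₀ = y.pt) : ∃ x : Pts X, Pts.map f x = y := by
  haveI : JacobsonSpace X := jacobsonSpace
  have hyc : IsClosed ({y.pt} : Set Y) := isClosed_pt y
  have hZc : IsClosed (f ⁻¹' {y.pt}) := hyc.preimage f.continuous
  obtain ⟨p, hpZ, hpc⟩ := nonempty_inter_closedPoints (Z := f ⁻¹' {y.pt}) ⟨x₀, hx₀⟩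
    hZc.isLocallyClosed
  obtain ⟨x, hx⟩ := exists_pt_eq p hpc
  refine ⟨x, pt_injective ?_⟩
  rw [Pts.pt_map, hx]
  exact hpZ

/-- In a compact quasi-separated Jacobson space with a basis of compact opens, every nonempty
constructible set contains a closed point. -/
lemma nonempty_inter_closedPoints_of_isConstructible {T : Type*} [TopologicalSpace T]
    [CompactSpace T] [QuasiSeparatedSpace T] [JacobsonSpace T] {ι : Type*} [Nonempty ι]
    (b : ι → Set T) (basis : TopologicalSpace.IsTopologicalBasis (Set.range b))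
    (hb : ∀ i, IsCompact (b i)) (s : Set T) (hs : Topology.IsConstructible s) :
    s.Nonempty → (s ∩ closedPoints T).Nonempty := by
  induction s, hs using Topology.IsConstructible.induction_of_isTopologicalBasis b basis hb with
  | sdiff i t ht =>
    intro hne
    apply nonempty_inter_closedPoints hne
    have h1 : IsOpen (b i) := basis.isOpen ⟨i, rfl⟩
    have h2 : IsOpen (⋃ j ∈ t, b j) := isOpen_biUnion fun j _ => basis.isOpen ⟨j, rfl⟩
    exact h1.isLocallyClosed.inter h2.isClosed_compl.isLocallyClosed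
  | union s hs t ht hs' ht' =>
    rintro ⟨x, hx | hx⟩
    · obtain ⟨y, hy, hy'⟩ := hs' ⟨x, hx⟩
      exact ⟨y, Or.inl hy, hy'⟩
    · obtain ⟨y, hy, hy'⟩ := ht' ⟨x, hx⟩
      exact ⟨y, Or.inr hy, hy'⟩

end H2An
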