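import Mathlib
import Groth.Prelude.Def_AnEps
import Groth.Agent.Lib.helper2.AnPts

/-! Continuity of the comparison functor `ε : X_et → X(ℂ)_cl`. -/

open AlgebraicGeometry CategoryTheory CategoryTheory.Limits TopologicalSpace Opposite An

namespace H2An

variable (X : Scheme.{0}) [X.Over SC] [LocallyOfFiniteType (X ↘ SC)]

instance lft_etale (U : X.Etale) : LocallyOfFiniteType (U.left ↘ SC) :=
  inferInstanceAs (LocallyOfFiniteType ((U.left ↘ X) ≫ X ↘ SC))

variable [Fact EtaleLH]

lemma isLocalHomeomorph_map {U V : X.Etale} (k : V ⟶ U) :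
    IsLocalHomeomorph (Pts.map (X := V.left) (Y := U.left) k.left) :=
  (Fact.out : EtaleLH) V.left U.left k.left

set_option backward.isDefEq.respectTransparency.types false in
theorem coverPreserving_eps :
    CoverPreserving X.smallEtaleTopology (Cl.topology (Pts X)) (eps X) := by
  constructor
  intro U S hS
  have eX : X.smallEtaleTopology =
      (X.smallPretopology (P := EtCoh.etaleMP) (Q := EtCoh.etaleMP)).toGrothendieck :=
    Scheme.smallGrothendieckTopology_eq_toGrothendieck_smallPretopology X le_rfl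
  rw [eX] at hS
  replace hS := (Scheme.mem_toGrothendieck_smallPretopology U S).1 hS
  intro a
  obtain ⟨V, k, v, hSk, -, hv⟩ := hS (Pts.pt (X := U.left) a)
  obtain ⟨b, hb⟩ := exists_pt_lift (X := V.left) (Y := U.left) k.left a v hv
  obtain ⟨φ, hbφ, hφ⟩ := isLocalHomeomorph_map X k b
  refine ⟨Cl.restrictOpen ((eps X).obj V) φ.source φ.open_source,
    Cl.restrictOpenι ((eps X).obj V) φ.source φ.open_source ≫ (eps X).map k,
    ⟨V, k, Cl.restrictOpenι ((eps X).obj V) φ.source φ.open_source, hSk, rfl⟩, ?_, ?_⟩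
  · change Topology.IsOpenEmbedding
      (fun w : φ.source => Pts.map (X := V.left) (Y := U.left) k.left w.1)
    rw [hφ]
    exact φ.isOpenEmbedding_restrict
  · exact ⟨⟨b, hbφ⟩, hb⟩

universe w

set_option backward.isDefEq.respectTransparency.types false in
theorem compatiblePreserving_eps :
    CompatiblePreserving.{w} (Cl.topology (Pts X)) (eps X) := by
  constructor
  intro ℱ Z T x hx Y₁ Y₂ X' f₁ f₂ g₁ g₂ hg₁ hg₂ heq
  let P : X.Etale := pullback g₁ g₂
  let π₁ : P ⟶ Y₁ := pullback.fst g₁ g₂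
  let π₂ : P ⟶ Y₂ := pullback.snd g₁ g₂
  have hπ : π₁ ≫ g₁ = π₂ ≫ g₂ := pullback.condition
  have hP : IsPullback π₁.left π₂.left g₁.left g₂.left :=
    (IsPullback.of_hasPullback g₁ g₂).map (Scheme.Etale.forget X ⋙ Over.forget X)
  have hc : ((eps X).op ⋙ ℱ.obj).map π₁.op (x g₁ hg₁) =
      ((eps X).op ⋙ ℱ.obj).map π₂.op (x g₂ hg₂) := hx π₁ π₂ hg₁ hg₂ hπ
  set s₁ := ℱ.obj.map f₁.op (x g₁ hg₁) with hs₁
  set s₂ := ℱ.obj.map f₂.op (x g₂ hg₂) with hs₂
  let S : Sieve X' :=
    { arrows := fun B j => ℱ.obj.map j.op s₁ = ℱ.obj.map j.op s₂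
      downward_closed := by
        intro B B' j hj k
        change ℱ.obj.map (k ≫ j).op s₁ = ℱ.obj.map (k ≫ j).op s₂
        rw [op_comp, Functor.map_comp]
        simp only [types_comp_apply]
        rw [hj] }
  have hS : S ∈ Cl.topology (Pts X) X' := by
    intro a
    let y₁ : Pts Y₁.left := f₁.toFun a
    let y₂ : Pts Y₂.left := f₂.toFun a
    have hy : Pts.map (X := Y₁.left) (Y := Z.left) g₁.left y₁ =
        Pts.map (X := Y₂.left) (Y := Z.left) g₂.left y₂ :=
      congrArg (fun m => m.toFun a) heq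
    have hy' : y₁.1 ≫ g₁.left = y₂.1 ≫ g₂.left := congrArg Subtype.val hy
    let z : Pts P.left := ⟨hP.lift y₁.1 y₂.1 hy', by
      have h1 : (P.left ↘ SC) = π₁.left ≫ (Y₁.left ↘ SC) := (comp_over π₁.left SC).symm
      rw [h1, ← Category.assoc, hP.lift_fst, y₁.2]⟩
    have hz₁ : Pts.map (X := P.left) (Y := Y₁.left) π₁.left z = y₁ :=
      Subtype.ext (hP.lift_fst _ _ _)
    have hz₂ : Pts.map (X := P.left) (Y := Y₂.left) π₂.left z = y₂ :=
      Subtype.ext (hP.lift_snd _ _ _)
    obtain ⟨φ, hzφ, hφ⟩ := isLocalHomeomorph_map X π₁ z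
    obtain ⟨ψ, hyψ, hψ⟩ := isLocalHomeomorph_map X g₂ y₂
    let h' : X'.E → Pts P.left := fun w => φ.symm (f₁.toFun w)
    let W : Set X'.E := {w | f₁.toFun w ∈ φ.target ∧ f₂.toFun w ∈ ψ.source ∧
      Pts.map (X := P.left) (Y := Y₂.left) π₂.left (h' w) ∈ ψ.source}
    have hW₀ : IsOpen (f₁.toFun ⁻¹' φ.target) := φ.open_target.preimage f₁.continuous
    have hh' : ContinuousOn h' (f₁.toFun ⁻¹' φ.target) :=
      φ.continuousOn_symm.comp f₁.continuous.continuousOn (fun w hw => hw)
    have hk : ContinuousOn (fun w => Pts.map (X := P.left) (Y := Y₂.left) π₂.left (h' w))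
        (f₁.toFun ⁻¹' φ.target) :=
      (Pts.continuous_map (X := P.left) (Y := Y₂.left) π₂.left).comp_continuousOn hh'
    have hWo : IsOpen W := by
      have h1 := hk.isOpen_inter_preimage hW₀ ψ.open_source
      have h2 := ψ.open_source.preimage f₂.continuous
      have hWeq : W = (f₁.toFun ⁻¹' φ.target ∩
          (fun w => Pts.map (X := P.left) (Y := Y₂.left) π₂.left (h' w)) ⁻¹' ψ.source) ∩
            f₂.toFun ⁻¹' ψ.source := by
        ext w
        simp only [W, Set.mem_setOf_eq, Set.mem_inter_iff, Set.mem_preimage]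
        tauto
      rw [hWeq]
      exact h1.inter h2
    have hfst : ∀ w, f₁.toFun w ∈ φ.target →
        Pts.map (X := P.left) (Y := Y₁.left) π₁.left (h' w) = f₁.toFun w := fun w hw => by
      rw [hφ]
      exact φ.right_inv hw
    have hsnd : ∀ w ∈ W, Pts.map (X := P.left) (Y := Y₂.left) π₂.left (h' w) = f₂.toFun w := by
      rintro w ⟨hw1, hw2, hw3⟩
      apply ψ.injOn hw3 hw2
      rw [← hψ]
      have e1 : Pts.map (X := Y₂.left) (Y := Z.left) g₂.left
          (Pts.map (X := P.left) (Y := Y₂.left) π₂.left (h' w)) =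
          Pts.map (X := Y₁.left) (Y := Z.left) g₁.left
            (Pts.map (X := P.left) (Y := Y₁.left) π₁.left (h' w)) := by
        apply Subtype.ext
        change ((h' w).1 ≫ π₂.left) ≫ g₂.left = ((h' w).1 ≫ π₁.left) ≫ g₁.left
        rw [Category.assoc, Category.assoc, hP.w]
      have e2 : Pts.map (X := Y₁.left) (Y := Z.left) g₁.left (f₁.toFun w) =
          Pts.map (X := Y₂.left) (Y := Z.left) g₂.left (f₂.toFun w) :=
        congrArg (fun m => m.toFun w) heq
      rw [e1, hfst w hw1, e2]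
    have haW : a ∈ W := by
      have ha1 : f₁.toFun a ∈ φ.target := by
        change y₁ ∈ φ.target
        rw [← hz₁, hφ]
        exact φ.map_source hzφ
      have ha2 : h' a = z := by
        change φ.symm y₁ = z
        rw [← hz₁, hφ]
        exact φ.left_inv hzφ
      refine ⟨ha1, hyψ, ?_⟩
      rw [ha2, hz₂]
      exact hyψ
    let ι := Cl.restrictOpenι X' W hWo
    let hB : Cl.restrictOpen X' W hWo ⟶ (eps X).obj P :=
      ⟨fun w => h' w.1,
        hh'.comp_continuous continuous_subtype_val (fun w => w.2.1),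
        fun w => by
          have h1 : Pts.map (X := P.left) (P.left ↘ X) (h' w.1) =
              Pts.map (X := Y₁.left) (Y₁.left ↘ X)
                (Pts.map (X := P.left) (Y := Y₁.left) π₁.left (h' w.1)) := by
            apply Subtype.ext
            change (h' w.1).1 ≫ P.hom = ((h' w.1).1 ≫ π₁.left) ≫ Y₁.hom
            rw [Category.assoc, Over.w π₁.hom]
          change Pts.map (X := P.left) (P.left ↘ X) (h' w.1) = X'.p w.1
          rw [h1, hfst w.1 w.2.1]
          exact f₁.over w.1⟩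
    have e₁ : ι ≫ f₁ = hB ≫ (eps X).map π₁ := by
      apply Cl.hom_ext
      funext w
      exact (hfst w.1 w.2.1).symm
    have e₂ : ι ≫ f₂ = hB ≫ (eps X).map π₂ := by
      apply Cl.hom_ext
      funext w
      exact (hsnd w.1 w.2).symm
    have hag : ℱ.obj.map ι.op s₁ = ℱ.obj.map ι.op s₂ := by
      have t1 : ℱ.obj.map ι.op s₁ = ℱ.obj.map (ι ≫ f₁).op (x g₁ hg₁) := by
        rw [op_comp, Functor.map_comp]
        rfl
      have t2 : ℱ.obj.map ι.op s₂ = ℱ.obj.map (ι ≫ f₂).op (x g₂ hg₂) := by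
        rw [op_comp, Functor.map_comp]
        rfl
      rw [t1, t2, e₁, e₂, op_comp, op_comp, Functor.map_comp, Functor.map_comp]
      simp only [types_comp_apply]
      exact congrArg _ hc
    exact ⟨_, ι, hag, hWo.isOpenEmbedding_subtypeVal, ⟨⟨a, haW⟩, rfl⟩⟩
  have hsh : Presieve.IsSheaf (Cl.topology (Pts X)) ℱ.obj :=
    (isSheaf_iff_isSheaf_of_type _ _).1 ℱ.property
  exact (hsh S hS).isSeparatedFor.ext (fun B j hj => hj)

theorem epsCont : EpsCont X :=
  Functor.isContinuous_of_coverPreserving (compatiblePreserving_eps X) (coverPreserving_eps X)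

end H2An
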