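import Mathlib

/-!
Two-sided ideals of `L ⊗[K] A` for `A` central simple over a field `K` and `L` any `K`-algebra:
every nonzero two-sided ideal contains a nonzero element of the form `l ⊗ 1`.
(Adapted from helper6's `H6CSA.simple_tensor`, generalised from fields `L` to rings `L`.)
-/

namespace H2CSA

open TensorProduct Module

universe u v w

variable {K : Type u} [Field K] {L : Type w} [Ring L] [Algebra K L] {A : Type v} [Ring A]
  [Algebra K A]

/-- Contraction of `L ⊗[K] A` against a `K`-linear functional on `L`. -/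
noncomputable def Θ (lam : L →ₗ[K] K) : L ⊗[K] A →ₗ[K] A :=
  TensorProduct.lift ((LinearMap.lsmul K A).comp lam)

lemma Θ_tmul (lam : L →ₗ[K] K) (l : L) (a : A) : Θ lam (l ⊗ₜ[K] a) = lam l • a := by
  simp [Θ]

lemma Θ_coord_sum {ι : Type*} [DecidableEq ι] (b : Basis ι K L) (S : Finset ι) (a : ι → A)
    (i : ι) :
    Θ (b.coord i) (∑ j ∈ S, b j ⊗ₜ[K] a j) = if i ∈ S then a i else 0 := by
  rw [map_sum]
  simp only [Θ_tmul, Basis.coord_apply, Basis.repr_self, Finsupp.single_apply, ite_smul, one_smul,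
    zero_smul]
  rw [Finset.sum_ite_eq']

lemma exists_rep {ι : Type*} (b : Basis ι K L) (z : L ⊗[K] A) :
    ∃ (S : Finset ι) (a : ι → A), z = ∑ i ∈ S, b i ⊗ₜ[K] a i := by
  obtain ⟨c, hc⟩ := TensorProduct.eq_repr_basis_left b z
  exact ⟨c.support, fun i => c i, hc.symm⟩

lemma one_tmul_mul_sum {ι : Type*} (b : ι → L) (S : Finset ι) (a : ι → A) (c : A) :
    ((1 : L) ⊗ₜ[K] c) * ∑ i ∈ S, b i ⊗ₜ[K] a i = ∑ i ∈ S, b i ⊗ₜ[K] (c * a i) := by
  rw [Finset.mul_sum]
  exact Finset.sum_congr rfl fun i _ => by rw [Algebra.TensorProduct.tmul_mul_tmul, one_mul]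

lemma sum_mul_one_tmul {ι : Type*} (b : ι → L) (S : Finset ι) (a : ι → A) (c : A) :
    (∑ i ∈ S, b i ⊗ₜ[K] a i) * ((1 : L) ⊗ₜ[K] c) = ∑ i ∈ S, b i ⊗ₜ[K] (a i * c) := by
  rw [Finset.sum_mul]
  exact Finset.sum_congr rfl fun i _ => by rw [Algebra.TensorProduct.tmul_mul_tmul, mul_one]

theorem exists_tmul_one_mem [IsSimpleRing A] [Algebra.IsCentral K A]
    (I : TwoSidedIdeal (L ⊗[K] A)) (z : L ⊗[K] A) (hzI : z ∈ I) (hz0 : z ≠ 0) :
    ∃ l : L, l ≠ 0 ∧ l ⊗ₜ[K] (1 : A) ∈ I := by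
  classical
  let b := Basis.ofVectorSpace K L
  have key : ∀ (n : ℕ) (S : Finset (Basis.ofVectorSpaceIndex K L))
      (a : Basis.ofVectorSpaceIndex K L → A), S.card = n →
      (∑ i ∈ S, b i ⊗ₜ[K] a i) ∈ I → (∑ i ∈ S, b i ⊗ₜ[K] a i) ≠ 0 →
      ∃ l : L, l ≠ 0 ∧ l ⊗ₜ[K] (1 : A) ∈ I := by
    intro n
    induction n using Nat.strong_induction_on with
    | h n ih =>
      intro S a hcard hmem hne
      obtain ⟨i₀, hi₀S, hai₀⟩ : ∃ i₀ ∈ S, a i₀ ≠ 0 := by
        by_contra hcon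
        push Not at hcon
        apply hne
        apply Finset.sum_eq_zero
        intro i hi
        rw [hcon i hi, tmul_zero]
      obtain ⟨J, hJ⟩ : ∃ J : TwoSidedIdeal A, ∀ x, x ∈ J ↔
          ∃ a' : Basis.ofVectorSpaceIndex K L → A, a' i₀ = x ∧
            (∑ i ∈ S, b i ⊗ₜ[K] a' i) ∈ I := by
        refine ⟨TwoSidedIdeal.mk' {x | ∃ a' : Basis.ofVectorSpaceIndex K L → A, a' i₀ = x ∧
            (∑ i ∈ S, b i ⊗ₜ[K] a' i) ∈ I} ?_ ?_ ?_ ?_ ?_,
          fun x => TwoSidedIdeal.mem_mk' _ _ _ _ _ _ x⟩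
        · exact ⟨fun _ => 0, rfl, by simp [I.zero_mem]⟩
        · rintro x y ⟨a1, h1, m1⟩ ⟨a2, h2, m2⟩
          refine ⟨fun i => a1 i + a2 i, by simp [h1, h2], ?_⟩
          simp only [tmul_add, Finset.sum_add_distrib]
          exact I.add_mem m1 m2
        · rintro x ⟨a1, h1, m1⟩
          refine ⟨fun i => - a1 i, by simp [h1], ?_⟩
          simp only [tmul_neg, Finset.sum_neg_distrib]
          exact I.neg_mem m1
        · rintro x y ⟨a1, h1, m1⟩
          refine ⟨fun i => x * a1 i, by simp [h1], ?_⟩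
          rw [← one_tmul_mul_sum]
          exact I.mul_mem_left _ _ m1
        · rintro x y ⟨a1, h1, m1⟩
          refine ⟨fun i => a1 i * y, by simp [h1], ?_⟩
          rw [← sum_mul_one_tmul]
          exact I.mul_mem_right _ _ m1
      have haJ : a i₀ ∈ J := (hJ _).mpr ⟨a, rfl, hmem⟩
      have h1J : (1 : A) ∈ J := IsSimpleRing.one_mem_of_ne_zero_mem J hai₀ haJ
      obtain ⟨a', ha'1, hz'⟩ := (hJ _).mp h1J
      have hw : ∀ c : A, (∑ i ∈ S.erase i₀, b i ⊗ₜ[K] (c * a' i - a' i * c)) ∈ I := by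
        intro c
        have h2 : ∑ i ∈ S, b i ⊗ₜ[K] (c * a' i - a' i * c)
            = ∑ i ∈ S.erase i₀, b i ⊗ₜ[K] (c * a' i - a' i * c) := by
          rw [← Finset.add_sum_erase S _ hi₀S, ha'1, mul_one, one_mul, sub_self, tmul_zero,
            zero_add]
        have h3 : ∑ i ∈ S, b i ⊗ₜ[K] (c * a' i - a' i * c)
            = ((1 : L) ⊗ₜ[K] c) * (∑ i ∈ S, b i ⊗ₜ[K] a' i)
              - (∑ i ∈ S, b i ⊗ₜ[K] a' i) * ((1 : L) ⊗ₜ[K] c) := by
          rw [one_tmul_mul_sum, sum_mul_one_tmul, ← Finset.sum_sub_distrib]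
          exact Finset.sum_congr rfl fun i _ => tmul_sub _ _ _
        rw [← h2, h3]
        exact I.sub_mem (I.mul_mem_left _ _ hz') (I.mul_mem_right _ _ hz')
      by_cases hall : ∀ c : A, (∑ i ∈ S.erase i₀, b i ⊗ₜ[K] (c * a' i - a' i * c)) = 0
      · have hcen : ∀ i ∈ S, ∃ κ : K, a' i = algebraMap K A κ := by
          intro i hi
          by_cases hii : i = i₀
          · exact ⟨1, by rw [hii, ha'1, map_one]⟩
          · have hmemc : a' i ∈ Subalgebra.center K A := by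
              rw [Subalgebra.mem_center_iff]
              intro c
              have h := congrArg (Θ (b.coord i)) (hall c)
              rw [Θ_coord_sum, map_zero, if_pos (Finset.mem_erase.mpr ⟨hii, hi⟩)] at h
              exact sub_eq_zero.mp h
            have hbot : a' i ∈ (⊥ : Subalgebra K A) :=
              (Algebra.IsCentral.out : Subalgebra.center K A ≤ ⊥) hmemc
            obtain ⟨κ, hκ⟩ := Algebra.mem_bot.mp hbot
            exact ⟨κ, hκ.symm⟩
        choose! κ hκ using hcen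
        have hz'eq : ∑ i ∈ S, b i ⊗ₜ[K] a' i = (∑ i ∈ S, κ i • b i) ⊗ₜ[K] (1 : A) := by
          rw [TensorProduct.sum_tmul]
          refine Finset.sum_congr rfl fun i hi => ?_
          rw [hκ i hi, Algebra.algebraMap_eq_smul_one]
          exact (TensorProduct.smul_tmul _ _ _).symm
        have hl : (∑ i ∈ S, κ i • b i) ≠ 0 := by
          intro hl0
          have h := Θ_coord_sum b S a' i₀
          rw [hz'eq, hl0, zero_tmul, map_zero, if_pos hi₀S, ha'1] at h
          exact zero_ne_one h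
        refine ⟨∑ i ∈ S, κ i • b i, hl, ?_⟩
        rw [← hz'eq]
        exact hz'
      · push Not at hall
        obtain ⟨c, hc⟩ := hall
        exact ih (S.erase i₀).card (by rw [← hcard]; exact Finset.card_erase_lt_of_mem hi₀S)
          (S.erase i₀) (fun i => c * a' i - a' i * c) rfl (hw c) hc
  obtain ⟨S, a, rfl⟩ := exists_rep b z
  exact key _ S a rfl hzI hz0

end H2CSA
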