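import Mathlib
import Groth.Agent.Lib.helper2.CSAIdeal

/-!
# Azumaya algebras: matrix criterion and the field case
-/

namespace H2Az

open TensorProduct MulOpposite Module

section matrix

variable {R : Type*} [CommRing R] {A : Type*} [Ring A] [Algebra R A]
variable {ι : Type*} [Fintype ι] [DecidableEq ι]

/-- The matrix of `a ⊗ b ↦ (x ↦ a x b)` in the bases induced by a basis `b` of `A`. -/
noncomputable def azMat (b : Basis ι R A) : Matrix (ι × ι) (ι × ι) R :=
  fun p q => b.repr (b q.1 * b p.2 * b q.2) p.1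

noncomputable def b1 (b : Basis ι R A) : Basis (ι × ι) R (A ⊗[R] Aᵐᵒᵖ) :=
  b.tensorProduct (b.map (MulOpposite.opLinearEquiv R))

lemma b1_apply (b : Basis ι R A) (q : ι × ι) : b1 b q = b q.1 ⊗ₜ[R] op (b q.2) := by
  unfold b1
  rw [Basis.tensorProduct_apply, Basis.map_apply]
  rfl

lemma stdBasis_repr (M : Matrix ι ι R) (p : ι × ι) :
    (Matrix.stdBasis R ι ι).repr M p = M p.1 p.2 := by
  simp [Matrix.stdBasis]

lemma toMatrix_mulLeftRight (b : Basis ι R A) :
    LinearMap.toMatrix (b1 b) b.end (AlgHom.mulLeftRight R A).toLinearMap = azMat b := by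
  ext p q
  rw [LinearMap.toMatrix_apply, Basis.end_repr_apply, stdBasis_repr, LinearMap.toMatrix_apply,
    b1_apply]
  show b.repr ((AlgHom.mulLeftRight R A) (b q.1 ⊗ₜ[R] op (b q.2)) (b p.2)) p.1 = _
  rw [AlgHom.mulLeftRight_apply]
  rfl

lemma bijective_mulLeftRight_iff (b : Basis ι R A) :
    Function.Bijective (AlgHom.mulLeftRight R A) ↔ IsUnit (azMat b).det := by
  rw [← toMatrix_mulLeftRight b]
  constructor
  · intro h
    exact LinearEquiv.isUnit_det
      (LinearEquiv.ofBijective (AlgHom.mulLeftRight R A).toLinearMap h) (b1 b) b.end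
  · intro h
    exact (LinearEquiv.ofIsUnitDet h).bijective

end matrix

section field

variable {k : Type*} [Field k] {B : Type*} [Ring B] [Algebra k B] [FiniteDimensional k B]

lemma bijective_of_central_simple [Algebra.IsCentral k B] [IsSimpleRing B] :
    Function.Bijective (AlgHom.mulLeftRight k B) := by
  have hinj : Function.Injective (AlgHom.mulLeftRight k B) := by
    rw [injective_iff_map_eq_zero]
    intro z hz
    by_contra hz0
    obtain ⟨l, hl0, hl⟩ := H2CSA.exists_tmul_one_mem (K := k) (L := B) (A := Bᵐᵒᵖ)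
      (TwoSidedIdeal.ker (AlgHom.mulLeftRight k B : B ⊗[k] Bᵐᵒᵖ →+* Module.End k B)) z
      ((TwoSidedIdeal.mem_ker _).2 hz) hz0
    rw [TwoSidedIdeal.mem_ker] at hl
    have h1 : AlgHom.mulLeftRight k B (l ⊗ₜ[k] (1 : Bᵐᵒᵖ)) (1 : B) = 0 := by
      have : AlgHom.mulLeftRight k B (l ⊗ₜ[k] (1 : Bᵐᵒᵖ)) = 0 := hl
      rw [this]; rfl
    rw [AlgHom.mulLeftRight_apply] at h1
    simp only [mul_one, unop_one] at h1
    exact hl0 h1
  have hdim : finrank k (B ⊗[k] Bᵐᵒᵖ) = finrank k (Module.End k B) := by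
    rw [Module.finrank_tensorProduct, Module.finrank_linearMap,
      (MulOpposite.opLinearEquiv k : B ≃ₗ[k] Bᵐᵒᵖ).finrank_eq]
  exact ⟨hinj, (LinearMap.injective_iff_surjective_of_finrank_eq_finrank hdim
    (f := (AlgHom.mulLeftRight k B).toLinearMap)).1 hinj⟩

lemma central_simple_of_bijective [Nontrivial B]
    (h : Function.Bijective (AlgHom.mulLeftRight k B)) :
    Algebra.IsCentral k B ∧ IsSimpleRing B := by
  have : IsAzumaya k B :=
    { toProjective := inferInstance
      toFaithfulSMul := inferInstance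
      toFinite := inferInstance
      bij := h }
  refine ⟨inferInstance, ?_⟩
  apply IsSimpleRing.of_eq_bot_or_eq_top
  intro I
  by_cases hI : I = ⊥
  · exact Or.inl hI
  right
  obtain ⟨x, hxI, hx0⟩ : ∃ x ∈ I, x ≠ 0 := by
    by_contra hcon
    push Not at hcon
    apply hI
    apply le_antisymm _ bot_le
    intro y hy
    rw [TwoSidedIdeal.mem_bot]
    exact hcon y hy
  obtain ⟨φ, hφ⟩ := Module.Projective.exists_dual_eq_one k hx0
  let F : Module.End k B := (LinearMap.toSpanSingleton k B 1).comp φ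
  have hF : F x = 1 := by
    show (LinearMap.toSpanSingleton k B 1) (φ x) = 1
    rw [hφ, LinearMap.toSpanSingleton_apply, one_smul]
  obtain ⟨z, hz⟩ := h.2 F
  have key : ∀ z : B ⊗[k] Bᵐᵒᵖ, AlgHom.mulLeftRight k B z x ∈ I := by
    intro z
    induction z using TensorProduct.induction_on with
    | zero => rw [map_zero]; exact I.zero_mem
    | tmul a b' =>
      rw [AlgHom.mulLeftRight_apply]
      exact I.mul_mem_right _ _ (I.mul_mem_left _ _ hxI)
    | add z1 z2 h1 h2 =>
      rw [map_add, LinearMap.add_apply]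
      exact I.add_mem h1 h2
  rw [← TwoSidedIdeal.one_mem_iff, ← hF, ← hz]
  exact key z

lemma bijective_iff_central_simple [Nontrivial B] :
    Function.Bijective (AlgHom.mulLeftRight k B) ↔ (Algebra.IsCentral k B ∧ IsSimpleRing B) :=
  ⟨central_simple_of_bijective, fun ⟨_, _⟩ => bijective_of_central_simple⟩

end field

end H2Az
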