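import Mathlib
import Groth.Prelude.Def_FSch3

/-! The completion of a locally Noetherian scheme along an ideal sheaf (helper2). -/

namespace H2Compl
open AlgebraicGeometry CategoryTheory
universe u

variable {X : Scheme.{u}}

instance inclusion_isClosedImmersion {I J : X.IdealSheafData} (h : I ≤ J) :
    IsClosedImmersion (Scheme.IdealSheafData.inclusion h) := by
  haveI : IsClosedImmersion (Scheme.IdealSheafData.inclusion h ≫ I.subschemeι) := by
    rw [Scheme.IdealSheafData.inclusion_subschemeι]; infer_instance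
  exact IsClosedImmersion.of_comp_isClosedImmersion (Scheme.IdealSheafData.inclusion h)
    I.subschemeι

theorem aux_zero_iff {A B C D : CommRingCat.{u}} (π : A ⟶ B) (g : B ⟶ C) (ρ : A ⟶ D) (r : D ⟶ C)
    [IsIso r] (hc : π ≫ g = ρ ≫ r) (a : A) : ρ.hom a = 0 ↔ g.hom (π.hom a) = 0 := by
  have h1 : g.hom (π.hom a) = r.hom (ρ.hom a) := congrArg (fun t => t.hom a) hc
  have hinj : Function.Injective r.hom := (ConcreteCategory.bijective_of_isIso r).1
  constructor
  · intro h0; rw [h1, h0, map_zero]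
  · intro h0; apply hinj; rw [← h1, h0, map_zero]

theorem isIso_map_eqToHom {Z : Scheme.{u}} {V W : Z.Opens} (p : V = W) :
    IsIso (Z.presheaf.map (eqToHom p).op) := by
  subst p
  rw [eqToHom_refl, op_id, Z.presheaf.map_id]
  infer_instance

theorem ker_inclusion_ideal {I J : X.IdealSheafData} (h : I ≤ J) (U : X.affineOpens) :
    (Scheme.IdealSheafData.inclusion h).ker.ideal
        ⟨I.subschemeι ⁻¹ᵁ U.1, U.2.preimage I.subschemeι⟩ =
      Ideal.map (I.subschemeι.app U.1).hom (J.ideal U) := by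
  rw [Scheme.Hom.ker_apply]
  have hπ : Function.Surjective (I.subschemeι.app U.1).hom := I.subschemeι_app_surjective U
  have hcongr := Scheme.Hom.congr_app (Scheme.IdealSheafData.inclusion_subschemeι h) U.1
  rw [Scheme.Hom.comp_app] at hcongr
  have hρ : ∀ a : Γ(X, U.1), (J.subschemeι.app U.1).hom a = 0 ↔
      ((Scheme.IdealSheafData.inclusion h).app (I.subschemeι ⁻¹ᵁ U.1)).hom
        ((I.subschemeι.app U.1).hom a) = 0 := fun a =>
    @aux_zero_iff _ _ _ _ _ _ _ _ (isIso_map_eqToHom _) hcongr a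
  have hker : ∀ a : Γ(X, U.1), a ∈ J.ideal U ↔ (J.subschemeι.app U.1).hom a = 0 := fun a => by
    rw [← J.ker_subschemeι_app U, RingHom.mem_ker]
  ext x
  obtain ⟨a, rfl⟩ := hπ x
  rw [RingHom.mem_ker, ← hρ a, Ideal.mem_map_iff_of_surjective _ hπ]
  constructor
  · intro h0
    exact ⟨a, (hker a).2 h0, rfl⟩
  · rintro ⟨b, hb, hba⟩
    rw [hρ a, ← hba, ← hρ b]
    exact (hker b).1 hb

theorem ker_inclusion_pow {I J K : X.IdealSheafData} (hJ : I ≤ J) (hK : I ≤ K) (m : ℕ)
    (hpow : ∀ U : X.affineOpens, J.ideal U = (K.ideal U) ^ m) :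
    (Scheme.IdealSheafData.inclusion hJ).ker = (Scheme.IdealSheafData.inclusion hK).ker ^ m := by
  have hU : ⨆ U : X.affineOpens, (I.subschemeι ⁻¹ᵁ U.1) = ⊤ := by
    rw [← Scheme.Hom.preimage_iSup, iSup_affineOpens_eq_top, Scheme.Hom.preimage_top]
  refine Scheme.IdealSheafData.ext_of_iSup_eq_top
    (fun U : X.affineOpens =>
      (⟨I.subschemeι ⁻¹ᵁ U.1, U.2.preimage _⟩ : I.subscheme.affineOpens)) hU (fun U => ?_)
  rw [Scheme.IdealSheafData.ideal_pow, Pi.pow_apply, ker_inclusion_ideal, ker_inclusion_ideal,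
    hpow U, Ideal.map_pow]

theorem inclusion_surjective {I J : X.IdealSheafData} (h : I ≤ J) (hs : I.support = J.support) :
    Function.Surjective (Scheme.IdealSheafData.inclusion h).base := by
  intro y
  have hy : I.subschemeι y ∈ Set.range J.subschemeι := by
    rw [J.range_subschemeι, ← hs, ← I.range_subschemeι]; exact ⟨y, rfl⟩
  obtain ⟨x, hx⟩ := hy
  refine ⟨x, ?_⟩
  have hinj : Function.Injective I.subschemeι := I.subschemeι.isClosedEmbedding.injective
  apply hinj
  rw [← hx]
  exact congrArg (fun f => f.base x) (Scheme.IdealSheafData.inclusion_subschemeι h)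

theorem completion_toX (X : Scheme.{u}) (𝓘 : X.IdealSheafData) (n : ℕ) :
    (FSch.completionAlong X 𝓘).toX n = Scheme.IdealSheafData.inclusion
      (pow_le_pow_of_le_one bot_le le_top (by omega) : 𝓘 ^ (n + 1) ≤ 𝓘 ^ (0 + 1)) := by
  induction n with
  | zero =>
    show 𝟙 _ = _
    exact (Scheme.IdealSheafData.inclusion_id _).symm
  | succ k ih =>
    show (FSch.completionAlong X 𝓘).toX k ≫ (FSch.completionAlong X 𝓘).ι k = _
    rw [ih]
    show Scheme.IdealSheafData.inclusion _ ≫
      Scheme.IdealSheafData.inclusion (FSch.pow_succ_le X 𝓘 k) = _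
    rw [Scheme.IdealSheafData.inclusion_comp]

theorem completion_isFormal (X : Scheme.{u}) (𝓘 : X.IdealSheafData) :
    (FSch.completionAlong X 𝓘).IsFormal := by
  intro n
  constructor
  · show IsClosedImmersion (Scheme.IdealSheafData.inclusion (FSch.pow_succ_le X 𝓘 n))
    infer_instance
  · show Function.Surjective (Scheme.IdealSheafData.inclusion (FSch.pow_succ_le X 𝓘 n)).base
    exact inclusion_surjective (FSch.pow_succ_le X 𝓘 n)
      ((Scheme.IdealSheafData.support_pow_succ 𝓘 (n + 1)).trans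
        (Scheme.IdealSheafData.support_pow_succ 𝓘 n).symm)

theorem completion_isAdic (X : Scheme.{u}) (𝓘 : X.IdealSheafData) :
    (FSch.completionAlong X 𝓘).IsAdic := by
  intro n
  rw [completion_toX]
  exact ker_inclusion_pow (FSch.pow_succ_le X 𝓘 n) _ (n + 1) (fun U => by
    simp only [Scheme.IdealSheafData.ideal_pow, Pi.pow_apply, zero_add, pow_one])

theorem completion_isLocNoeth (X : Scheme.{u}) [IsLocallyNoetherian X] (𝓘 : X.IdealSheafData) :
    (FSch.completionAlong X 𝓘).IsLocNoethFormal := by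
  refine ⟨completion_isFormal X 𝓘, completion_isAdic X 𝓘, fun n => ?_⟩
  show IsLocallyNoetherian ((𝓘 ^ (n + 1)).subscheme)
  exact LocallyOfFiniteType.isLocallyNoetherian ((𝓘 ^ (n + 1)).subschemeι)

end H2Compl
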