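import Mathlib
import Groth.Prelude.Def_FSch3
import Groth.Agent.Lib.helper2.ComplPull

/-! Completion commutes with fibre products, levelwise and in systems (helper2). -/

namespace H2ComapMul
open AlgebraicGeometry CategoryTheory CategoryTheory.Limits
universe u

theorem sys_isPullback_of_levelwise {𝔓 𝔛 𝔜 𝔖 : FSch.Sys.{u}} (a : 𝔓 ⟶ 𝔛) (b : 𝔓 ⟶ 𝔜)
    (f : 𝔛 ⟶ 𝔖) (g : 𝔜 ⟶ 𝔖)
    (hlev : ∀ n, IsPullback ((a : FSch.Hom _ _).app n) ((b : FSch.Hom _ _).app n)
      ((f : FSch.Hom _ _).app n) ((g : FSch.Hom _ _).app n)) :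
    IsPullback a b f g := by
  have eq : a ≫ f = b ≫ g := by
    apply FSch.Hom.ext
    funext n
    exact (hlev n).w
  have hc : ∀ (s : PullbackCone f g) (n : ℕ),
      (s.fst : FSch.Hom _ _).app n ≫ (f : FSch.Hom _ _).app n =
        (s.snd : FSch.Hom _ _).app n ≫ (g : FSch.Hom _ _).app n := by
    intro s n
    exact congrArg (fun (φ : FSch.Hom _ _) => φ.app n) s.condition
  let lift : ∀ s : PullbackCone f g, s.pt ⟶ 𝔓 := fun s =>
    ⟨fun n => (hlev n).lift ((s.fst : FSch.Hom _ _).app n) ((s.snd : FSch.Hom _ _).app n)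
        (hc s n), fun n => by
      apply (hlev (n + 1)).hom_ext
      · have h1 := (s.fst : FSch.Hom _ _).comm n
        have h2 := (a : FSch.Hom _ _).comm n
        rw [Category.assoc, Category.assoc, ← h2, IsPullback.lift_fst_assoc, IsPullback.lift_fst]
        exact h1
      · have h1 := (s.snd : FSch.Hom _ _).comm n
        have h2 := (b : FSch.Hom _ _).comm n
        rw [Category.assoc, Category.assoc, ← h2, IsPullback.lift_snd_assoc, IsPullback.lift_snd]
        exact h1⟩
  have hlim : IsLimit (PullbackCone.mk a b eq) := by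
    refine PullbackCone.IsLimit.mk eq lift ?_ ?_ ?_
    · intro s
      apply FSch.Hom.ext
      funext n
      exact (hlev n).lift_fst _ _ _
    · intro s
      apply FSch.Hom.ext
      funext n
      exact (hlev n).lift_snd _ _ _
    · intro s m hm1 hm2
      apply FSch.Hom.ext
      funext n
      apply (hlev n).hom_ext
      · have h1 := congrArg (fun (φ : FSch.Hom _ _) => φ.app n) hm1
        have h2 : (lift s : FSch.Hom _ _).app n ≫ (a : FSch.Hom _ _).app n =
            (s.fst : FSch.Hom _ _).app n := (hlev n).lift_fst _ _ _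
        exact h1.trans h2.symm
      · have h1 := congrArg (fun (φ : FSch.Hom _ _) => φ.app n) hm2
        have h2 : (lift s : FSch.Hom _ _).app n ≫ (b : FSch.Hom _ _).app n =
            (s.snd : FSch.Hom _ _).app n := (hlev n).lift_snd _ _ _
        exact h1.trans h2.symm
  exact IsPullback.of_isLimit hlim

theorem subscheme_sq {X Y S : Scheme.{u}} (g : X ⟶ S) (h : Y ⟶ S) (R : X.IdealSheafData)
    (J : S.IdealSheafData) (P : (pullback g h).IdealSheafData) (JY : Y.IdealSheafData)
    (hP : P = R.comap (pullback.fst g h)) (hJY : JY = J.comap h)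
    (H1 : R ≤ P.map (pullback.fst g h)) (H2 : JY ≤ P.map (pullback.snd g h))
    (H3 : J ≤ R.map g) (H4 : J ≤ JY.map h) :
    IsPullback (Scheme.IdealSheafData.subschemeMap P R (pullback.fst g h) H1)
      (Scheme.IdealSheafData.subschemeMap P JY (pullback.snd g h) H2)
      (Scheme.IdealSheafData.subschemeMap R J g H3)
      (Scheme.IdealSheafData.subschemeMap JY J h H4) := by
  have A := isPullback_subschemeMap (pullback.fst g h) R P hP H1
  have B := isPullback_subschemeMap h J JY hJY H4
  have C : IsPullback (pullback.snd g h) (pullback.fst g h) h g :=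
    (IsPullback.of_hasPullback g h).flip
  have s0 := A.paste_horiz C
  have e1 : P.subschemeι ≫ pullback.snd g h =
      Scheme.IdealSheafData.subschemeMap P JY (pullback.snd g h) H2 ≫ JY.subschemeι :=
    (Scheme.IdealSheafData.subschemeMap_subschemeι _ _ _ _).symm
  have e2 : R.subschemeι ≫ g = Scheme.IdealSheafData.subschemeMap R J g H3 ≫ J.subschemeι :=
    (Scheme.IdealSheafData.subschemeMap_subschemeι _ _ _ _).symm
  rw [e1, e2] at s0
  have pcomm : Scheme.IdealSheafData.subschemeMap P JY (pullback.snd g h) H2 ≫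
      Scheme.IdealSheafData.subschemeMap JY J h H4 =
      Scheme.IdealSheafData.subschemeMap P R (pullback.fst g h) H1 ≫
      Scheme.IdealSheafData.subschemeMap R J g H3 := by
    rw [← cancel_mono J.subschemeι]
    simp only [Category.assoc, Scheme.IdealSheafData.subschemeMap_subschemeι,
      Scheme.IdealSheafData.subschemeMap_subschemeι_assoc]
    rw [pullback.condition]
  exact (IsPullback.of_right s0 pcomm B).flip

theorem completion_sq {X Y S : Scheme.{u}} (g : X ⟶ S) (h : Y ⟶ S)
    (𝓡 : X.IdealSheafData) (𝓙 : S.IdealSheafData)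
    (hg : FSch.PowCompat g 𝓡 𝓙) (hh : FSch.PowCompat h (𝓙.comap h) 𝓙)
    (hp : FSch.PowCompat (pullback.fst g h) (𝓡.comap (pullback.fst g h)) 𝓡)
    (hq : FSch.PowCompat (pullback.snd g h) (𝓡.comap (pullback.fst g h)) (𝓙.comap h)) :
    IsPullback (FSch.completionMap (pullback.fst g h) (𝓡.comap (pullback.fst g h)) 𝓡 hp)
      (FSch.completionMap (pullback.snd g h) (𝓡.comap (pullback.fst g h)) (𝓙.comap h) hq)
      (FSch.completionMap g 𝓡 𝓙 hg) (FSch.completionMap h (𝓙.comap h) 𝓙 hh) := by
  apply sys_isPullback_of_levelwise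
  intro n
  exact subscheme_sq g h (𝓡 ^ (n + 1)) (𝓙 ^ (n + 1)) ((𝓡.comap (pullback.fst g h)) ^ (n + 1))
    ((𝓙.comap h) ^ (n + 1)) (comap_pow_succ _ 𝓡 n).symm (comap_pow_succ h 𝓙 n).symm
    (Scheme.IdealSheafData.le_map_iff_comap_le.mpr (hp n))
    (Scheme.IdealSheafData.le_map_iff_comap_le.mpr (hq n))
    (Scheme.IdealSheafData.le_map_iff_comap_le.mpr (hg n))
    (Scheme.IdealSheafData.le_map_iff_comap_le.mpr (hh n))

end H2ComapMul
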