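import Mathlib
import Groth.Agent.Lib.helper2.Taylor

/-! Differential operators with prescribed values on monomials form a basis (helper2). -/

set_option autoImplicit false

universe u

namespace Groth.Agent.Lib.helper2

open Diff16

open scoped TensorProduct

section General

variable {A B : Type u} [CommRing A] [CommRing B] [Algebra A B]
variable {N : Type u} [AddCommGroup N] [Module A N] [Module B N] [IsScalarTower A B N]

theorem h2_isDiffOpLE_commutator (k : ℕ) (D : B →ₗ[A] N) (hD : IsDiffOpLE A B B N k D) (b : B) :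
    IsDiffOpLE A B B N k (commutator A B B N D b) :=
  (h2_isDiffOpLE_succ_iff k D).mp (h2_isDiffOpLE_succ k D hD) b

theorem h2_order_of_comm {ι : Type*} (z : ι → B)
    (hz : Submodule.span B (Set.range fun i => KaehlerDifferential.D A B (z i)) = ⊤)
    (m k : ℕ) (D : B →ₗ[A] N) (hD : IsDiffOpLE A B B N k D)
    (h : ∀ i, ∀ x ∈ (KaehlerDifferential.ideal A B) ^ m,
      linearize A B B N (commutator A B B N D (z i)) x = 0) :
    IsDiffOpLE A B B N m D := by
  rw [h2_isDiffOpLE_iff_linearize]
  apply h2_vanish_descent z (h2_ideal_le_J_sup_sq z hz) (linearize A B B N D) m (k + 1)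
  · exact (h2_isDiffOpLE_iff_linearize k D).mp hD
  · intro i x hx
    rw [h2_linearize_delta_mul]
    exact h i x hx

theorem h2_isDiffOpLE_sum {κ : Type*} (s : Finset κ) (n : ℕ) (D : κ → (B →ₗ[A] N))
    (h : ∀ k ∈ s, IsDiffOpLE A B B N n (D k)) : IsDiffOpLE A B B N n (∑ k ∈ s, D k) := by
  classical
  induction s using Finset.induction_on with
  | empty => simpa using h2_isDiffOpLE_zero (A := A) (B := B) (M := B) (N := N) n
  | insert a s ha ih =>
    rw [Finset.sum_insert ha]
    exact h2_isDiffOpLE_add n _ _ (h a (Finset.mem_insert_self a s))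
      (ih fun k hk => h k (Finset.mem_insert_of_mem hk))

end General

section Coord

variable {A B : Type u} [CommRing A] [CommRing B] [Algebra A B]
variable {N : Type u} [AddCommGroup N] [Module A N] [Module B N] [IsScalarTower A B N]
variable {ι : Type} [Fintype ι] [DecidableEq ι]

theorem h2G_eq_zero (z : ι → B) (p q : ι → ℕ) (i : ι) (h : q i < p i) : h2G z p q = 0 := by
  unfold h2G
  rw [Finset.prod_eq_zero (Finset.mem_univ i) (Nat.choose_eq_zero_of_lt h)]
  simp

theorem h2G_self (z : ι → B) (q : ι → ℕ) : h2G z q q = 1 := by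
  unfold h2G
  simp

theorem h2_exists_lt_of_sum_le (p q : ι → ℕ) (hne : p ≠ q) (h : ∑ i, q i ≤ ∑ i, p i) :
    ∃ i, q i < p i := by
  by_contra hcon
  push Not at hcon
  have : ∃ i, p i < q i := by
    by_contra h2
    push Not at h2
    exact hne (funext fun i => le_antisymm (hcon i) (h2 i))
  obtain ⟨i, hi⟩ := this
  have := Finset.sum_lt_sum (s := Finset.univ) (fun j _ => hcon j) ⟨i, Finset.mem_univ i, hi⟩
  omega

theorem h2_sum_sub_single (p : ι → ℕ) (i : ι) (h1 : 1 ≤ p i) :
    ∑ j, (p - Pi.single i 1 : ι → ℕ) j + 1 = ∑ j, p j := by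
  have hp : p = (p - Pi.single i 1 : ι → ℕ) + Pi.single i 1 := by
    ext j
    by_cases hj : j = i
    · subst hj
      simp
      omega
    · simp [Pi.single_eq_of_ne hj]
  conv_rhs => rw [hp]
  simp only [Pi.add_apply, Finset.sum_add_distrib]
  congr 1
  simp

theorem h2_sum_add_single (q : ι → ℕ) (i : ι) :
    ∑ j, (q + Pi.single i 1 : ι → ℕ) j = ∑ j, q j + 1 := by
  simp only [Pi.add_apply, Finset.sum_add_distrib]
  congr 1
  simp

/-- The multi-indices of total degree `< m`. -/
noncomputable def h2F (ι : Type) [Fintype ι] [DecidableEq ι] (m : ℕ) : Finset (ι → ℕ) :=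
  (Fintype.piFinset (fun _ : ι => Finset.range m)).filter (fun p => ∑ i, p i < m)

theorem h2_mem_F (m : ℕ) (p : ι → ℕ) : p ∈ h2F ι m ↔ ∑ i, p i < m := by
  unfold h2F
  rw [Finset.mem_filter, Fintype.mem_piFinset]
  constructor
  · exact fun h => h.2
  · intro h
    refine ⟨fun i => ?_, h⟩
    rw [Finset.mem_range]
    exact lt_of_le_of_lt
      (Finset.single_le_sum (f := p) (fun j _ => Nat.zero_le _) (Finset.mem_univ i)) h

theorem h2_triangular_solve (z : ι → B) (f : (ι → ℕ) → B) : ∀ m : ℕ, ∃ a : (ι → ℕ) → B,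
    ∀ q, ∑ i, q i < m → ∑ p ∈ h2F ι m, a p * h2G z p q = f q := by
  intro m
  induction m with
  | zero => exact ⟨fun _ => 0, fun q hq => absurd hq (Nat.not_lt_zero _)⟩
  | succ m ih =>
    obtain ⟨a, ha⟩ := ih
    refine ⟨fun p => if ∑ i, p i < m then a p else f p - ∑ p' ∈ h2F ι m, a p' * h2G z p' p, ?_⟩
    intro q hq
    have hsub : h2F ι m ⊆ h2F ι (m + 1) := by
      intro p hp
      rw [h2_mem_F] at hp ⊢
      omega
    rw [← Finset.sum_sdiff hsub]
    have h1 : ∑ p ∈ h2F ι m, (if ∑ i, p i < m then a p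
        else f p - ∑ p' ∈ h2F ι m, a p' * h2G z p' p) * h2G z p q
        = ∑ p ∈ h2F ι m, a p * h2G z p q := by
      apply Finset.sum_congr rfl
      intro p hp
      rw [h2_mem_F] at hp
      rw [if_pos hp]
    rw [h1]
    by_cases hqm : ∑ i, q i < m
    · rw [ha q hqm, Finset.sum_eq_zero, zero_add]
      intro p hp
      rw [Finset.mem_sdiff, h2_mem_F, h2_mem_F] at hp
      have hne : p ≠ q := by
        rintro rfl
        exact hp.2 hqm
      obtain ⟨i, hi⟩ := h2_exists_lt_of_sum_le p q hne (by omega)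
      rw [h2G_eq_zero z p q i hi, mul_zero]
    · have hqm' : ∑ i, q i = m := by omega
      rw [Finset.sum_eq_single q]
      · beta_reduce
        rw [if_neg hqm, h2G_self, mul_one]
        ring
      · intro p hp hne
        rw [Finset.mem_sdiff, h2_mem_F, h2_mem_F] at hp
        obtain ⟨i, hi⟩ := h2_exists_lt_of_sum_le p q hne (by omega)
        rw [h2G_eq_zero z p q i hi, mul_zero]
      · intro hq'
        exfalso
        apply hq'
        rw [Finset.mem_sdiff, h2_mem_F, h2_mem_F]
        exact ⟨hq, hqm⟩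

theorem h2_vanish_all_of_le (z : ι → B) : ∀ (m : ℕ) (E : B →ₗ[A] N), IsDiffOpLE A B B N m E →
    (∀ q : ι → ℕ, ∑ i, q i ≤ m → E (∏ i, z i ^ q i) = 0) →
    ∀ q : ι → ℕ, E (∏ i, z i ^ q i) = 0 := by
  intro m
  induction m with
  | zero =>
    intro E hE h q
    have h1 : E 1 = 0 := by simpa using h 0 (by simp)
    have := hE (∏ i, z i ^ q i) 1
    rw [smul_eq_mul, mul_one] at this
    rw [this, h1, smul_zero]
  | succ m ih =>
    intro E hE h
    have hstep : ∀ (q : ι → ℕ) (i : ι),
        E (∏ j, z j ^ (q + Pi.single i 1 : ι → ℕ) j) = z i • E (∏ j, z j ^ q j) := by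
      intro q i
      have := ih (commutator A B B N E (z i)) (hE (z i)) ?_ q
      · rw [h2_commutator_apply, smul_eq_mul, h2_mul_monomial, sub_eq_zero] at this
        exact this
      · intro q' hq'
        rw [h2_commutator_apply, smul_eq_mul, h2_mul_monomial, h q' (by omega), smul_zero,
          sub_zero]
        apply h
        rw [h2_sum_add_single]
        omega
    intro q
    induction q using h2_pi_induction with
    | h0 => exact h 0 (by simp)
    | hs q i hq => rw [hstep, hq, smul_zero]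

theorem h2_coeffs_zero (z : ι → B) (F : Finset (ι → ℕ)) (d : (ι → ℕ) → B)
    (h : ∀ q, ∑ p ∈ F, d p * h2G z p q = 0) : ∀ p ∈ F, d p = 0 := by
  have key : ∀ (n : ℕ) (q : ι → ℕ), ∑ i, q i = n → q ∈ F → d q = 0 := by
    intro n
    induction n using Nat.strong_induction_on with
    | _ n ih =>
      intro q hq hqF
      have := h q
      rw [Finset.sum_eq_single q, h2G_self, mul_one] at this
      · exact this
      · intro p hp hne
        by_cases hlt : ∑ i, p i < n
        · rw [ih _ hlt p rfl hp, zero_mul]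
        · obtain ⟨i, hi⟩ := h2_exists_lt_of_sum_le p q hne (by omega)
          rw [h2G_eq_zero z p q i hi, mul_zero]
      · intro hq'
        exact absurd hqF hq'
  intro p hp
  exact key _ p rfl hp

variable (z : ι → B)
  (hz : Submodule.span B (Set.range fun i => KaehlerDifferential.D A B (z i)) = ⊤)
  (Dp : (ι → ℕ) → (B →ₗ[A] B)) (hD : ∀ p, ∃ k : ℕ, IsDiffOpLE A B B B k (Dp p))
  (hDz : ∀ p q : ι → ℕ, Dp p (∏ i, z i ^ q i) = h2G z p q)

include hz hD hDz in
theorem h2_comm_Dp (p : ι → ℕ) (i : ι) :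
    commutator A B B B (Dp p) (z i) = if 1 ≤ p i then Dp (p - Pi.single i 1) else 0 := by
  obtain ⟨k, hk⟩ := hD p
  obtain ⟨k', hk'⟩ := hD (p - Pi.single i 1)
  have hR : IsDiffOpLE A B B B k' (if 1 ≤ p i then Dp (p - Pi.single i 1) else 0) := by
    split_ifs
    · exact hk'
    · exact h2_isDiffOpLE_zero k'
  apply h2_eq_of_monomials z hz k k' _ _ (h2_isDiffOpLE_commutator k _ hk _) hR
  intro q
  rw [h2_commutator_apply, smul_eq_mul, smul_eq_mul, h2_mul_monomial, hDz, hDz, h2G_succ]
  split_ifs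
  · rw [hDz]
    ring
  · simp

include hz hD hDz in
theorem h2_Dp_order : ∀ (n : ℕ) (p : ι → ℕ), ∑ i, p i = n → IsDiffOpLE A B B B n (Dp p) := by
  intro n
  induction n with
  | zero =>
    intro p hp
    obtain ⟨k, hk⟩ := hD p
    apply h2_order_of_comm z hz 0 k _ hk
    intro i x _
    rw [h2_comm_Dp z hz Dp hD hDz]
    have h0 : ¬ 1 ≤ p i := by
      have := Finset.single_le_sum (f := p) (fun j _ => Nat.zero_le _) (Finset.mem_univ i)
      omega
    rw [if_neg h0, h2_linearize_zero]
    rfl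
  | succ n ih =>
    intro p hp
    obtain ⟨k, hk⟩ := hD p
    apply h2_order_of_comm z hz (n + 1) k _ hk
    intro i x hx
    rw [h2_comm_Dp z hz Dp hD hDz]
    split_ifs with h1
    · apply (h2_isDiffOpLE_iff_linearize n _).mp (ih _ ?_) x hx
      have := h2_sum_sub_single p i h1
      omega
    · rw [h2_linearize_zero]
      rfl

include hz hD hDz in
theorem h2_exists_coeffs (m : ℕ) (D : B →ₗ[A] B) (hDm : IsDiffOpLE A B B B m D) :
    ∃ a : (ι → ℕ) → B, D = ∑ p ∈ h2F ι (m + 1), a p • Dp p := by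
  obtain ⟨a, ha⟩ := h2_triangular_solve z (fun q => D (∏ i, z i ^ q i)) (m + 1)
  refine ⟨a, ?_⟩
  rw [← sub_eq_zero]
  have hord : IsDiffOpLE A B B B m (D - ∑ p ∈ h2F ι (m + 1), a p • Dp p) := by
    rw [sub_eq_add_neg]
    apply h2_isDiffOpLE_add _ _ _ hDm
    apply h2_isDiffOpLE_neg
    apply h2_isDiffOpLE_sum
    intro p hp
    rw [h2_mem_F] at hp
    apply h2_isDiffOpLE_smulB
    exact h2_isDiffOpLE_mono (by omega) _ (h2_Dp_order z hz Dp hD hDz _ p rfl)
  apply h2_eq_zero_of_monomials z hz m _ hord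
  apply h2_vanish_all_of_le z m _ hord
  intro q hq
  rw [LinearMap.sub_apply, LinearMap.sum_apply, sub_eq_zero, ← ha q (by omega)]
  apply Finset.sum_congr rfl
  intro p _
  rw [LinearMap.smul_apply, hDz, smul_eq_mul]

include hDz in
theorem h2_coeffs_unique (F : Finset (ι → ℕ)) (d : (ι → ℕ) → B)
    (h : ∑ p ∈ F, d p • Dp p = 0) : ∀ p ∈ F, d p = 0 := by
  apply h2_coeffs_zero z F d
  intro q
  have := congrArg (fun E : B →ₗ[A] B => E (∏ i, z i ^ q i)) h
  simp only [LinearMap.sum_apply, LinearMap.smul_apply, LinearMap.zero_apply, hDz, smul_eq_mul]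
    at this
  exact this

end Coord

end Groth.Agent.Lib.helper2
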