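import Mathlib
import Groth.Prelude.Def_FSRel

/-! Relative formal smoothness and splitting of the first fundamental sequence (helper2). -/

set_option autoImplicit false
set_option linter.unusedSectionVars false

universe u

open TensorProduct

noncomputable section

namespace Groth.Agent.Lib.helper2

section Model

variable (A B C : Type u) [CommRing A] [CommRing B] [CommRing C] [Algebra A B] [Algebra B C]
  [Algebra A C] [IsScalarTower A B C]

/-- the module `C ⊗_B Ω_{B/A}` as a type synonym -/
def h2M : Type u := C ⊗[B] Ω[B⁄A]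

instance : AddCommGroup (h2M A B C) := inferInstanceAs (AddCommGroup (C ⊗[B] Ω[B⁄A]))
instance : Module C (h2M A B C) := inferInstanceAs (Module C (C ⊗[B] Ω[B⁄A]))
instance : Module A (h2M A B C) := inferInstanceAs (Module A (C ⊗[B] Ω[B⁄A]))
instance : IsScalarTower A C (h2M A B C) := inferInstanceAs (IsScalarTower A C (C ⊗[B] Ω[B⁄A]))
instance : Module Cᵐᵒᵖ (h2M A B C) := Module.compHom _ ((RingHom.id C).fromOpposite mul_comm)
instance : IsCentralScalar C (h2M A B C) := ⟨fun _ _ => rfl⟩
instance : IsScalarTower A Cᵐᵒᵖ (h2M A B C) :=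
  ⟨fun a c m => smul_assoc a (MulOpposite.unop c) m⟩

/-- the canonical element `1 ⊗ db` -/
def h2el (b : B) : h2M A B C := ((1 : C) ⊗ₜ[B] KaehlerDifferential.D A B b : C ⊗[B] Ω[B⁄A])

theorem h2el_mul (b b' : B) : h2el A B C (b * b') =
    algebraMap B C b • h2el A B C b' + algebraMap B C b' • h2el A B C b := by
  show ((1 : C) ⊗ₜ[B] KaehlerDifferential.D A B (b * b') : C ⊗[B] Ω[B⁄A]) =
    algebraMap B C b • ((1 : C) ⊗ₜ[B] KaehlerDifferential.D A B b') +
      algebraMap B C b' • ((1 : C) ⊗ₜ[B] KaehlerDifferential.D A B b)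
  rw [Derivation.leibniz, TensorProduct.tmul_add, TensorProduct.smul_tmul', TensorProduct.smul_tmul',
    ← TensorProduct.smul_tmul, ← TensorProduct.smul_tmul, smul_eq_mul, smul_eq_mul, mul_one, mul_one,
    Algebra.smul_def, Algebra.smul_def, mul_one, mul_one]

theorem h2el_add (b b' : B) : h2el A B C (b + b') = h2el A B C b + h2el A B C b' := by
  show ((1 : C) ⊗ₜ[B] KaehlerDifferential.D A B (b + b') : C ⊗[B] Ω[B⁄A]) = _
  rw [map_add, TensorProduct.tmul_add]
  rfl

theorem h2el_algebraMap (a : A) : h2el A B C (algebraMap A B a) = 0 := by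
  show ((1 : C) ⊗ₜ[B] KaehlerDifferential.D A B (algebraMap A B a) : C ⊗[B] Ω[B⁄A]) = 0
  rw [Derivation.map_algebraMap, TensorProduct.tmul_zero]

theorem h2el_one : h2el A B C 1 = 0 := by
  have := h2el_algebraMap A B C 1
  rwa [map_one] at this

/-- the twisted structure map `B → C ⊕ M` -/
def h2tw : B →+* TrivSqZeroExt C (h2M A B C) where
  toFun b := TrivSqZeroExt.inl (algebraMap B C b) + TrivSqZeroExt.inr (h2el A B C b)
  map_one' := by
    rw [h2el_one, map_one, TrivSqZeroExt.inr_zero, add_zero, TrivSqZeroExt.inl_one]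
  map_mul' b b' := by
    apply TrivSqZeroExt.ext
    · simp
    · simp only [TrivSqZeroExt.snd_add, TrivSqZeroExt.snd_inl, TrivSqZeroExt.snd_inr, zero_add,
        TrivSqZeroExt.snd_mul, TrivSqZeroExt.fst_add, TrivSqZeroExt.fst_inl, TrivSqZeroExt.fst_inr,
        add_zero, op_smul_eq_smul]
      exact h2el_mul A B C b b'
  map_zero' := by
    have : h2el A B C 0 = 0 := by
      have := h2el_algebraMap A B C 0
      rwa [map_zero] at this
    rw [this, map_zero, TrivSqZeroExt.inr_zero, add_zero, TrivSqZeroExt.inl_zero]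
  map_add' b b' := by
    rw [h2el_add, map_add, TrivSqZeroExt.inl_add, TrivSqZeroExt.inr_add]
    abel

/-- the twisted algebra structure -/
instance h2twAlg : Algebra B (TrivSqZeroExt C (h2M A B C)) := (h2tw A B C).toAlgebra

theorem h2tw_apply (b : B) : algebraMap B (TrivSqZeroExt C (h2M A B C)) b =
    TrivSqZeroExt.inl (algebraMap B C b) + TrivSqZeroExt.inr (h2el A B C b) := rfl

instance : IsScalarTower A B (TrivSqZeroExt C (h2M A B C)) :=
  IsScalarTower.of_algebraMap_eq (fun a => by
    rw [h2tw_apply, h2el_algebraMap, TrivSqZeroExt.inr_zero, add_zero,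
      ← IsScalarTower.algebraMap_apply]
    rfl)

theorem h2_exists_retraction (h : EGA41.IsFormallySmoothRel A B C) :
    ∃ l : Ω[C⁄A] →ₗ[C] C ⊗[B] Ω[B⁄A],
      l ∘ₗ KaehlerDifferential.mapBaseChange A B C = LinearMap.id := by
  have hJ := TrivSqZeroExt.kerIdeal_sq C (h2M A B C)
  have hcomm : ∀ b : B, ((Ideal.Quotient.mk (TrivSqZeroExt.kerIdeal C (h2M A B C))).comp
      (TrivSqZeroExt.inlHom C (h2M A B C))) (algebraMap B C b) =
      algebraMap B (TrivSqZeroExt C (h2M A B C) ⧸ TrivSqZeroExt.kerIdeal C (h2M A B C)) b := by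
    intro b
    show Ideal.Quotient.mk _ (TrivSqZeroExt.inl (algebraMap B C b)) =
      Ideal.Quotient.mk _ (algebraMap B (TrivSqZeroExt C (h2M A B C)) b)
    rw [Ideal.Quotient.eq, h2tw_apply, TrivSqZeroExt.kerIdeal, RingHom.mem_ker]
    simp
  obtain ⟨v, hv⟩ := h (TrivSqZeroExt C (h2M A B C)) (TrivSqZeroExt.kerIdeal C (h2M A B C)) hJ
    { toRingHom := (Ideal.Quotient.mk _).comp (TrivSqZeroExt.inlHom C (h2M A B C)),
      commutes' := hcomm }
    ⟨TrivSqZeroExt.inlAlgHom A C (h2M A B C), by ext c; rfl⟩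
  have hfst : ∀ c, (v c).fst = c := by
    intro c
    have h1 := DFunLike.congr_fun hv c
    have h2 : Ideal.Quotient.mk (TrivSqZeroExt.kerIdeal C (h2M A B C)) (v c) =
        Ideal.Quotient.mk _ (TrivSqZeroExt.inl c) := h1
    rw [Ideal.Quotient.eq, TrivSqZeroExt.kerIdeal, RingHom.mem_ker, map_sub] at h2
    simpa [sub_eq_zero] using h2
  obtain ⟨D', hD'⟩ : ∃ D' : Derivation A C (h2M A B C), ∀ c, D' c = (v c).snd := by
    refine ⟨Derivation.mk'
      { toFun := fun c => (v c).snd
        map_add' := fun c c' => by rw [map_add, TrivSqZeroExt.snd_add]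
        map_smul' := fun a c => by
          have : v (a • c) = a • v c := (v.restrictScalars A).toLinearMap.map_smul a c
          rw [this, TrivSqZeroExt.snd_smul]
          rfl } ?_, fun c => rfl⟩
    intro c c'
    show (v (c * c')).snd = c • (v c').snd + c' • (v c).snd
    rw [map_mul, TrivSqZeroExt.snd_mul, hfst, hfst, op_smul_eq_smul]
  have hD'b : ∀ b : B, D' (algebraMap B C b) = h2el A B C b := by
    intro b
    rw [hD', AlgHom.commutes, h2tw_apply]
    simp
  refine ⟨D'.liftKaehlerDifferential, ?_⟩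
  have key : ∀ ω : Ω[B⁄A], D'.liftKaehlerDifferential (KaehlerDifferential.map A A B C ω) =
      ((1 : C) ⊗ₜ[B] ω : C ⊗[B] Ω[B⁄A]) := by
    intro ω
    have hω : ω ∈ Submodule.span B (Set.range (KaehlerDifferential.D A B)) := by
      rw [KaehlerDifferential.span_range_derivation]
      trivial
    induction hω using Submodule.span_induction with
    | mem x hx =>
      obtain ⟨b, rfl⟩ := hx
      rw [KaehlerDifferential.map_D, Derivation.liftKaehlerDifferential_comp_D, hD'b]
      rfl
    | zero => rw [map_zero, map_zero, TensorProduct.tmul_zero]; rfl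
    | add x y _ _ hx hy => rw [map_add, map_add, hx, hy, TensorProduct.tmul_add]; rfl
    | smul b x _ hx =>
      rw [map_smul, ← algebraMap_smul C b, map_smul, hx]
      show (algebraMap B C b) • ((1 : C) ⊗ₜ[B] x : C ⊗[B] Ω[B⁄A]) = (1 : C) ⊗ₜ[B] (b • x)
      rw [TensorProduct.smul_tmul', smul_eq_mul, mul_one, TensorProduct.tmul_smul,
        TensorProduct.smul_tmul', Algebra.smul_def, mul_one]
  apply TensorProduct.AlgebraTensorModule.ext
  intro c ω
  show D'.liftKaehlerDifferential (KaehlerDifferential.mapBaseChange A B C (c ⊗ₜ ω)) = c ⊗ₜ ω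
  rw [KaehlerDifferential.mapBaseChange_tmul, map_smul, key]
  show c • ((1 : C) ⊗ₜ[B] ω : C ⊗[B] Ω[B⁄A]) = c ⊗ₜ ω
  rw [TensorProduct.smul_tmul', smul_eq_mul, mul_one]

end Model

section Converse

variable (A B C : Type u) [CommRing A] [CommRing B] [CommRing C] [Algebra A B] [Algebra B C]
  [Algebra A C] [IsScalarTower A B C]

theorem h2_isFormallySmoothRel_of_retraction
    (l : Ω[C⁄A] →ₗ[C] C ⊗[B] Ω[B⁄A])
    (hl : l ∘ₗ KaehlerDifferential.mapBaseChange A B C = LinearMap.id) :
    EGA41.IsFormallySmoothRel A B C := by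
  intro C' i1 i2 i3 i4 J hJ u₀ hex
  obtain ⟨u, hu⟩ := hex
  let _ : Algebra C C' := u.toRingHom.toAlgebra
  have hCC' : ∀ c : C, algebraMap C C' c = u c := fun c => rfl
  have : IsScalarTower A C C' := IsScalarTower.of_algebraMap_eq (fun a => (u.commutes a).symm)
  have e' : (Ideal.Quotient.mkₐ A J).comp (u.comp (IsScalarTower.toAlgHom A B C)) =
      IsScalarTower.toAlgHom A B (C' ⧸ J) := by
    ext b
    have h1 := DFunLike.congr_fun hu (algebraMap B C b)
    have h2 : Ideal.Quotient.mk J (u (algebraMap B C b)) = u₀ (algebraMap B C b) := h1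
    show Ideal.Quotient.mk J (u (algebraMap B C b)) = algebraMap B (C' ⧸ J) b
    rw [h2, AlgHom.commutes]
  obtain ⟨δ, hδ⟩ : ∃ δ : Derivation A B J, ∀ b, (δ b : C') =
      u (algebraMap B C b) - algebraMap B C' b :=
    ⟨derivationToSquareZeroOfLift J hJ (u.comp (IsScalarTower.toAlgHom A B C)) e', fun b => rfl⟩
  have : IsScalarTower B C J := IsScalarTower.of_algebraMap_smul (fun b j => by
    apply Subtype.ext
    show (algebraMap B C b) • (j : C') = b • (j : C')
    rw [Algebra.smul_def, Algebra.smul_def, hCC']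
    have h0 : (u (algebraMap B C b) - algebraMap B C' b) * (j : C') = 0 := by
      rw [← Ideal.mem_bot, ← hJ, pow_two, ← hδ]
      exact Ideal.mul_mem_mul (δ b).2 j.2
    rw [sub_mul, sub_eq_zero] at h0
    exact h0)
  obtain ⟨DC, hDC⟩ : ∃ DC : Derivation A C J, ∀ b : B, DC (algebraMap B C b) = δ b := by
    refine ⟨((δ.liftKaehlerDifferential.liftBaseChange C) ∘ₗ l).compDer
      (KaehlerDifferential.D A C), fun b => ?_⟩
    have h1 : KaehlerDifferential.D A C (algebraMap B C b) =
        KaehlerDifferential.mapBaseChange A B C ((1 : C) ⊗ₜ[B] KaehlerDifferential.D A B b) := by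
      rw [KaehlerDifferential.mapBaseChange_tmul, one_smul, KaehlerDifferential.map_D]
    show (δ.liftKaehlerDifferential.liftBaseChange C)
      (l (KaehlerDifferential.D A C (algebraMap B C b))) = δ b
    rw [h1]
    have h2 : l (KaehlerDifferential.mapBaseChange A B C
        ((1 : C) ⊗ₜ[B] KaehlerDifferential.D A B b)) =
        (1 : C) ⊗ₜ[B] KaehlerDifferential.D A B b := LinearMap.congr_fun hl _
    rw [h2, LinearMap.liftBaseChange_tmul, one_smul, Derivation.liftKaehlerDifferential_comp_D]
  have hcomm : ∀ b : B, (liftOfDerivationToSquareZero J hJ (-DC)).toRingHom (algebraMap B C b) =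
      algebraMap B C' b := by
    intro b
    show liftOfDerivationToSquareZero J hJ (-DC) (algebraMap B C b) = algebraMap B C' b
    rw [liftOfDerivationToSquareZero_apply, Derivation.neg_apply, hDC, Submodule.coe_neg, hδ, hCC']
    ring
  refine ⟨{ toRingHom := (liftOfDerivationToSquareZero J hJ (-DC)).toRingHom,
            commutes' := hcomm }, ?_⟩
  ext c
  show Ideal.Quotient.mk J (liftOfDerivationToSquareZero J hJ (-DC) c) = u₀ c
  rw [liftOfDerivationToSquareZero_mk_apply]
  have h1 := DFunLike.congr_fun hu c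
  have h2 : Ideal.Quotient.mk J (u c) = u₀ c := h1
  rw [← h2]
  rfl

end Converse

end Groth.Agent.Lib.helper2
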