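import Mathlib

set_option autoImplicit false
universe u

open TensorProduct

namespace H2FN

variable {A : Type u} [CommRing A]

/-- transfer of injectivity along `A → A/J` using flatness of `(A/J) ⊗ M`. -/
theorem rTensor_injective_of_quot {J : Ideal A} {M : Type u} [AddCommGroup M] [Module A M]
    (h0 : Module.Flat (A ⧸ J) ((A ⧸ J) ⊗[A] M))
    {N₁ N₂ : Type u} [AddCommGroup N₁] [AddCommGroup N₂] [Module A N₁] [Module A N₂]
    [Module (A ⧸ J) N₁] [Module (A ⧸ J) N₂] [IsScalarTower A (A ⧸ J) N₁]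
    [IsScalarTower A (A ⧸ J) N₂]
    (j : N₁ →ₗ[A] N₂) (hj : Function.Injective j) :
    Function.Injective (LinearMap.rTensor M j) := by
  have hsurj : Function.Surjective (algebraMap A (A ⧸ J)) := Ideal.Quotient.mk_surjective
  let j' : N₁ →ₗ[A ⧸ J] N₂ := j.extendScalarsOfSurjective hsurj
  have hj' : Function.Injective (LinearMap.rTensor ((A ⧸ J) ⊗[A] M) j') :=
    Module.Flat.rTensor_preserves_injective_linearMap j' hj
  let e₁ := TensorProduct.AlgebraTensorModule.cancelBaseChange A (A ⧸ J) (A ⧸ J) N₁ M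
  let e₂ := TensorProduct.AlgebraTensorModule.cancelBaseChange A (A ⧸ J) (A ⧸ J) N₂ M
  have hcomm : ∀ z, LinearMap.rTensor M j (e₁ z) =
      e₂ (LinearMap.rTensor ((A ⧸ J) ⊗[A] M) j' z) := by
    intro z
    induction z using TensorProduct.induction_on with
    | zero => simp
    | tmul n w =>
      induction w using TensorProduct.induction_on with
      | zero => simp
      | tmul a m =>
        simp only [e₁, e₂, TensorProduct.AlgebraTensorModule.cancelBaseChange_tmul,
          LinearMap.rTensor_tmul]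
        show j' (a • n) ⊗ₜ[A] m = (a • j' n) ⊗ₜ[A] m
        rw [map_smul]
      | add w₁ w₂ h₁ h₂ => simp only [TensorProduct.tmul_add, map_add, h₁, h₂]
    | add z₁ z₂ h₁ h₂ => simp only [map_add, h₁, h₂]
  intro x y hxy
  have : e₁.symm x = e₁.symm y := by
    apply hj'
    apply e₂.injective
    rw [← hcomm, ← hcomm]
    simpa using hxy
  exact e₁.symm.injective this

theorem rTensor_injective_of_torsion {J : Ideal A} {M : Type u} [AddCommGroup M] [Module A M]
    (h0 : Module.Flat (A ⧸ J) ((A ⧸ J) ⊗[A] M))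
    {N₁ N₂ : Type u} [AddCommGroup N₁] [AddCommGroup N₂] [Module A N₁] [Module A N₂]
    (h1 : ∀ a ∈ J, ∀ n : N₁, a • n = 0) (h2 : ∀ a ∈ J, ∀ n : N₂, a • n = 0)
    (j : N₁ →ₗ[A] N₂) (hj : Function.Injective j) :
    Function.Injective (LinearMap.rTensor M j) := by
  have t1 : Module.IsTorsionBySet A N₁ (J : Set A) := fun n a => h1 a.1 a.2 n
  have t2 : Module.IsTorsionBySet A N₂ (J : Set A) := fun n a => h2 a.1 a.2 n
  letI := t1.module
  letI := t2.module
  exact rTensor_injective_of_quot h0 j hj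

theorem rTensor_subtype_injective_of_le {J : Ideal A} {M : Type u} [AddCommGroup M] [Module A M]
    (h0 : Module.Flat (A ⧸ J) ((A ⧸ J) ⊗[A] M))
    (hμ : Function.Injective (LinearMap.rTensor M J.subtype))
    (𝔞 : Ideal A) (hJ𝔞 : J ≤ 𝔞) : Function.Injective (LinearMap.rTensor M 𝔞.subtype) := by
  let N₁ : Ideal (A ⧸ J) := 𝔞.map (Ideal.Quotient.mk J)
  let ι : J →ₗ[A] 𝔞 := Submodule.inclusion hJ𝔞
  let g : 𝔞 →ₗ[A] N₁ :=
    { toFun := fun a => ⟨Ideal.Quotient.mk J a.1, Ideal.mem_map_of_mem _ a.2⟩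
      map_add' := fun a b => Subtype.ext (by simp)
      map_smul' := fun r a => Subtype.ext (by simp [Algebra.smul_def]) }
  let j : N₁ →ₗ[A] (A ⧸ J) := (N₁.subtype).restrictScalars A
  have hj : Function.Injective j := Subtype.val_injective
  have hinj := rTensor_injective_of_quot h0 j hj
  have hexact : Function.Exact ι g := by
    intro y
    constructor
    · intro hy
      have h1 : Ideal.Quotient.mk J y.1 = 0 := congrArg Subtype.val hy
      rw [Ideal.Quotient.eq_zero_iff_mem] at h1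
      exact ⟨⟨y.1, h1⟩, rfl⟩
    · rintro ⟨x, rfl⟩
      apply Subtype.ext
      show Ideal.Quotient.mk J x.1 = 0
      rw [Ideal.Quotient.eq_zero_iff_mem]; exact x.2
  have hsurj : Function.Surjective g := by
    rintro ⟨z, hz⟩
    obtain ⟨a, ha, rfl⟩ := (Ideal.mem_map_iff_of_surjective _ Ideal.Quotient.mk_surjective).1 hz
    exact ⟨⟨a, ha⟩, rfl⟩
  have hex := rTensor_exact M hexact hsurj
  let q : A →ₗ[A] A ⧸ J := (Ideal.Quotient.mkₐ A J).toLinearMap
  rw [injective_iff_map_eq_zero]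
  intro x hx
  have h1 : LinearMap.rTensor M g x = 0 := by
    apply hinj
    rw [map_zero, ← LinearMap.rTensor_comp_apply]
    have : j ∘ₗ g = q ∘ₗ 𝔞.subtype := LinearMap.ext (fun a => rfl)
    rw [this, LinearMap.rTensor_comp_apply, hx, map_zero]
  obtain ⟨σ, hσ⟩ := (hex x).1 h1
  have h2 : LinearMap.rTensor M J.subtype σ = 0 := by
    have : J.subtype = 𝔞.subtype ∘ₗ ι := LinearMap.ext (fun a => rfl)
    rw [this, LinearMap.rTensor_comp_apply, hσ, hx]
  have : σ = 0 := hμ (by rw [h2, map_zero])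
  rw [← hσ, this, map_zero]

theorem rTensor_inclusion_injective_sup_span {J : Ideal A} {M : Type u} [AddCommGroup M]
    [Module A M]
    (hC1 : ∀ 𝔞 : Ideal A, J ≤ 𝔞 → Function.Injective (LinearMap.rTensor M 𝔞.subtype))
    (𝔟 : Ideal A) (c : A) (hc : ∀ a ∈ J, a * c ∈ 𝔟) :
    Function.Injective (LinearMap.rTensor M
      (Submodule.inclusion (le_sup_left : 𝔟 ≤ 𝔟 ⊔ Ideal.span {c}))) := by
  have hc𝔠 : c ∈ 𝔟 ⊔ Ideal.span {c} := Ideal.mem_sup_right (Ideal.subset_span rfl)
  let incl : 𝔟 →ₗ[A] ↥(𝔟 ⊔ Ideal.span {c}) := Submodule.inclusion le_sup_left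
  let tc : A →ₗ[A] ↥(𝔟 ⊔ Ideal.span {c}) := LinearMap.toSpanSingleton A _ ⟨c, hc𝔠⟩
  let ψ : (𝔟 × A) →ₗ[A] ↥(𝔟 ⊔ Ideal.span {c}) := incl.coprod tc
  let 𝔞' : Ideal A :=
    LinearMap.ker ((Ideal.Quotient.mkₐ A 𝔟).toLinearMap ∘ₗ LinearMap.toSpanSingleton A A c)
  have h𝔞' : ∀ a, a ∈ 𝔞' ↔ a * c ∈ 𝔟 := by
    intro a
    simp only [𝔞', LinearMap.mem_ker, LinearMap.comp_apply, LinearMap.toSpanSingleton_apply,
      smul_eq_mul, AlgHom.toLinearMap_apply, Ideal.Quotient.mkₐ_eq_mk]
    rw [Ideal.Quotient.eq_zero_iff_mem]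
  have hJ𝔞' : J ≤ 𝔞' := fun a ha => (h𝔞' a).2 (hc a ha)
  let κ₁ : 𝔞' →ₗ[A] 𝔟 := LinearMap.codRestrict 𝔟
    (LinearMap.toSpanSingleton A A c ∘ₗ 𝔞'.subtype) (fun a => by simpa using (h𝔞' a.1).1 a.2)
  let κ : 𝔞' →ₗ[A] 𝔟 × A := LinearMap.prod (-κ₁) 𝔞'.subtype
  have hψ : ∀ y : 𝔟 × A, ((ψ y : ↥(𝔟 ⊔ Ideal.span {c})) : A) = (y.1 : A) + y.2 * c := by
    intro y
    simp [ψ, incl, tc]
  have hexact : Function.Exact κ ψ := by
    intro y
    constructor
    · intro hy
      have h0 : (y.1 : A) + y.2 * c = 0 := by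
        rw [← hψ, hy]; rfl
      have ha : y.2 ∈ 𝔞' := by
        rw [h𝔞']
        have : y.2 * c = - (y.1 : A) := by linear_combination h0
        rw [this]; exact 𝔟.neg_mem y.1.2
      refine ⟨⟨y.2, ha⟩, ?_⟩
      refine Prod.ext (Subtype.ext ?_) rfl
      show -(y.2 * c) = (y.1 : A)
      linear_combination -h0
    · rintro ⟨a, rfl⟩
      apply Subtype.ext
      rw [hψ]
      show -(a.1 * c) + a.1 * c = 0
      ring
  have hsurj : Function.Surjective ψ := by
    rintro ⟨z, hz⟩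
    obtain ⟨y, hy, z', hz', rfl⟩ := Submodule.mem_sup.1 hz
    obtain ⟨a, rfl⟩ := Ideal.mem_span_singleton'.1 hz'
    refine ⟨(⟨y, hy⟩, a), Subtype.ext ?_⟩
    rw [hψ]
  rw [injective_iff_map_eq_zero]
  intro x hx
  have e1 : LinearMap.rTensor M ψ (LinearMap.rTensor M (LinearMap.inl A 𝔟 A) x) = 0 := by
    rw [← LinearMap.rTensor_comp_apply]
    have : ψ ∘ₗ LinearMap.inl A 𝔟 A = incl := LinearMap.coprod_inl _ _
    rw [this]; exact hx
  obtain ⟨ρ, hρ⟩ := (rTensor_exact M hexact hsurj _).1 e1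
  have e2 : LinearMap.rTensor M 𝔞'.subtype ρ = 0 := by
    have h1 : 𝔞'.subtype = LinearMap.snd A 𝔟 A ∘ₗ κ := (LinearMap.snd_prod _ _).symm
    have h2 : LinearMap.snd A 𝔟 A ∘ₗ LinearMap.inl A 𝔟 A = 0 :=
      LinearMap.snd_comp_inl _ _ _
    rw [h1, LinearMap.rTensor_comp_apply, hρ, ← LinearMap.rTensor_comp_apply, h2,
      LinearMap.rTensor_zero, LinearMap.zero_apply]
  have hρ0 : ρ = 0 := hC1 𝔞' hJ𝔞' (by rw [e2, map_zero])
  have e3 : LinearMap.rTensor M (LinearMap.inl A 𝔟 A) x = 0 := by rw [← hρ, hρ0, map_zero]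
  have e4 : x = LinearMap.rTensor M (LinearMap.fst A 𝔟 A)
      (LinearMap.rTensor M (LinearMap.inl A 𝔟 A) x) := by
    rw [← LinearMap.rTensor_comp_apply, LinearMap.fst_comp_inl, LinearMap.rTensor_id,
      LinearMap.id_apply]
  rw [e4, e3, map_zero]

theorem flat_of_nilpotent [IsNoetherianRing A] {J : Ideal A} (hJ : IsNilpotent J)
    {M : Type u} [AddCommGroup M] [Module A M]
    (h0 : Module.Flat (A ⧸ J) ((A ⧸ J) ⊗[A] M))
    (hμ : Function.Injective (LinearMap.rTensor M J.subtype)) : Module.Flat A M := by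
  classical
  obtain ⟨m, hm⟩ := hJ
  have hC1 := rTensor_subtype_injective_of_le h0 hμ
  rw [Module.Flat.iff_rTensor_injective']
  intro 𝔞
  let S' : Set (Submodule A A) := {𝔠 | ∃ h : 𝔞 ≤ 𝔠,
    Function.Injective (LinearMap.rTensor M (Submodule.inclusion h))}
  have hne : S'.Nonempty := ⟨𝔞, le_rfl, by
    have : Submodule.inclusion (le_refl 𝔞) = LinearMap.id := LinearMap.ext (fun _ => rfl)
    rw [this, LinearMap.rTensor_id]; exact Function.injective_id⟩
  obtain ⟨𝔠, ⟨h𝔞𝔠, hinj⟩, hmax⟩ :=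
    set_has_maximal_iff_noetherian.mpr (inferInstance : IsNoetherian A A) S' hne
  have htop : 𝔠 = ⊤ := by
    by_contra hne'
    have hex : ∃ k, J ^ k ≤ 𝔠 := ⟨m, by rw [hm]; exact bot_le⟩
    have hk : J ^ (Nat.find hex) ≤ 𝔠 := Nat.find_spec hex
    have hk0 : Nat.find hex ≠ 0 := by
      intro h0'
      rw [h0', pow_zero, Ideal.one_eq_top, top_le_iff] at hk
      exact hne' hk
    obtain ⟨k', hk'⟩ := Nat.exists_eq_succ_of_ne_zero hk0
    have hnot : ¬ J ^ k' ≤ 𝔠 := Nat.find_min hex (by omega)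
    obtain ⟨c, hcJ, hc𝔠⟩ := SetLike.not_le_iff_exists.1 hnot
    have hc : ∀ a ∈ J, a * c ∈ 𝔠 := fun a ha =>
      hk (by rw [hk', pow_succ']; exact Ideal.mul_mem_mul ha hcJ)
    have hstep := rTensor_inclusion_injective_sup_span hC1 𝔠 c hc
    have hmem : 𝔠 ⊔ Ideal.span {c} ∈ S' := by
      refine ⟨h𝔞𝔠.trans le_sup_left, ?_⟩
      have : Submodule.inclusion (h𝔞𝔠.trans le_sup_left) =
          (Submodule.inclusion (le_sup_left : 𝔠 ≤ 𝔠 ⊔ Ideal.span {c})) ∘ₗ
            Submodule.inclusion h𝔞𝔠 := LinearMap.ext (fun _ => rfl)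
      rw [this, LinearMap.rTensor_comp, LinearMap.coe_comp]
      exact hstep.comp hinj
    refine hmax _ hmem (lt_of_le_of_ne le_sup_left ?_)
    intro heq
    apply hc𝔠
    rw [heq]
    exact Ideal.mem_sup_right (Ideal.subset_span rfl)
  subst htop
  have : 𝔞.subtype = (⊤ : Ideal A).subtype ∘ₗ Submodule.inclusion h𝔞𝔠 :=
    LinearMap.ext (fun _ => rfl)
  rw [this, LinearMap.rTensor_comp, LinearMap.coe_comp]
  exact (hC1 ⊤ le_top).comp hinj

theorem rTensor_injective_of_ass [IsNoetherianRing A] {J : Ideal A} {M : Type u}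
    [AddCommGroup M] [Module A M]
    (h0 : Module.Flat (A ⧸ J) ((A ⧸ J) ⊗[A] M))
    (hp : ∀ (p : Ideal A) [p.IsPrime], p ∈ associatedPrimes A A →
      Module.Flat (Localization.AtPrime p) (LocalizedModule p.primeCompl M))
    {N Q : Type u} [AddCommGroup N] [AddCommGroup Q] [Module A N] [Module A Q]
    (hJN : ∀ a ∈ J, ∀ n : N, a • n = 0)
    (htf : ∀ s : A, (∀ x : A, s * x = 0 → x = 0) → ∀ n : N, s • n = 0 → n = 0)
    (j : N →ₗ[A] Q) (hj : Function.Injective j) :
    Function.Injective (LinearMap.rTensor M j) := by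
  classical
  rw [injective_iff_map_eq_zero]
  intro κ hκ
  -- (i)
  have hi : ∀ s : A, (∀ x : A, s * x = 0 → x = 0) → s • κ = 0 → κ = 0 := by
    intro s hs hsκ
    have hinj : Function.Injective (LinearMap.rTensor M (s • (LinearMap.id : N →ₗ[A] N))) :=
      rTensor_injective_of_torsion h0 hJN hJN _ (fun x y hxy => by
        have h1 : s • x = s • y := hxy
        have : s • (x - y) = 0 := by rw [smul_sub, h1, sub_self]
        exact sub_eq_zero.1 (htf s hs _ this))
    apply hinj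
    rw [map_zero, LinearMap.rTensor_smul, LinearMap.rTensor_id, LinearMap.smul_apply,
      LinearMap.id_apply, hsκ]
  -- (ii)
  have hii : ∀ p ∈ associatedPrimes A A, ∃ s : A, s ∉ p ∧ s • κ = 0 := by
    intro p hpass
    haveI : p.IsPrime := IsAssociatedPrime.isPrime hpass
    have hflat : Module.Flat A (LocalizedModule p.primeCompl M) := by
      haveI := hp p hpass
      exact Module.Flat.trans A (Localization.AtPrime p) _
    let ℓ : M →ₗ[A] LocalizedModule p.primeCompl M := LocalizedModule.mkLinearMap p.primeCompl M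
    have hinjq : Function.Injective (LinearMap.rTensor (LocalizedModule p.primeCompl M) j) :=
      Module.Flat.rTensor_preserves_injective_linearMap j hj
    have h1 : LinearMap.lTensor N ℓ κ = 0 := by
      apply hinjq
      rw [map_zero, ← LinearMap.comp_apply, LinearMap.rTensor_comp_lTensor,
        ← LinearMap.lTensor_comp_rTensor, LinearMap.comp_apply, hκ, map_zero]
    have h2 : LinearMap.rTensor N ℓ (TensorProduct.comm A N M κ) = 0 := by
      have hc : LinearMap.rTensor N ℓ ∘ₗ (TensorProduct.comm A N M).toLinearMap =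
          (TensorProduct.comm A N _).toLinearMap ∘ₗ LinearMap.lTensor N ℓ := by
        apply TensorProduct.ext'
        intro n m
        simp
      have := congrArg (fun f => f κ) hc
      simp only [LinearMap.comp_apply, LinearEquiv.coe_coe] at this
      rw [this, h1, map_zero]
    have h3 : (TensorProduct.AlgebraTensorModule.rTensor A N ℓ)
        (TensorProduct.comm A N M κ) = 0 := h2
    obtain ⟨s, hs⟩ := (IsLocalizedModule.eq_zero_iff p.primeCompl
      (TensorProduct.AlgebraTensorModule.rTensor A N ℓ)).1 h3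
    refine ⟨s.1, s.2, ?_⟩
    have : (TensorProduct.comm A N M) (s.1 • κ) = 0 := by rw [map_smul]; exact hs
    exact (TensorProduct.comm A N M).injective (by rw [this, map_zero])
  -- (iii)
  let Ann : Ideal A := LinearMap.ker (LinearMap.toSpanSingleton A (N ⊗[A] M) κ)
  have hAnn : ∀ a, a ∈ Ann ↔ a • κ = 0 := by
    intro a; simp [Ann, LinearMap.mem_ker]
  have hfin : (associatedPrimes A A).Finite := associatedPrimes.finite A A
  have hnot : ¬ ((Ann : Set A) ⊆ ⋃ p ∈ (hfin.toFinset : Set (Ideal A)), (p : Set A)) := by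
    rw [Ideal.subset_union_prime (f := fun p => p) ⊥ ⊥
      (fun p hp _ _ => IsAssociatedPrime.isPrime (hfin.mem_toFinset.1 hp))]
    rintro ⟨p, hp, hle⟩
    obtain ⟨s, hsp, hs⟩ := hii p (hfin.mem_toFinset.1 hp)
    exact hsp (hle ((hAnn s).2 hs))
  obtain ⟨s, hsAnn, hsU⟩ := Set.not_subset.1 hnot
  have hreg : ∀ x : A, s * x = 0 → x = 0 := by
    intro x hx
    by_contra hx0
    apply hsU
    have hmem : s ∈ {r : A | ∃ x : A, x ≠ 0 ∧ r • x = 0} := ⟨x, hx0, hx⟩
    rw [← biUnion_associatedPrimes_eq_zero_divisors A A] at hmem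
    simpa using hmem
  exact hi s hreg ((hAnn s).1 hsAnn)

theorem ker_le_range_of_ass [IsNoetherianRing A] {J : Ideal A} {M : Type u}
    [AddCommGroup M] [Module A M]
    (h0 : Module.Flat (A ⧸ J) ((A ⧸ J) ⊗[A] M))
    (hp : ∀ (p : Ideal A) [p.IsPrime], p ∈ associatedPrimes A A →
      Module.Flat (Localization.AtPrime p) (LocalizedModule p.primeCompl M))
    (I K : Ideal A) (hIK : I ≤ K) (hJK : J * K ≤ I)
    (htf : ∀ s : A, (∀ x : A, s * x = 0 → x = 0) → ∀ b ∈ K, s * b ∈ I → b ∈ I) :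
    ∀ x : K ⊗[A] M, LinearMap.rTensor M K.subtype x = 0 →
      ∃ y : I ⊗[A] M, LinearMap.rTensor M (Submodule.inclusion hIK) y = x := by
  let f : I →ₗ[A] K := Submodule.inclusion hIK
  let g : K →ₗ[A] (K ⧸ LinearMap.range f) := (LinearMap.range f).mkQ
  have hexact : Function.Exact f g := LinearMap.exact_map_mkQ_range f
  have hsurj : Function.Surjective g := Submodule.mkQ_surjective _
  let q : A →ₗ[A] A ⧸ I := (Ideal.Quotient.mkₐ A I).toLinearMap
  have hq : ∀ a : A, q a = 0 ↔ a ∈ I := fun a => Ideal.Quotient.eq_zero_iff_mem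
  let j : (K ⧸ LinearMap.range f) →ₗ[A] A ⧸ I :=
    (LinearMap.range f).liftQ (q ∘ₗ K.subtype) (by
      rintro _ ⟨y, rfl⟩
      rw [LinearMap.mem_ker, LinearMap.comp_apply, hq]
      exact y.2)
  have hj : Function.Injective j := by
    rw [← LinearMap.ker_eq_bot, Submodule.ker_liftQ_eq_bot']
    apply le_antisymm
    · rintro _ ⟨y, rfl⟩
      rw [LinearMap.mem_ker, LinearMap.comp_apply, hq]
      exact y.2
    · intro y hy
      rw [LinearMap.mem_ker, LinearMap.comp_apply, hq] at hy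
      exact ⟨⟨y.1, hy⟩, rfl⟩
  have hJN : ∀ a ∈ J, ∀ n : (K ⧸ LinearMap.range f), a • n = 0 := by
    intro a ha n
    obtain ⟨k, rfl⟩ := hsurj n
    rw [← map_smul]
    exact (hexact _).2 ⟨⟨a * k.1, hJK (Ideal.mul_mem_mul ha k.2)⟩, rfl⟩
  have htfN : ∀ s : A, (∀ x : A, s * x = 0 → x = 0) →
      ∀ n : (K ⧸ LinearMap.range f), s • n = 0 → n = 0 := by
    intro s hs n hn
    obtain ⟨k, rfl⟩ := hsurj n
    rw [← map_smul] at hn
    obtain ⟨y, hy⟩ := (hexact _).1 hn
    have h1 : s * k.1 ∈ I := by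
      have := congrArg Subtype.val hy
      have h2 : (y : A) = s * k.1 := this
      rw [← h2]; exact y.2
    have hkI := htf s hs k.1 k.2 h1
    exact (hexact _).2 ⟨⟨k.1, hkI⟩, rfl⟩
  have hinj := rTensor_injective_of_ass h0 hp hJN htfN j hj
  intro x hx
  have h1 : LinearMap.rTensor M g x = 0 := by
    apply hinj
    rw [map_zero, ← LinearMap.rTensor_comp_apply]
    have : j ∘ₗ g = q ∘ₗ K.subtype := Submodule.liftQ_mkQ _ _ _
    rw [this, LinearMap.rTensor_comp_apply, hx, map_zero]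
  exact (rTensor_exact M hexact hsurj x).1 h1

theorem rTensor_subtype_injective [IsNoetherianRing A] {J : Ideal A} (hJ : IsNilpotent J)
    {M : Type u} [AddCommGroup M] [Module A M]
    (h0 : Module.Flat (A ⧸ J) ((A ⧸ J) ⊗[A] M))
    (hp : ∀ (p : Ideal A) [p.IsPrime], p ∈ associatedPrimes A A →
      Module.Flat (Localization.AtPrime p) (LocalizedModule p.primeCompl M)) :
    Function.Injective (LinearMap.rTensor M J.subtype) := by
  obtain ⟨m, hm⟩ := hJ
  let L : ℕ → Ideal A := fun i => Submodule.annihilator (J ^ i : Ideal A)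
  let I : ℕ → Ideal A := fun i => J ⊓ L i
  have hIJ : ∀ i, I i ≤ J := fun i => inf_le_left
  have hLmono : ∀ i, L i ≤ L (i+1) := fun i =>
    Submodule.annihilator_mono (Ideal.pow_le_pow_right (Nat.le_succ i))
  have hImono : ∀ i, I i ≤ I (i+1) := fun i => inf_le_inf_left _ (hLmono i)
  have hJI : ∀ i, J * I (i+1) ≤ I i := by
    intro i
    rw [Ideal.mul_le]
    intro a ha b hb
    refine ⟨J.mul_mem_right _ ha, ?_⟩
    show a * b ∈ Submodule.annihilator (J ^ i : Ideal A)
    rw [Submodule.mem_annihilator]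
    intro x hx
    have hb2 : b ∈ Submodule.annihilator (J ^ (i+1) : Ideal A) := hb.2
    rw [Submodule.mem_annihilator] at hb2
    have h1 : a * x ∈ J ^ (i+1) := by rw [pow_succ']; exact Ideal.mul_mem_mul ha hx
    have h2 := hb2 _ h1
    rw [smul_eq_mul] at h2 ⊢
    calc (a * b) * x = b * (a * x) := by ring
      _ = 0 := h2
  have htf : ∀ i, ∀ s : A, (∀ x : A, s * x = 0 → x = 0) →
      ∀ b ∈ I (i+1), s * b ∈ I i → b ∈ I i := by
    intro i s hs b hb hsb
    refine ⟨hb.1, ?_⟩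
    show b ∈ Submodule.annihilator (J ^ i : Ideal A)
    rw [Submodule.mem_annihilator]
    intro x hx
    have h2 : s * b ∈ Submodule.annihilator (J ^ i : Ideal A) := hsb.2
    rw [Submodule.mem_annihilator] at h2
    have h3 := h2 x hx
    apply hs
    rw [smul_eq_mul] at h3 ⊢
    rw [← mul_assoc]; exact h3
  have hP : ∀ i (_ : i ≤ m), ∀ x : J ⊗[A] M, LinearMap.rTensor M J.subtype x = 0 →
      ∃ y : (I i) ⊗[A] M, LinearMap.rTensor M (Submodule.inclusion (hIJ i)) y = x := by
    intro i hi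
    induction hi using Nat.decreasingInduction with
    | self =>
      intro x _
      have hs : Function.Surjective (Submodule.inclusion (hIJ m)) := by
        intro y
        refine ⟨⟨y.1, y.2, ?_⟩, rfl⟩
        show y.1 ∈ Submodule.annihilator (J ^ m : Ideal A)
        rw [Submodule.mem_annihilator]
        intro z hz
        rw [hm, Ideal.zero_eq_bot, Ideal.mem_bot] at hz
        rw [hz, smul_zero]
      exact LinearMap.rTensor_surjective M hs x
    | of_succ k hk ih =>
      intro x hx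
      obtain ⟨w, hw⟩ := ih x hx
      have hw0 : LinearMap.rTensor M (I (k+1)).subtype w = 0 := by
        have : (I (k+1)).subtype = J.subtype ∘ₗ Submodule.inclusion (hIJ (k+1)) :=
          LinearMap.ext (fun _ => rfl)
        rw [this, LinearMap.rTensor_comp_apply, hw, hx]
      obtain ⟨v, hv⟩ := ker_le_range_of_ass h0 hp (I k) (I (k+1)) (hImono k) (hJI k) (htf k) w hw0
      refine ⟨v, ?_⟩
      have : Submodule.inclusion (hIJ k) =
          Submodule.inclusion (hIJ (k+1)) ∘ₗ Submodule.inclusion (hImono k) :=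
        LinearMap.ext (fun _ => rfl)
      rw [this, LinearMap.rTensor_comp_apply, hv, hw]
  rw [injective_iff_map_eq_zero]
  intro x hx
  obtain ⟨y, hy⟩ := hP 0 (Nat.zero_le m) x hx
  have hI0 : ∀ b : I 0, b = 0 := by
    intro b
    apply Subtype.ext
    have hb : b.1 ∈ Submodule.annihilator (J ^ 0 : Ideal A) := b.2.2
    rw [Submodule.mem_annihilator] at hb
    have := hb 1 (by rw [pow_zero, Ideal.one_eq_top]; trivial)
    simpa using this
  have hy0 : ∀ y : (I 0) ⊗[A] M, y = 0 := by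
    intro y
    induction y using TensorProduct.induction_on with
    | zero => rfl
    | tmul b mm => rw [hI0 b, TensorProduct.zero_tmul]
    | add y₁ y₂ h₁ h₂ => rw [h₁, h₂, add_zero]
  rw [← hy, hy0 y, map_zero]

end H2FN
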