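import Mathlib
import Groth.Prelude.Def_FSch3

/-! Units in adic completions; the stalk subring of a formal spectrum is local. -/

universe u

namespace H2FS

theorem isUnit_quot_pow {R : Type*} [CommRing R] (I : Ideal R) (n : ℕ) (a : R)
    (h : IsUnit (Ideal.Quotient.mk I a)) : IsUnit (Ideal.Quotient.mk (I ^ n) a) := by
  obtain ⟨b', hb'⟩ := h.exists_right_inv
  obtain ⟨b, rfl⟩ := Ideal.Quotient.mk_surjective b'
  have hz : 1 - a * b ∈ I := by
    rw [← Ideal.Quotient.eq_zero_iff_mem, map_sub, map_one, map_mul, hb', sub_self]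
  have hnil : IsNilpotent (Ideal.Quotient.mk (I ^ n) (1 - a * b)) :=
    ⟨n, by rw [← map_pow, Ideal.Quotient.eq_zero_iff_mem]; exact Ideal.pow_mem_pow hz n⟩
  have hu : IsUnit (Ideal.Quotient.mk (I ^ n) (a * b)) := by
    have := hnil.isUnit_one_sub
    rwa [← map_one (Ideal.Quotient.mk (I ^ n)), ← map_sub, sub_sub_cancel] at this
  rw [map_mul] at hu
  exact isUnit_of_mul_isUnit_left hu

theorem isUnit_of_evalₐ_one {R : Type*} [CommRing R] (I : Ideal R) (x : AdicCompletion I R)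
    (h : IsUnit (AdicCompletion.evalₐ I 1 x)) : IsUnit x := by
  obtain ⟨a, rfl⟩ := AdicCompletion.mk_surjective I R x
  have h1 : IsUnit (Ideal.Quotient.mk I (a.val 1)) := by
    rw [AdicCompletion.evalₐ_mk] at h
    have := h.map (Ideal.Quotient.factor (le_of_eq (pow_one I)))
    simpa using this
  have hcau : ∀ {m n : ℕ}, m ≤ n → a.val m - a.val n ∈ I ^ m := by
    intro m n hmn
    have := a.2 hmn
    rw [SModEq.sub_mem, smul_eq_mul, Ideal.mul_top] at this
    exact this
  have hn : ∀ n, IsUnit (Ideal.Quotient.mk (I ^ n) (a.val n)) := by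
    intro n
    rcases Nat.eq_zero_or_pos n with rfl | hpos
    · haveI : Subsingleton (R ⧸ I ^ 0) := by
        rw [pow_zero, Ideal.one_eq_top]
        exact Ideal.Quotient.subsingleton_iff.mpr rfl
      exact isUnit_of_subsingleton _
    · apply isUnit_quot_pow
      have h2 : Ideal.Quotient.mk I (a.val n) = Ideal.Quotient.mk I (a.val 1) := by
        rw [Ideal.Quotient.eq, ← neg_sub]
        have := hcau (Nat.succ_le_of_lt hpos)
        rw [pow_one] at this
        exact I.neg_mem this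
      rw [h2]
      exact h1
  have hn' : ∀ n, ∃ b : R, a.val n * b - 1 ∈ I ^ n := by
    intro n
    obtain ⟨b', hb'⟩ := (hn n).exists_right_inv
    obtain ⟨b, rfl⟩ := Ideal.Quotient.mk_surjective b'
    refine ⟨b, ?_⟩
    rw [← Ideal.Quotient.eq_zero_iff_mem, map_sub, map_one, map_mul, hb', sub_self]
  choose b hb using hn'
  have hbc : ∀ n, b n ≡ b (n + 1) [SMOD (I ^ n • ⊤ : Submodule R R)] := by
    intro n
    rw [SModEq.sub_mem, smul_eq_mul, Ideal.mul_top]
    have e : b n - b (n + 1) = -(b n * (a.val (n + 1) * b (n + 1) - 1)) +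
        b (n + 1) * (a.val n * b n - 1) + b n * b (n + 1) * -(a.val n - a.val (n + 1)) := by
      ring
    rw [e]
    refine Ideal.add_mem _ (Ideal.add_mem _ ?_ ?_) ?_
    · exact (I ^ n).neg_mem (Ideal.mul_mem_left _ _
        (Ideal.pow_le_pow_right (Nat.le_succ n) (hb (n + 1))))
    · exact Ideal.mul_mem_left _ _ (hb n)
    · exact Ideal.mul_mem_left _ _ ((I ^ n).neg_mem (hcau (Nat.le_succ n)))
  let y : AdicCompletion I R := AdicCompletion.mk I R (AdicCompletion.AdicCauchySequence.mk I R b hbc)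
  rw [isUnit_iff_exists_inv]
  refine ⟨y, ?_⟩
  apply AdicCompletion.ext_evalₐ
  intro n
  rw [map_mul, map_one, AdicCompletion.evalₐ_mk, AdicCompletion.evalₐ_mk, ← map_mul,
    ← sub_eq_zero, ← map_one (Ideal.Quotient.mk (I ^ n)), ← map_sub,
    Ideal.Quotient.eq_zero_iff_mem]
  exact hb n

set_option backward.isDefEq.respectTransparency false in
theorem evalₐ_complMap {S T : Type u} [CommRing S] [CommRing T] (I : Ideal S) (K : Ideal T)
    (g : S →+* T) (h : I.map g ≤ K) (n : ℕ) (x : AdicCompletion I S) :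
    AdicCompletion.evalₐ K n (FSch.complMap I K g h x) =
      Ideal.quotientMap (K ^ n) g (FSch.pow_le_comap_pow_of_map_le I K g h n)
        (AdicCompletion.evalₐ I n x) := by
  unfold FSch.complMap
  rw [← AdicCompletion.factor_eval_eq_evalₐ K _ (le_of_eq (Ideal.mul_top _))]
  simp [AdicCompletion.liftRingHom, AdicCompletion.eval]

theorem complMap_congr {S T : Type u} [CommRing S] [CommRing T] (I : Ideal S) (K : Ideal T)
    {g g' : S →+* T} (hgg' : g = g') (h : I.map g ≤ K) (h' : I.map g' ≤ K) :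
    FSch.complMap I K g h = FSch.complMap I K g' h' := by
  subst hgg'
  rfl

theorem complMap_comp {S T U : Type u} [CommRing S] [CommRing T] [CommRing U] (I : Ideal S)
    (K : Ideal T) (L : Ideal U) (g : S →+* T) (g' : T →+* U) (h : I.map g ≤ K)
    (h' : K.map g' ≤ L) (h'' : I.map (g'.comp g) ≤ L) (x : AdicCompletion I S) :
    FSch.complMap K L g' h' (FSch.complMap I K g h x) = FSch.complMap I L (g'.comp g) h'' x := by
  apply AdicCompletion.ext_evalₐ
  intro n
  rw [evalₐ_complMap, evalₐ_complMap, evalₐ_complMap]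
  obtain ⟨s, hs⟩ := Ideal.Quotient.mk_surjective (AdicCompletion.evalₐ I n x)
  rw [← hs]
  simp only [Ideal.quotientMap_mk, RingHom.comp_apply]

theorem isLocalRing_adicCompletion {R : Type*} [CommRing R] [IsLocalRing R] (I : Ideal R)
    (hI : I ≤ IsLocalRing.maximalIdeal R) :
    IsLocalRing (AdicCompletion I R) := by
  have hne : I ^ 1 ≠ ⊤ := by
    rw [pow_one]
    intro h
    rw [h] at hI
    exact (IsLocalRing.maximalIdeal.isMaximal R).ne_top (top_le_iff.mp hI)
  haveI : Nontrivial (R ⧸ I ^ 1) := Ideal.Quotient.nontrivial_iff.mpr hne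
  haveI : IsLocalRing (R ⧸ I ^ 1) :=
    IsLocalRing.of_surjective' (Ideal.Quotient.mk (I ^ 1)) Ideal.Quotient.mk_surjective
  haveI hloc : IsLocalHom (AdicCompletion.evalₐ I 1).toRingHom :=
    ⟨fun x hx => isUnit_of_evalₐ_one I x hx⟩
  exact RingHom.domain_isLocalRing (AdicCompletion.evalₐ I 1).toRingHom

section Stalk

variable (A : Type u) [CommRing A] (J : Ideal A) (𝔭 : Ideal A) [𝔭.IsPrime]

theorem exists_awayMap (f g' : A) (hdiv : f ∣ g') :
    ∃ ρ : Localization.Away f →+* Localization.Away g',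
      ρ.comp (algebraMap A _) = algebraMap A _ := by
  have hu : IsUnit (algebraMap A (Localization.Away g') f) := by
    obtain ⟨a, rfl⟩ := hdiv
    have := IsLocalization.Away.algebraMap_isUnit (f * a) (S := Localization.Away (f * a))
    rw [map_mul] at this
    exact isUnit_of_mul_isUnit_left this
  exact ⟨IsLocalization.Away.lift f hu, IsLocalization.Away.lift_comp f hu⟩

theorem awayToAtPrime_comp (f : A) (hf : f ∉ 𝔭) :
    (FSch.awayToAtPrime A 𝔭 f hf).comp (algebraMap A _) =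
      algebraMap A (Localization.AtPrime 𝔭) := by
  unfold FSch.awayToAtPrime
  exact IsLocalization.Away.lift_comp f _

theorem exists_cAwayMap (f g' : A) (hf : f ∉ 𝔭) (hg' : g' ∉ 𝔭) (hdiv : f ∣ g') :
    ∃ (ρ : Localization.Away f →+* Localization.Away g')
      (ρh : FSch.cAway A J f →+* FSch.cAway A J g'),
      ρ.comp (algebraMap A _) = algebraMap A _ ∧
      (∀ y, FSch.cAwayToAtPrime A J 𝔭 g' hg' (ρh y) = FSch.cAwayToAtPrime A J 𝔭 f hf y) ∧
      (∀ y (r : Localization.Away f), AdicCompletion.evalₐ _ 1 y = Ideal.Quotient.mk _ r →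
         AdicCompletion.evalₐ _ 1 (ρh y) = Ideal.Quotient.mk _ (ρ r)) := by
  obtain ⟨ρ, hρ⟩ := exists_awayMap A f g' hdiv
  have hle : (J.map (algebraMap A (Localization.Away f))).map ρ ≤
      J.map (algebraMap A (Localization.Away g')) := by
    rw [Ideal.map_map, hρ]
  refine ⟨ρ, FSch.complMap _ _ ρ hle, hρ, ?_, ?_⟩
  · intro y
    unfold FSch.cAwayToAtPrime
    have hcomp : (FSch.awayToAtPrime A 𝔭 g' hg').comp ρ = FSch.awayToAtPrime A 𝔭 f hf := by
      apply IsLocalization.ringHom_ext (Submonoid.powers f)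
      rw [RingHom.comp_assoc, hρ, awayToAtPrime_comp, awayToAtPrime_comp]
    have hle2 : (J.map (algebraMap A (Localization.Away f))).map
        ((FSch.awayToAtPrime A 𝔭 g' hg').comp ρ) ≤
        J.map (algebraMap A (Localization.AtPrime 𝔭)) := by
      rw [hcomp]
      exact FSch.map_awayToAtPrime_le A J 𝔭 f hf
    rw [complMap_comp _ _ _ ρ (FSch.awayToAtPrime A 𝔭 g' hg') hle _ hle2 y]
    rw [complMap_congr _ _ hcomp hle2 (FSch.map_awayToAtPrime_le A J 𝔭 f hf)]
  · intro y r hyr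
    rw [evalₐ_complMap, hyr, Ideal.quotientMap_mk]

theorem stalk_isUnit (hJ : J ≤ 𝔭) (x : FSch.cAtPrime A J 𝔭)
    (hx : x ∈ FSch.stalkSubring A J 𝔭) (hu : IsUnit x) :
    ∃ z ∈ FSch.stalkSubring A J 𝔭, x * z = 1 := by
  have hdir : Directed (· ≤ ·) (fun f : {f : A // f ∉ 𝔭} =>
      (FSch.cAwayToAtPrime A J 𝔭 f.1 f.2).range) := by
    intro f g
    have hfg : f.1 * g.1 ∉ 𝔭 := fun h => (Ideal.IsPrime.mem_or_mem ‹_› h).elim f.2 g.2
    refine ⟨⟨f.1 * g.1, hfg⟩, ?_, ?_⟩
    · obtain ⟨ρ, ρh, -, h2, -⟩ :=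
        exists_cAwayMap A J 𝔭 f.1 (f.1 * g.1) f.2 hfg (Dvd.intro _ rfl)
      rintro _ ⟨y, rfl⟩
      exact ⟨ρh y, h2 y⟩
    · obtain ⟨ρ, ρh, -, h2, -⟩ :=
        exists_cAwayMap A J 𝔭 g.1 (f.1 * g.1) g.2 hfg (Dvd.intro_left _ rfl)
      rintro _ ⟨y, rfl⟩
      exact ⟨ρh y, h2 y⟩
  haveI : Nonempty {f : A // f ∉ 𝔭} :=
    ⟨⟨1, fun h => (Ideal.IsPrime.ne_top ‹_›) ((Ideal.eq_top_iff_one _).mpr h)⟩⟩
  unfold FSch.stalkSubring at hx
  rw [Subring.mem_iSup_of_directed hdir] at hx
  obtain ⟨⟨f, hf⟩, y, rfl⟩ := hx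
  obtain ⟨r, hr⟩ := Ideal.Quotient.mk_surjective (AdicCompletion.evalₐ _ 1 y)
  obtain ⟨k, a, hka⟩ := IsLocalization.Away.surj f r
  let θ := FSch.awayToAtPrime A 𝔭 f hf
  have hθ : ∀ b, θ (algebraMap A _ b) = algebraMap A (Localization.AtPrime 𝔭) b :=
    fun b => RingHom.congr_fun (awayToAtPrime_comp A 𝔭 f hf) b
  have h1 : AdicCompletion.evalₐ _ 1 (FSch.cAwayToAtPrime A J 𝔭 f hf y) =
      Ideal.Quotient.mk _ (θ r) := by
    unfold FSch.cAwayToAtPrime
    rw [evalₐ_complMap, ← hr, Ideal.quotientMap_mk]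
  have hJp : J.map (algebraMap A (Localization.AtPrime 𝔭)) ≤
      IsLocalRing.maximalIdeal (Localization.AtPrime 𝔭) := by
    rw [← Localization.AtPrime.map_eq_maximalIdeal]
    exact Ideal.map_mono hJ
  have hθr : IsUnit (θ r) := by
    have h2 : IsUnit (AdicCompletion.evalₐ _ 1 (FSch.cAwayToAtPrime A J 𝔭 f hf y)) :=
      hu.map _
    rw [h1] at h2
    have hne : (J.map (algebraMap A (Localization.AtPrime 𝔭))) ^ 1 ≠ ⊤ := by
      rw [pow_one]
      intro h
      rw [h] at hJp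
      exact (IsLocalRing.maximalIdeal.isMaximal _).ne_top (top_le_iff.mp hJp)
    haveI : Nontrivial (Localization.AtPrime 𝔭 ⧸
        (J.map (algebraMap A (Localization.AtPrime 𝔭))) ^ 1) :=
      Ideal.Quotient.nontrivial_iff.mpr hne
    haveI := IsLocalHom.of_surjective
      (Ideal.Quotient.mk ((J.map (algebraMap A (Localization.AtPrime 𝔭))) ^ 1))
      Ideal.Quotient.mk_surjective
    exact isUnit_of_map_unit (Ideal.Quotient.mk _) _ h2
  have ha : a ∉ 𝔭 := by
    have h3 : θ r * (algebraMap A (Localization.AtPrime 𝔭) f) ^ k = algebraMap A _ a := by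
      have := congrArg θ hka
      rw [map_mul, map_pow, hθ, hθ] at this
      exact this
    have h4 : IsUnit (algebraMap A (Localization.AtPrime 𝔭) a) := by
      rw [← h3]
      exact hθr.mul (((IsLocalization.AtPrime.isUnit_to_map_iff _ 𝔭 f).mpr hf).pow k)
    exact (IsLocalization.AtPrime.isUnit_to_map_iff _ 𝔭 a).mp h4
  have hg' : f * a ∉ 𝔭 := fun h => (Ideal.IsPrime.mem_or_mem ‹_› h).elim hf ha
  obtain ⟨ρ, ρh, hρ, h2, h3⟩ := exists_cAwayMap A J 𝔭 f (f * a) hf hg' (Dvd.intro _ rfl)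
  have hρr : IsUnit (ρ r) := by
    have e1 : ∀ b, ρ (algebraMap A _ b) = algebraMap A _ b := fun b => RingHom.congr_fun hρ b
    have h5 := congrArg ρ hka
    rw [map_mul, map_pow, e1, e1] at h5
    have hua : IsUnit (algebraMap A (Localization.Away (f * a)) a) := by
      have := IsLocalization.Away.algebraMap_isUnit (f * a) (S := Localization.Away (f * a))
      rw [map_mul] at this
      exact isUnit_of_mul_isUnit_right this
    rw [← h5] at hua
    exact isUnit_of_mul_isUnit_left hua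
  have hy' : IsUnit (ρh y) := by
    apply isUnit_of_evalₐ_one
    rw [h3 y r hr.symm]
    exact hρr.map _
  obtain ⟨w, hw⟩ := hy'.exists_right_inv
  refine ⟨FSch.cAwayToAtPrime A J 𝔭 (f * a) hg' w, ?_, ?_⟩
  · unfold FSch.stalkSubring
    exact (le_iSup (fun f : {f : A // f ∉ 𝔭} => (FSch.cAwayToAtPrime A J 𝔭 f.1 f.2).range)
      ⟨f * a, hg'⟩) ⟨w, rfl⟩
  · rw [← h2 y, ← map_mul, hw, map_one]

theorem complMap_of {S T : Type u} [CommRing S] [CommRing T] (I : Ideal S) (K : Ideal T)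
    (g : S →+* T) (h : I.map g ≤ K) (s : S) :
    FSch.complMap I K g h (AdicCompletion.of I S s) = AdicCompletion.of K T (g s) := by
  apply AdicCompletion.ext_evalₐ
  intro n
  rw [evalₐ_complMap, AdicCompletion.evalₐ_of, AdicCompletion.evalₐ_of, Ideal.quotientMap_mk]

theorem exists_sub_mem_maximalIdeal (hJ : J ≤ 𝔭) [IsLocalRing (FSch.cAtPrime A J 𝔭)]
    (x : FSch.cAtPrime A J 𝔭) :
    ∃ r : Localization.AtPrime 𝔭, x - algebraMap (Localization.AtPrime 𝔭) (FSch.cAtPrime A J 𝔭) r ∈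
      IsLocalRing.maximalIdeal (FSch.cAtPrime A J 𝔭) := by
  obtain ⟨r, hr⟩ := Ideal.Quotient.mk_surjective (AdicCompletion.evalₐ _ 1 x)
  refine ⟨r, ?_⟩
  rw [IsLocalRing.mem_maximalIdeal, mem_nonunits_iff]
  intro hu
  have h1 : AdicCompletion.evalₐ (J.map (algebraMap A (Localization.AtPrime 𝔭))) 1
      (x - algebraMap (Localization.AtPrime 𝔭) (FSch.cAtPrime A J 𝔭) r) = 0 := by
    rw [map_sub, AdicCompletion.algebraMap_apply, Algebra.algebraMap_self, RingHom.id_apply,
      AdicCompletion.evalₐ_of, hr, sub_self]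
  have h2 := hu.map (AdicCompletion.evalₐ (J.map (algebraMap A (Localization.AtPrime 𝔭))) 1)
  rw [h1] at h2
  have hJp : J.map (algebraMap A (Localization.AtPrime 𝔭)) ≤
      IsLocalRing.maximalIdeal (Localization.AtPrime 𝔭) := by
    rw [← Localization.AtPrime.map_eq_maximalIdeal]
    exact Ideal.map_mono hJ
  have hne : (J.map (algebraMap A (Localization.AtPrime 𝔭))) ^ 1 ≠ ⊤ := by
    rw [pow_one]
    intro h
    rw [h] at hJp
    exact (IsLocalRing.maximalIdeal.isMaximal _).ne_top (top_le_iff.mp hJp)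
  haveI : Nontrivial (Localization.AtPrime 𝔭 ⧸
      (J.map (algebraMap A (Localization.AtPrime 𝔭))) ^ 1) :=
    Ideal.Quotient.nontrivial_iff.mpr hne
  exact not_isUnit_zero h2

theorem algebraMap_mem_stalkSubring (r : Localization.AtPrime 𝔭) :
    algebraMap (Localization.AtPrime 𝔭) (FSch.cAtPrime A J 𝔭) r ∈ FSch.stalkSubring A J 𝔭 := by
  obtain ⟨⟨a, s⟩, hr⟩ := IsLocalization.mk'_surjective 𝔭.primeCompl r
  let q : Localization.Away (s : A) := IsLocalization.mk' _ a
    (⟨s, Submonoid.mem_powers _⟩ : Submonoid.powers (s : A))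
  have hθ : ∀ b, FSch.awayToAtPrime A 𝔭 s s.2 (algebraMap A _ b) =
      algebraMap A (Localization.AtPrime 𝔭) b :=
    fun b => RingHom.congr_fun (awayToAtPrime_comp A 𝔭 s s.2) b
  have hq : FSch.awayToAtPrime A 𝔭 s s.2 q = r := by
    rw [← hr, IsLocalization.eq_mk'_iff_mul_eq, ← hθ, ← map_mul]
    have : q * algebraMap A (Localization.Away (s : A)) s = algebraMap A _ a :=
      IsLocalization.mk'_spec _ a (⟨s, Submonoid.mem_powers _⟩ : Submonoid.powers (s : A))
    rw [this, hθ]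
  unfold FSch.stalkSubring
  refine (le_iSup (fun f : {f : A // f ∉ 𝔭} => (FSch.cAwayToAtPrime A J 𝔭 f.1 f.2).range)
    ⟨s, s.2⟩) ⟨AdicCompletion.of _ _ q, ?_⟩
  unfold FSch.cAwayToAtPrime
  rw [complMap_of, hq]
  rfl

end Stalk

end H2FS
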