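import Mathlib.CategoryTheory.Adjunction.FullyFaithful
import Mathlib.CategoryTheory.Adjunction.Unique
import Mathlib.CategoryTheory.Comma.Basic
import Mathlib.CategoryTheory.Equivalence
import Mathlib.CategoryTheory.Limits.Shapes.Pullback.IsPullback.Basic
import Mathlib.CategoryTheory.Limits.Preserves.Shapes.Pullbacks

/-!
# helper2: abstract Artin gluing

`E` with a reflective subcategory `ι : F ⥤ E` (reflector `L`) and a coreflective-type
localisation `S : E ⥤ O` with fully faithful right adjoint `R`, such that `S ∘ ι` is terminal,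
`L, S` preserve pullbacks and are jointly conservative. Then `E ≌ Comma (𝟭 F) (R ⋙ L)`.
-/

universe v₁ v₂ v₃ u₁ u₂ u₃

set_option linter.unusedSectionVars false

open CategoryTheory CategoryTheory.Limits

namespace H2Glue

variable {E : Type u₁} [Category.{v₁} E] {F : Type u₂} [Category.{v₂} F]
  {O : Type u₃} [Category.{v₃} O]
  (L : E ⥤ F) (ι : F ⥤ E) (adj : L ⊣ ι) (S : E ⥤ O) (R : O ⥤ E) (adjS : S ⊣ R)

/-- the comparison functor `X ↦ (L X, S X, L X → L R S X)` -/
def glueFunctor : E ⥤ Comma (𝟭 F) (R ⋙ L) where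
  obj X := { left := L.obj X, right := S.obj X, hom := L.map (adjS.unit.app X) }
  map {X Y} m :=
    { left := L.map m
      right := S.map m
      w := by
        change L.map m ≫ L.map (adjS.unit.app Y) =
          L.map (adjS.unit.app X) ≫ L.map (R.map (S.map m))
        rw [← L.map_comp, ← L.map_comp]
        exact congrArg (fun z => L.map z) (adjS.unit.naturality m) }
  map_id X := by
    apply CommaMorphism.ext
    · exact L.map_id X
    · exact S.map_id X
  map_comp f g := by
    apply CommaMorphism.ext
    · exact L.map_comp f g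
    · exact S.map_comp f g

section

variable [ι.Full] [ι.Faithful] [IsIso adjS.counit] [HasPullbacks E]
  [PreservesLimitsOfShape WalkingCospan L] [PreservesLimitsOfShape WalkingCospan S]
  (hterm : ∀ (Z Z' : F) (f : ι.obj Z ⟶ ι.obj Z'), IsIso (S.map f))
  (hcons : ∀ {X Y : E} (m : X ⟶ Y), IsIso (S.map m) → IsIso (L.map m) → IsIso m)

include adj in
lemma isIso_L_unit (X : E) : IsIso (L.map (adj.unit.app X)) :=
  isIso_of_comp_hom_eq_id (adj.counit.app (L.obj X)) (adj.left_triangle_components X)

lemma isIso_S_unit (X : E) : IsIso (S.map (adjS.unit.app X)) :=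
  isIso_of_comp_hom_eq_id (adjS.counit.app (S.obj X)) (adjS.left_triangle_components X)

lemma unit_sq_comm (Y : E) :
    adj.unit.app Y ≫ ι.map (L.map (adjS.unit.app Y)) =
      adjS.unit.app Y ≫ adj.unit.app (R.obj (S.obj Y)) :=
  (adj.unit.naturality (adjS.unit.app Y)).symm

include hterm hcons in
lemma isPullback_unit (Y : E) :
    IsPullback (adj.unit.app Y) (adjS.unit.app Y) (ι.map (L.map (adjS.unit.app Y)))
      (adj.unit.app (R.obj (S.obj Y))) := by
  have comm := unit_sq_comm L ι adj S R adjS Y
  have hpb := IsPullback.of_hasPullback (ι.map (L.map (adjS.unit.app Y)))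
    (adj.unit.app (R.obj (S.obj Y)))
  have hk : IsIso (pullback.lift _ _ comm) := by
    apply hcons
    · have h1 : IsIso (S.map (ι.map (L.map (adjS.unit.app Y)))) := hterm _ _ _
      have h2 : IsIso (S.map (pullback.snd (ι.map (L.map (adjS.unit.app Y)))
          (adj.unit.app (R.obj (S.obj Y))))) := (hpb.map S).isIso_snd_of_isIso
      have h3 : IsIso (S.map (pullback.lift _ _ comm) ≫
          S.map (pullback.snd (ι.map (L.map (adjS.unit.app Y)))
            (adj.unit.app (R.obj (S.obj Y))))) := by
        rw [← S.map_comp, pullback.lift_snd]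
        exact isIso_S_unit S R adjS Y
      exact IsIso.of_isIso_comp_right (S.map (pullback.lift _ _ comm))
        (S.map (pullback.snd (ι.map (L.map (adjS.unit.app Y)))
          (adj.unit.app (R.obj (S.obj Y)))))
    · have h1 : IsIso (L.map (adj.unit.app (R.obj (S.obj Y)))) := isIso_L_unit L ι adj _
      have h2 : IsIso (L.map (pullback.fst (ι.map (L.map (adjS.unit.app Y)))
          (adj.unit.app (R.obj (S.obj Y))))) := (hpb.map L).isIso_fst_of_isIso
      have h3 : IsIso (L.map (pullback.lift _ _ comm) ≫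
          L.map (pullback.fst (ι.map (L.map (adjS.unit.app Y)))
            (adj.unit.app (R.obj (S.obj Y))))) := by
        rw [← L.map_comp, pullback.lift_fst]
        exact isIso_L_unit L ι adj Y
      exact IsIso.of_isIso_comp_right (L.map (pullback.lift _ _ comm))
        (L.map (pullback.fst (ι.map (L.map (adjS.unit.app Y)))
          (adj.unit.app (R.obj (S.obj Y)))))
  exact IsPullback.of_iso_pullback ⟨comm⟩ (asIso (pullback.lift _ _ comm))
    (pullback.lift_fst _ _ _) (pullback.lift_snd _ _ _)

include adj hterm hcons in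
lemma glue_faithful : (glueFunctor L S R adjS).Faithful := by
  refine ⟨fun {X Y} m m' h => ?_⟩
  have hl : L.map m = L.map m' := congrArg CommaMorphism.left h
  have hr : S.map m = S.map m' := congrArg CommaMorphism.right h
  apply (isPullback_unit L ι adj S R adjS hterm hcons Y).hom_ext
  · have e1 : m ≫ adj.unit.app Y = adj.unit.app X ≫ ι.map (L.map m) := adj.unit.naturality m
    have e2 : m' ≫ adj.unit.app Y = adj.unit.app X ≫ ι.map (L.map m') := adj.unit.naturality m'
    rw [e1, e2, hl]
  · have e1 : m ≫ adjS.unit.app Y = adjS.unit.app X ≫ R.map (S.map m) :=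
      adjS.unit.naturality m
    have e2 : m' ≫ adjS.unit.app Y = adjS.unit.app X ≫ R.map (S.map m') :=
      adjS.unit.naturality m'
    rw [e1, e2, hr]

include adj hterm hcons in
lemma glue_full : (glueFunctor L S R adjS).Full := by
  refine ⟨fun {X Y} f => ?_⟩
  obtain ⟨a, ha⟩ : ∃ a : L.obj X ⟶ L.obj Y, a = f.left := ⟨_, rfl⟩
  obtain ⟨b, hb⟩ : ∃ b : S.obj X ⟶ S.obj Y, b = f.right := ⟨_, rfl⟩
  have hw : a ≫ L.map (adjS.unit.app Y) =
      L.map (adjS.unit.app X) ≫ L.map (R.map b) := by
    rw [ha, hb]
    exact f.w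
  have nat : (adjS.unit.app X ≫ R.map b) ≫ adj.unit.app (R.obj (S.obj Y)) =
      adj.unit.app X ≫ ι.map (L.map (adjS.unit.app X ≫ R.map b)) :=
    adj.unit.naturality (adjS.unit.app X ≫ R.map b)
  have comm : (adj.unit.app X ≫ ι.map a) ≫ ι.map (L.map (adjS.unit.app Y)) =
      (adjS.unit.app X ≫ R.map b) ≫ adj.unit.app (R.obj (S.obj Y)) := by
    rw [nat, Category.assoc, ← ι.map_comp, hw, ← L.map_comp]
  have hPB := isPullback_unit L ι adj S R adjS hterm hcons Y
  have hm1 : hPB.lift _ _ comm ≫ adj.unit.app Y = adj.unit.app X ≫ ι.map a :=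
    hPB.lift_fst _ _ _
  have hm2 : hPB.lift _ _ comm ≫ adjS.unit.app Y = adjS.unit.app X ≫ R.map b :=
    hPB.lift_snd _ _ _
  have n1 : hPB.lift _ _ comm ≫ adj.unit.app Y =
      adj.unit.app X ≫ ι.map (L.map (hPB.lift _ _ comm)) :=
    adj.unit.naturality (hPB.lift _ _ comm)
  have n2 : hPB.lift _ _ comm ≫ adjS.unit.app Y =
      adjS.unit.app X ≫ R.map (S.map (hPB.lift _ _ comm)) :=
    adjS.unit.naturality (hPB.lift _ _ comm)
  refine ⟨hPB.lift _ _ comm, ?_⟩
  apply CommaMorphism.ext
  · change L.map (hPB.lift _ _ comm) = f.left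
    rw [← ha]
    apply (adj.homEquiv X (L.obj Y)).injective
    rw [adj.homEquiv_unit, adj.homEquiv_unit]
    exact n1.symm.trans hm1
  · change S.map (hPB.lift _ _ comm) = f.right
    rw [← hb]
    apply (adjS.homEquiv X (S.obj Y)).injective
    rw [adjS.homEquiv_unit, adjS.homEquiv_unit]
    exact n2.symm.trans hm2

include adj hterm in
lemma glue_essSurj : (glueFunctor L S R adjS).EssSurj := by
  refine ⟨fun T => ?_⟩
  have hpb := IsPullback.of_hasPullback (ι.map T.hom) (adj.unit.app (R.obj T.right))
  have h1 : IsIso (L.map (adj.unit.app (R.obj T.right))) := isIso_L_unit L ι adj _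
  have h2 : IsIso (L.map (pullback.fst (ι.map T.hom) (adj.unit.app (R.obj T.right)))) :=
    (hpb.map L).isIso_fst_of_isIso
  have h3 : IsIso (S.map (ι.map T.hom)) := hterm _ _ _
  have h4 : IsIso (S.map (pullback.snd (ι.map T.hom) (adj.unit.app (R.obj T.right)))) :=
    (hpb.map S).isIso_snd_of_isIso
  have nat1 : L.map (ι.map T.hom) ≫ adj.counit.app (L.obj (R.obj T.right)) =
      adj.counit.app T.left ≫ T.hom := adj.counit.naturality T.hom
  have nat2 : pullback.snd (ι.map T.hom) (adj.unit.app (R.obj T.right)) ≫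
      adjS.unit.app (R.obj T.right) =
      adjS.unit.app (pullback (ι.map T.hom) (adj.unit.app (R.obj T.right))) ≫
        R.map (S.map (pullback.snd (ι.map T.hom) (adj.unit.app (R.obj T.right)))) :=
    adjS.unit.naturality _
  have lhs : (L.map (pullback.fst (ι.map T.hom) (adj.unit.app (R.obj T.right))) ≫
      adj.counit.app T.left) ≫ T.hom =
      L.map (pullback.snd (ι.map T.hom) (adj.unit.app (R.obj T.right))) := by
    have tri : L.map (adj.unit.app (R.obj T.right)) ≫
        adj.counit.app (L.obj (R.obj T.right)) = 𝟙 _ := adj.left_triangle_components _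
    rw [Category.assoc, ← nat1, ← Category.assoc, ← L.map_comp, pullback.condition,
      L.map_comp, Category.assoc]
    exact (congrArg (fun z => L.map (pullback.snd (ι.map T.hom)
      (adj.unit.app (R.obj T.right))) ≫ z) tri).trans (Category.comp_id _)
  have rhs : L.map (adjS.unit.app (pullback (ι.map T.hom) (adj.unit.app (R.obj T.right)))) ≫
      L.map (R.map (S.map (pullback.snd (ι.map T.hom) (adj.unit.app (R.obj T.right))) ≫
        adjS.counit.app T.right)) =
      L.map (pullback.snd (ι.map T.hom) (adj.unit.app (R.obj T.right))) := by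
    have tri : adjS.unit.app (R.obj T.right) ≫ R.map (adjS.counit.app T.right) = 𝟙 _ :=
      adjS.right_triangle_components _
    rw [← L.map_comp, R.map_comp, ← Category.assoc, ← nat2, Category.assoc]
    exact congrArg (fun z => L.map z)
      ((congrArg (fun z => pullback.snd (ι.map T.hom)
        (adj.unit.app (R.obj T.right)) ≫ z) tri).trans (Category.comp_id _))
  let e1 : L.obj (pullback (ι.map T.hom) (adj.unit.app (R.obj T.right))) ≅ T.left :=
    (@asIso _ _ _ _ (L.map (pullback.fst (ι.map T.hom) (adj.unit.app (R.obj T.right)))) h2) ≪≫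
      asIso (adj.counit.app T.left)
  let e2 : S.obj (pullback (ι.map T.hom) (adj.unit.app (R.obj T.right))) ≅ T.right :=
    (@asIso _ _ _ _ (S.map (pullback.snd (ι.map T.hom) (adj.unit.app (R.obj T.right)))) h4) ≪≫
      asIso (adjS.counit.app T.right)
  refine ⟨pullback (ι.map T.hom) (adj.unit.app (R.obj T.right)), ⟨Comma.isoMk e1 e2 ?_⟩⟩
  exact lhs.trans rhs.symm

include adj adjS hterm hcons in
theorem glue_equiv : Nonempty (E ≌ Comma (𝟭 F) (R ⋙ L)) := by
  have := glue_faithful L ι adj S R adjS hterm hcons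
  have := glue_full L ι adj S R adjS hterm hcons
  have := glue_essSurj L ι adj S R adjS hterm
  have : (glueFunctor L S R adjS).IsEquivalence := {}
  exact ⟨(glueFunctor L S R adjS).asEquivalence⟩

end

end H2Glue
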