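import Mathlib

namespace H2GrComp

theorem comp_smul_eq_zero {R A M : Type*} [CommRing R] [CommRing A] [Algebra R A]
    (𝒜 : ℕ → Submodule R A) [GradedAlgebra 𝒜]
    [AddCommGroup M] [Module R M] [Module A M] (ℳ : ℕ → Submodule R M)
    [DirectSum.Decomposition ℳ] [SetLike.GradedSMul 𝒜 ℳ]
    {D : ℕ} {z : M} (hz : z ∈ ℳ D) (u : A) (hu : u • z = 0) (k : ℕ) :
    ((DirectSum.decompose 𝒜 u k : 𝒜 k) : A) • z = 0 := by
  classical
  have key : ∀ (t : A), ((DirectSum.decompose ℳ (t • z) (k + D) : ℳ (k + D)) : M)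
      = ((DirectSum.decompose 𝒜 t k : 𝒜 k) : A) • z := by
    intro t
    induction t using DirectSum.Decomposition.inductionOn 𝒜 with
    | zero => simp
    | @homogeneous j a =>
      have hmem : (a : A) • z ∈ ℳ (j + D) :=
        SetLike.GradedSMul.smul_mem (A := 𝒜) (B := ℳ) a.2 hz
      by_cases hj : j = k
      · subst hj
        rw [DirectSum.decompose_of_mem_same ℳ hmem, DirectSum.decompose_of_mem_same 𝒜 a.2]
      · have hne : j + D ≠ k + D := fun h => hj (Nat.add_right_cancel h)
        rw [DirectSum.decompose_of_mem_ne ℳ hmem hne, DirectSum.decompose_of_mem_ne 𝒜 a.2 hj,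
          zero_smul]
    | add a b ha hb =>
      rw [add_smul, DirectSum.decompose_add, DirectSum.decompose_add, DirectSum.add_apply,
        DirectSum.add_apply, Submodule.coe_add, Submodule.coe_add, add_smul, ha, hb]
  rw [← key u, hu]
  simp

end H2GrComp
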