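import Mathlib

open DirectSum

namespace H2GrFT

universe u

theorem finiteType {R A : Type u} [CommRing R] [CommRing A] [Algebra R A]
    (𝒜 : ℕ → Submodule R A) [GradedAlgebra 𝒜] [IsNoetherianRing A] :
    Algebra.FiniteType (𝒜 0) A := by
  classical
  obtain ⟨G, hG⟩ := (IsNoetherian.noetherian (HomogeneousIdeal.irrelevant 𝒜).toIdeal :
    (HomogeneousIdeal.irrelevant 𝒜).toIdeal.FG)
  let T : Finset A := G.biUnion fun g =>
    (decompose 𝒜 g).support.image fun n => ((decompose 𝒜 g n : 𝒜 n) : A)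
  have hGI : ∀ g ∈ G, g ∈ (HomogeneousIdeal.irrelevant 𝒜).toIdeal := by
    intro g hgG
    rw [← hG]
    exact Submodule.subset_span hgG
  have hTdeg : ∀ t ∈ T, ∃ n : ℕ, n ≠ 0 ∧ t ∈ 𝒜 n := by
    intro t ht
    obtain ⟨g, hgG, ht⟩ := Finset.mem_biUnion.mp ht
    obtain ⟨n, hn, rfl⟩ := Finset.mem_image.mp ht
    refine ⟨n, ?_, SetLike.coe_mem _⟩
    rintro rfl
    have h0 : ((decompose 𝒜 g 0 : 𝒜 0) : A) = 0 :=
      (HomogeneousIdeal.mem_irrelevant_iff 𝒜 g).mp (hGI g hgG)
    exact (DFinsupp.mem_support_iff.mp hn) (Subtype.ext h0)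
  have hTspan : ∀ a ∈ (HomogeneousIdeal.irrelevant 𝒜).toIdeal,
      a ∈ Submodule.span A (T : Set A) := by
    intro a ha
    rw [← hG] at ha
    refine Submodule.span_le.mpr ?_ ha
    intro g hgG
    show g ∈ Submodule.span A (T : Set A)
    rw [← DirectSum.sum_support_decompose 𝒜 g]
    refine Submodule.sum_mem _ fun n hn => Submodule.subset_span ?_
    exact Finset.mem_coe.mpr (Finset.mem_biUnion.mpr ⟨g, hgG, Finset.mem_image.mpr ⟨n, hn, rfl⟩⟩)
  choose! deg hdeg0 hdegmem using hTdeg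
  have claim : ∀ n : ℕ, ∀ a ∈ 𝒜 n, a ∈ Algebra.adjoin (𝒜 0) (T : Set A) := by
    intro n
    induction n using Nat.strong_induction_on with
    | _ n ih =>
      intro a ha
      rcases Nat.eq_zero_or_pos n with rfl | hpos
      · exact Subalgebra.algebraMap_mem _ (⟨a, ha⟩ : 𝒜 0)
      · have haI : a ∈ (HomogeneousIdeal.irrelevant 𝒜).toIdeal :=
          (HomogeneousIdeal.mem_irrelevant_iff 𝒜 a).mpr
            (DirectSum.decompose_of_mem_ne 𝒜 ha hpos.ne')
        obtain ⟨c, -, hc⟩ := Submodule.mem_span_finset.mp (hTspan a haI)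
        have ha' : a = ∑ t ∈ T, ((decompose 𝒜 (c t * t) n : 𝒜 n) : A) := by
          conv_lhs => rw [← DirectSum.decompose_of_mem_same 𝒜 ha, ← hc]
          rw [DirectSum.decompose_sum, DFinsupp.finset_sum_apply,
            AddSubmonoidClass.coe_finset_sum]
          rfl
        rw [ha']
        refine Subalgebra.sum_mem _ fun t ht => ?_
        by_cases hle : deg t ≤ n
        · rw [DirectSum.coe_decompose_mul_of_right_mem_of_le 𝒜 (hdegmem t ht) hle]
          exact Subalgebra.mul_mem _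
            (ih (n - deg t) (Nat.sub_lt hpos (Nat.pos_of_ne_zero (hdeg0 t ht))) _
              (SetLike.coe_mem _)) (Algebra.subset_adjoin ht)
        · rw [DirectSum.coe_decompose_mul_of_right_mem_of_not_le 𝒜 (hdegmem t ht) hle]
          exact Subalgebra.zero_mem _
  refine ⟨⟨T, ?_⟩⟩
  rw [eq_top_iff]
  intro a _
  rw [← DirectSum.sum_support_decompose 𝒜 a]
  exact Subalgebra.sum_mem _ fun n _ => claim n _ (SetLike.coe_mem _)

end H2GrFT
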