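import Mathlib

/-! Homology commutes with exact colimits (helper2). -/

namespace H2HC
open CategoryTheory CategoryTheory.Limits

universe v u v' u'
variable {D : Type u} [Category.{v} D] [Abelian D] {J : Type u'} [Category.{v'} J]

lemma exact_of_pointwise (S : ShortComplex (J ⥤ D))
    (h : ∀ j, (S.map ((evaluation J D).obj j)).Exact) : S.Exact := by
  rw [ShortComplex.exact_iff_isZero_homology]
  apply Functor.isZero
  intro j
  have h1 := h j
  rw [ShortComplex.exact_iff_isZero_homology] at h1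
  exact IsZero.of_iso h1 (S.mapHomologyIso ((evaluation J D).obj j)).symm

variable [HasColimitsOfShape J D] [HasExactColimitsOfShape J D]

theorem isColimit_of_kernel {Z X Y : J ⥤ D} (i : Z ⟶ X) (d : X ⟶ Y) (w : i ≫ d = 0)
    (hex : ∀ j, (ShortComplex.mk (i.app j) (d.app j)
      (by rw [← NatTrans.comp_app, w]; rfl)).Exact)
    (hmono : ∀ j, Mono (i.app j))
    (cZ : Cocone Z) {cX : Cocone X} (hX : IsColimit cX) {cY : Cocone Y} (hY : IsColimit cY)
    (i' : cZ.pt ⟶ cX.pt) (d' : cX.pt ⟶ cY.pt) (w' : i' ≫ d' = 0)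
    (hi : ∀ j, cZ.ι.app j ≫ i' = i.app j ≫ cX.ι.app j)
    (hd : ∀ j, cX.ι.app j ≫ d' = d.app j ≫ cY.ι.app j)
    (_hex' : (ShortComplex.mk i' d' w').Exact) (hm : Mono i') : Nonempty (IsColimit cZ) := by
  haveI := hm
  let S : ShortComplex (J ⥤ D) := ShortComplex.mk i d w
  have hS : S.Exact := exact_of_pointwise S hex
  have : Mono i := NatTrans.mono_of_mono_app i
  let c₀ := colimit.cocone Z
  let h₀ : IsColimit c₀ := colimit.isColimit Z
  let φ : c₀.pt ⟶ cZ.pt := h₀.desc cZ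
  have hφ : ∀ j, c₀.ι.app j ≫ φ = cZ.ι.app j := h₀.fac cZ
  have hi'' : ∀ j, c₀.ι.app j ≫ (φ ≫ i') = S.f.app j ≫ cX.ι.app j := by
    intro j; rw [← Category.assoc, hφ, hi]
  have hmono'' : Mono (φ ≫ i') := colim.map_mono' i h₀ hX (φ ≫ i') hi''
  have hex'' : (colim.mapShortComplex S h₀ cX cY (φ ≫ i') d' hi'' hd).Exact :=
    colim.exact_mapShortComplex hS h₀ hX hY (φ ≫ i') d' hi'' hd
  have : Mono (colim.mapShortComplex S h₀ cX cY (φ ≫ i') d' hi'' hd).f := hmono''
  let ψ : cZ.pt ⟶ c₀.pt := hex''.lift i' w'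
  have hψ : ψ ≫ (φ ≫ i') = i' := hex''.lift_f i' w'
  have h1 : ψ ≫ φ = 𝟙 _ := by
    rw [← cancel_mono i', Category.assoc, hψ, Category.id_comp]
  have : Mono φ := mono_of_mono φ i'
  have : IsSplitEpi φ := ⟨⟨ψ, h1⟩⟩
  have : IsIso φ := isIso_of_mono_of_isSplitEpi φ
  exact ⟨IsColimit.ofPointIso h₀⟩

theorem isColimit_of_cokernel {X Z H : J ⥤ D} (t : X ⟶ Z) (π : Z ⟶ H) (w : t ≫ π = 0)
    (hex : ∀ j, (ShortComplex.mk (t.app j) (π.app j)
      (by rw [← NatTrans.comp_app, w]; rfl)).Exact)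
    (hepi : ∀ j, Epi (π.app j))
    {cX : Cocone X} (hX : IsColimit cX) {cZ : Cocone Z} (hZ : IsColimit cZ) (cH : Cocone H)
    (t' : cX.pt ⟶ cZ.pt) (π' : cZ.pt ⟶ cH.pt) (w' : t' ≫ π' = 0)
    (ht : ∀ j, cX.ι.app j ≫ t' = t.app j ≫ cZ.ι.app j)
    (hπ : ∀ j, cZ.ι.app j ≫ π' = π.app j ≫ cH.ι.app j)
    (hex' : (ShortComplex.mk t' π' w').Exact) (he : Epi π') : Nonempty (IsColimit cH) := by
  haveI := he
  let S : ShortComplex (J ⥤ D) := ShortComplex.mk t π w
  have hS : S.Exact := exact_of_pointwise S hex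
  let c₀ := colimit.cocone H
  let h₀ : IsColimit c₀ := colimit.isColimit H
  let φ : c₀.pt ⟶ cH.pt := h₀.desc cH
  have hφ : ∀ j, c₀.ι.app j ≫ φ = cH.ι.app j := h₀.fac cH
  let π'' : cZ.pt ⟶ c₀.pt := hZ.desc (Cocone.mk c₀.pt (π ≫ c₀.ι))
  have hπ'' : ∀ j, cZ.ι.app j ≫ π'' = S.g.app j ≫ c₀.ι.app j :=
    fun j => hZ.fac (Cocone.mk c₀.pt (π ≫ c₀.ι)) j
  have h2 : π'' ≫ φ = π' := hZ.hom_ext (fun j => by
    rw [← Category.assoc, hπ'', Category.assoc, hφ, hπ])
  have : ∀ j, Epi (π.app j) := hepi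
  have hepi'' : Epi π'' := colim.map_epi' π cZ h₀ π'' hπ''
  have hex'' : (colim.mapShortComplex S hX cZ c₀ t' π'' ht hπ'').Exact :=
    colim.exact_mapShortComplex hS hX hZ h₀ t' π'' ht hπ''
  have hz : t' ≫ π'' = 0 := (colim.mapShortComplex S hX cZ c₀ t' π'' ht hπ'').zero
  let ψ : cH.pt ⟶ c₀.pt := hex'.desc π'' hz
  have hψ : π' ≫ ψ = π'' := hex'.g_desc π'' hz
  have h1 : φ ≫ ψ = 𝟙 _ := by
    rw [← cancel_epi π'', ← Category.assoc, h2, hψ, Category.comp_id]
  have : Epi φ := epi_of_epi_fac h2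
  have : IsSplitMono φ := ⟨⟨ψ, h1⟩⟩
  have : IsIso φ := isIso_of_epi_of_isSplitMono φ
  exact ⟨IsColimit.ofPointIso h₀⟩

variable (D J) in
theorem preservesColimitsOfShape_homologyFunctor :
    PreservesColimitsOfShape J (ShortComplex.homologyFunctor D) := by
  constructor
  intro E
  constructor
  intro c hc
  have h₁ : IsColimit (ShortComplex.π₁.mapCocone c) := isColimitOfPreserves _ hc
  have h₂ : IsColimit (ShortComplex.π₂.mapCocone c) := isColimitOfPreserves _ hc
  have h₃ : IsColimit (ShortComplex.π₃.mapCocone c) := isColimitOfPreserves _ hc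
  let iZ : E ⋙ ShortComplex.cyclesFunctor D ⟶ E ⋙ ShortComplex.π₂ :=
    { app := fun j => (E.obj j).iCycles
      naturality := fun _ _ f => ShortComplex.cyclesMap_i (E.map f) }
  let dd : E ⋙ ShortComplex.π₂ ⟶ E ⋙ ShortComplex.π₃ :=
    { app := fun j => (E.obj j).g
      naturality := fun _ _ f => (E.map f).comm₂₃ }
  let tt : E ⋙ ShortComplex.π₁ ⟶ E ⋙ ShortComplex.cyclesFunctor D :=
    { app := fun j => (E.obj j).toCycles
      naturality := fun _ _ f => (ShortComplex.toCycles_naturality (E.map f)).symm }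
  let pp : E ⋙ ShortComplex.cyclesFunctor D ⟶ E ⋙ ShortComplex.homologyFunctor D :=
    { app := fun j => (E.obj j).homologyπ
      naturality := fun _ _ f => (ShortComplex.homologyπ_naturality (E.map f)).symm }
  have hZ : Nonempty (IsColimit ((ShortComplex.cyclesFunctor D).mapCocone c)) := by
    refine isColimit_of_kernel iZ dd (by ext j; exact (E.obj j).iCycles_g) ?_ ?_ _ h₂ h₃
      c.pt.iCycles c.pt.g c.pt.iCycles_g ?_ ?_ ?_ (inferInstanceAs (Mono c.pt.iCycles))
    · intro j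
      exact ShortComplex.exact_of_f_is_kernel _ (E.obj j).cyclesIsKernel
    · intro j; exact inferInstanceAs (Mono (E.obj j).iCycles)
    · intro j; exact ShortComplex.cyclesMap_i (c.ι.app j)
    · intro j; exact (c.ι.app j).comm₂₃
    · exact ShortComplex.exact_of_f_is_kernel _ c.pt.cyclesIsKernel
  obtain ⟨hZ⟩ := hZ
  have hH : Nonempty (IsColimit ((ShortComplex.homologyFunctor D).mapCocone c)) := by
    refine isColimit_of_cokernel tt pp (by ext j; exact (E.obj j).toCycles_comp_homologyπ) ?_ ?_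
      h₁ hZ _ c.pt.toCycles c.pt.homologyπ c.pt.toCycles_comp_homologyπ ?_ ?_ ?_
      (inferInstanceAs (Epi c.pt.homologyπ))
    · intro j
      exact ShortComplex.exact_of_g_is_cokernel _ (E.obj j).homologyIsCokernel
    · intro j; exact inferInstanceAs (Epi (E.obj j).homologyπ)
    · intro j; exact (ShortComplex.toCycles_naturality (c.ι.app j)).symm
    · intro j; exact (ShortComplex.homologyπ_naturality (c.ι.app j)).symm
    · exact ShortComplex.exact_of_g_is_cokernel _ c.pt.homologyIsCokernel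
  exact hH

omit [HasColimitsOfShape J D] [HasExactColimitsOfShape J D] in
lemma preservesColimitsOfShape_of_π {C' : Type*} [Category C'] (Φ : C' ⥤ ShortComplex D)
    [PreservesColimitsOfShape J (Φ ⋙ ShortComplex.π₁)]
    [PreservesColimitsOfShape J (Φ ⋙ ShortComplex.π₂)]
    [PreservesColimitsOfShape J (Φ ⋙ ShortComplex.π₃)] : PreservesColimitsOfShape J Φ :=
  ⟨fun {_} => ⟨fun hc => ⟨ShortComplex.isColimitOfIsColimitπ _
    (isColimitOfPreserves (Φ ⋙ ShortComplex.π₁) hc)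
    (isColimitOfPreserves (Φ ⋙ ShortComplex.π₂) hc)
    (isColimitOfPreserves (Φ ⋙ ShortComplex.π₃) hc)⟩⟩⟩

end H2HC
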