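import Mathlib

/-! Noetherian domains in which one nonzero element lies in every nonzero prime:
they are semi-local of dimension `≤ 1` (Krull's principal ideal theorem + prime avoidance). -/

universe u

theorem h2_primes_of_dvd_all {B : Type u} [CommRing B] [IsDomain B] [IsNoetherianRing B] (f : B)
    (hf0 : f ≠ 0) (hf : ∀ P : Ideal B, P.IsPrime → P ≠ ⊥ → f ∈ P) :
    ∀ P : Ideal B, P.IsPrime → P ≠ ⊥ → P ∈ (Ideal.span {f}).minimalPrimes := by
  classical
  intro P hP hP0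
  have hfP : Ideal.span {f} ≤ P := (Ideal.span_singleton_le_iff_mem _).mpr (hf P hP hP0)
  obtain ⟨Q, hQ, hQP⟩ := Ideal.exists_minimalPrimes_le hfP
  by_contra hPS
  have hQne : Q ≠ P := fun h => hPS (h ▸ hQ)
  have hSfin : ((Ideal.span {f}).minimalPrimes).Finite :=
    Ideal.finite_minimalPrimes_of_isNoetherianRing B _
  have havoid : ¬ ((P : Set B) ⊆ ⋃ Q' ∈ (hSfin.toFinset : Set (Ideal B)), (Q' : Set B)) := by
    intro hsub
    obtain ⟨Q', hQ'S, hPQ'⟩ := (Ideal.subset_union_prime (s := hSfin.toFinset)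
      (f := fun Q' : Ideal B => Q') Q Q
      (fun i hi _ _ => (hSfin.mem_toFinset.mp hi).1.1)).mp hsub
    have hQ'S' : Q' ∈ (Ideal.span {f}).minimalPrimes := hSfin.mem_toFinset.mp hQ'S
    have h1 : Q' ≤ Q := hQ'S'.2 hQ.1 (hQP.trans hPQ')
    exact hQne (le_antisymm hQP (hPQ'.trans h1))
  obtain ⟨g, hgP, hgS⟩ := Set.not_subset.mp havoid
  have hgS' : ∀ Q' ∈ (Ideal.span {f}).minimalPrimes, g ∉ Q' := by
    intro Q' hQ' hg
    apply hgS
    simp only [Set.mem_iUnion]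
    exact ⟨Q', by simpa using hQ', hg⟩
  have hg0 : g ≠ 0 := by
    rintro rfl; exact hgS' Q hQ (Q.zero_mem)
  have hgP' : Ideal.span {g} ≤ P := (Ideal.span_singleton_le_iff_mem _).mpr hgP
  obtain ⟨Q₁, hQ₁, hQ₁P⟩ := Ideal.exists_minimalPrimes_le hgP'
  have hQ₁prime : Q₁.IsPrime := hQ₁.1.1
  have hgQ₁ : g ∈ Q₁ := hQ₁.1.2 (Ideal.mem_span_singleton_self g)
  have hQ₁0 : Q₁ ≠ ⊥ := by
    rintro rfl; exact hg0 (by simpa using hgQ₁)
  have hfQ₁ : Ideal.span {f} ≤ Q₁ :=
    (Ideal.span_singleton_le_iff_mem _).mpr (hf Q₁ hQ₁prime hQ₁0)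
  obtain ⟨Q₂, hQ₂, hQ₂Q₁⟩ := Ideal.exists_minimalPrimes_le hfQ₁
  have hQ₂prime : Q₂.IsPrime := hQ₂.1.1
  have hQ₂0 : ⊥ < Q₂ := by
    rw [bot_lt_iff_ne_bot]; rintro rfl
    exact hf0 (by simpa using hQ₂.1.2 (Ideal.mem_span_singleton_self f))
  have hne21 : Q₂ ≠ Q₁ := by
    rintro rfl; exact hgS' Q₂ hQ₂ hgQ₁
  have hlt : Q₂ < Q₁ := lt_of_le_of_ne hQ₂Q₁ hne21
  have hht : Q₁.height ≤ 1 :=
    Ideal.height_le_one_of_isPrincipal_of_mem_minimalPrimes _ Q₁ hQ₁
  have h1 : (⊥ : Ideal B).height < Q₂.height :=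
    Ideal.height_strict_mono_of_isPrime_of_isPrime hQ₂0
  have h2 : Q₂.height < Q₁.height := Ideal.height_strict_mono_of_isPrime_of_isPrime hlt
  have h3 : Q₂.height < 1 := lt_of_lt_of_le h2 hht
  have h4 : Q₂.height = 0 := Order.lt_one_iff.mp h3
  rw [h4] at h1
  exact not_lt_bot h1

theorem h2_dim_one_of_dvd_all {B : Type u} [CommRing B] [IsDomain B] [IsNoetherianRing B] (f : B)
    (hf0 : f ≠ 0) (hf : ∀ P : Ideal B, P.IsPrime → P ≠ ⊥ → f ∈ P)
    (hnf : ∃ P : Ideal B, P.IsPrime ∧ P ≠ ⊥) :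
    ringKrullDim B = 1 ∧ Finite (MaximalSpectrum B) ∧
      ∀ P : Ideal B, P.IsPrime → P ≠ ⊥ → P.IsMaximal := by
  have hK := h2_primes_of_dvd_all f hf0 hf
  have hmax : ∀ P : Ideal B, P.IsPrime → P ≠ ⊥ → P.IsMaximal := by
    intro P hP hP0
    obtain ⟨M, hM, hPM⟩ := Ideal.exists_le_maximal P hP.ne_top
    have hM0 : M ≠ ⊥ := fun h => hP0 (le_bot_iff.mp (h ▸ hPM))
    have hMS := hK M hM.isPrime hM0
    have hPS := hK P hP hP0
    have h1 : M ≤ P := hMS.2 hPS.1 hPM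
    rw [le_antisymm hPM h1]; exact hM
  refine ⟨?_, ?_, hmax⟩
  · apply le_antisymm
    · exact Ring.krullDimLE_iff.mp
        (Ring.krullDimLE_one_iff_of_noZeroDivisors.mpr fun I hI0 hI => hmax I hI hI0)
    · obtain ⟨P, hP, hP0⟩ := hnf
      have h1 : (⊥ : Ideal B).height < P.height :=
        Ideal.height_strict_mono_of_isPrime_of_isPrime (bot_lt_iff_ne_bot.mpr hP0)
      have h2 : (1 : ℕ∞) ≤ P.height := Order.one_le_iff_pos.mpr (lt_of_le_of_lt zero_le h1)
      calc (1 : WithBot ℕ∞) ≤ (P.height : WithBot ℕ∞) := by exact_mod_cast h2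
        _ ≤ ringKrullDim B := Ideal.height_le_ringKrullDim_of_isPrime
  · have hSfin := Ideal.finite_minimalPrimes_of_isNoetherianRing B (Ideal.span {f})
    have hfield : ∀ m : MaximalSpectrum B, m.asIdeal ≠ ⊥ := by
      intro m h0
      obtain ⟨P, hP, hP0⟩ := hnf
      have h1 : (⊥ : Ideal B).IsMaximal := h0 ▸ m.isMaximal
      exact hP0 (h1.eq_of_le hP.ne_top bot_le).symm
    have hfin : Finite ↥((Ideal.span {f}).minimalPrimes) := hSfin.to_subtype
    let φ : MaximalSpectrum B → ↥((Ideal.span {f}).minimalPrimes) := fun m =>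
      ⟨m.asIdeal, hK m.asIdeal m.isMaximal.isPrime (hfield m)⟩
    exact Finite.of_injective φ (fun a b hab => MaximalSpectrum.ext (congrArg Subtype.val hab))

theorem h2_above_prime {A : Type u} [CommRing A] [IsNoetherianRing A] (p : Ideal A) [hp : p.IsPrime]
    (f : A) (hfp : f ∉ p) (hall : ∀ q : Ideal A, q.IsPrime → p < q → f ∈ q)
    (hnm : ∃ q : Ideal A, q.IsPrime ∧ p < q) :
    ringKrullDim (A ⧸ p) = 1 ∧ Finite (MaximalSpectrum (A ⧸ p)) ∧
      ∀ q : Ideal A, q.IsPrime → p < q → q.IsMaximal := by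
  have hfb0 : Ideal.Quotient.mk p f ≠ 0 := fun h0 => hfp (Ideal.Quotient.eq_zero_iff_mem.mp h0)
  have hker : RingHom.ker (Ideal.Quotient.mk p) = p := Ideal.mk_ker
  have hmapne : ∀ q : Ideal A, p < q → q.map (Ideal.Quotient.mk p) ≠ ⊥ := by
    intro q hq h0
    have h1 : q ≤ p := by
      rw [← hker, RingHom.ker_eq_comap_bot, ← h0]
      exact Ideal.le_comap_map
    exact (lt_of_lt_of_le hq h1).false
  have hall' : ∀ Q : Ideal (A ⧸ p), Q.IsPrime → Q ≠ ⊥ → Ideal.Quotient.mk p f ∈ Q := by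
    intro Q hQ hQ0
    have hpq : p ≤ Q.comap (Ideal.Quotient.mk p) := by
      intro x hx
      rw [Ideal.mem_comap, Ideal.Quotient.eq_zero_iff_mem.mpr hx]
      exact Q.zero_mem
    have hne : p ≠ Q.comap (Ideal.Quotient.mk p) := by
      intro h0
      apply hQ0
      rw [← Ideal.map_comap_of_surjective _ Ideal.Quotient.mk_surjective Q, ← h0,
        Ideal.map_quotient_self]
    exact hall _ (hQ.comap _) (lt_of_le_of_ne hpq hne)
  have hnf : ∃ P : Ideal (A ⧸ p), P.IsPrime ∧ P ≠ ⊥ := by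
    obtain ⟨q, hq, hpq⟩ := hnm
    exact ⟨q.map (Ideal.Quotient.mk p),
      Ideal.map_isPrime_of_surjective Ideal.Quotient.mk_surjective (by rw [hker]; exact hpq.le),
      hmapne q hpq⟩
  obtain ⟨hd, hfin, hmax⟩ := h2_dim_one_of_dvd_all (Ideal.Quotient.mk p f) hfb0 hall' hnf
  refine ⟨hd, hfin, fun q hq hpq => ?_⟩
  have h1 := hmax (q.map (Ideal.Quotient.mk p))
    (Ideal.map_isPrime_of_surjective Ideal.Quotient.mk_surjective (by rw [hker]; exact hpq.le))
    (hmapne q hpq)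
  have h2 := Ideal.comap_isMaximal_of_surjective (Ideal.Quotient.mk p)
    Ideal.Quotient.mk_surjective (K := q.map (Ideal.Quotient.mk p))
  rw [Ideal.comap_map_of_surjective _ Ideal.Quotient.mk_surjective, ← RingHom.ker_eq_comap_bot,
    hker, sup_eq_left.mpr hpq.le] at h2
  exact h2

theorem h2_dim_crit {A : Type u} [CommRing A] [IsNoetherianRing A] [IsLocalRing A] (p : Ideal A)
    [hp : p.IsPrime] (hpm : p ≠ IsLocalRing.maximalIdeal A) :
    (∀ q : Ideal A, q.IsPrime → p ≤ q → q ≠ IsLocalRing.maximalIdeal A → q = p) ↔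
      ringKrullDim (A ⧸ p) = 1 := by
  have hplt : p < IsLocalRing.maximalIdeal A :=
    lt_of_le_of_ne (IsLocalRing.le_maximalIdeal hp.ne_top) hpm
  constructor
  · intro h
    obtain ⟨f, hfm, hfp⟩ := SetLike.exists_of_lt hplt
    have hall : ∀ q : Ideal A, q.IsPrime → p < q → f ∈ q := by
      intro q hq hpq
      have hqm : q = IsLocalRing.maximalIdeal A := by
        by_contra hne
        exact hpq.ne (h q hq hpq.le hne).symm
      rw [hqm]; exact hfm
    exact (h2_above_prime p f hfp hall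
      ⟨_, (IsLocalRing.maximalIdeal.isMaximal A).isPrime, hplt⟩).1
  · intro hdim q hq hpq hqm
    by_contra hne
    have hlt : p < q := lt_of_le_of_ne hpq (Ne.symm hne)
    have hker : RingHom.ker (Ideal.Quotient.mk p) = p := Ideal.mk_ker
    have hK : Ring.KrullDimLE 1 (A ⧸ p) := Ring.krullDimLE_iff.mpr (le_of_eq hdim)
    have hmapne : q.map (Ideal.Quotient.mk p) ≠ ⊥ := by
      intro h0
      have h1 : q ≤ p := by
        rw [← hker, RingHom.ker_eq_comap_bot, ← h0]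
        exact Ideal.le_comap_map
      exact (lt_of_lt_of_le hlt h1).false
    have hprime : (q.map (Ideal.Quotient.mk p)).IsPrime :=
      Ideal.map_isPrime_of_surjective Ideal.Quotient.mk_surjective (by rw [hker]; exact hpq)
    have h1 := Ring.krullDimLE_one_iff_of_noZeroDivisors.mp hK _ hmapne hprime
    have h2 := Ideal.comap_isMaximal_of_surjective (Ideal.Quotient.mk p)
      Ideal.Quotient.mk_surjective (K := q.map (Ideal.Quotient.mk p))
    rw [Ideal.comap_map_of_surjective _ Ideal.Quotient.mk_surjective, ← RingHom.ker_eq_comap_bot,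
      hker, sup_eq_left.mpr hpq] at h2
    exact hqm (IsLocalRing.eq_maximalIdeal h2)
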