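import Mathlib

/-!
# Jacobi's formula for polynomial matrices and the logarithmic derivative of `det (1 - X A)`
-/

open Polynomial Matrix

namespace H2Jac

variable {R : Type*} [CommRing R] {m : Type*} [Fintype m] [DecidableEq m]

lemma det_updateCol_eq (M : Matrix m m R[X]) (i : m) (v : m → R[X]) :
    (M.updateCol i v).det =
      ∑ σ : Equiv.Perm m, Equiv.Perm.sign σ • ((∏ j ∈ Finset.univ.erase i, M (σ j) j) * v (σ i)) := by
  rw [Matrix.det_apply]
  apply Finset.sum_congr rfl
  intro σ _
  congr 1
  rw [← Finset.prod_erase_mul _ _ (Finset.mem_univ i)]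
  congr 1
  · apply Finset.prod_congr rfl
    intro j hj
    rw [Matrix.updateCol_ne (Finset.ne_of_mem_erase hj)]
  · rw [Matrix.updateCol_self]

/-- Jacobi's formula. -/
theorem derivative_det (M : Matrix m m R[X]) :
    derivative M.det = (M.adjugate * M.map (⇑derivative)).trace := by
  have h1 : (M.adjugate * M.map (⇑derivative)).trace =
      ∑ i, (M.updateCol i (fun k => derivative (M k i))).det := by
    simp only [Matrix.trace, Matrix.diag]
    apply Finset.sum_congr rfl
    intro i _
    rw [← Matrix.cramer_apply, Matrix.cramer_eq_adjugate_mulVec, Matrix.mulVec, Matrix.mul_apply]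
    rfl
  rw [h1, Matrix.det_apply, map_sum]
  simp_rw [det_updateCol_eq]
  rw [Finset.sum_comm]
  apply Finset.sum_congr rfl
  intro σ _
  rw [Units.smul_def, map_zsmul, Polynomial.derivative_prod_finset, ← Finset.smul_sum, Units.smul_def]


/-- The matrix of power series `∑ Aⁿ Xⁿ`. -/
noncomputable def geomMat (A : Matrix m m R) : Matrix m m (PowerSeries R) :=
  fun i j => PowerSeries.mk (fun n => (A ^ n) i j)

noncomputable def oneSubX (A : Matrix m m R) : Matrix m m (PowerSeries R) :=
  1 - (PowerSeries.X : PowerSeries R) • A.map (PowerSeries.C)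

lemma oneSubX_mul_geomMat (A : Matrix m m R) : oneSubX A * geomMat A = 1 := by
  ext i j n
  rw [Matrix.mul_apply]
  have h1 : ∀ k, oneSubX A i k * geomMat A k j =
      (1 : Matrix m m (PowerSeries R)) i k * geomMat A k j -
        (PowerSeries.C (A i k) * geomMat A k j) * PowerSeries.X := by
    intro k
    simp only [oneSubX, Matrix.sub_apply, Matrix.smul_apply, Matrix.map_apply, smul_eq_mul]
    ring
  simp_rw [h1]
  rw [Finset.sum_sub_distrib, ← Finset.sum_mul, map_sub]
  have h2 : ∑ k, (1 : Matrix m m (PowerSeries R)) i k * geomMat A k j = geomMat A i j := by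
    simp [Matrix.one_apply]
  rw [h2]
  cases n with
  | zero =>
    rw [PowerSeries.coeff_zero_mul_X, sub_zero]
    simp only [geomMat, PowerSeries.coeff_mk, pow_zero]
    by_cases hij : i = j
    · subst hij; simp
    · simp [Matrix.one_apply_ne hij]
  | succ n =>
    rw [PowerSeries.coeff_succ_mul_X, map_sum]
    have h3 : ∀ k, PowerSeries.coeff n (PowerSeries.C (A i k) * geomMat A k j) =
        A i k * (A ^ n) k j := by
      intro k
      rw [PowerSeries.coeff_C_mul]
      simp [geomMat]
    simp_rw [h3]
    rw [← Matrix.mul_apply, ← pow_succ']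
    simp only [geomMat, PowerSeries.coeff_mk, sub_self]
    by_cases hij : i = j
    · subst hij; simp [PowerSeries.coeff_one]
    · simp [Matrix.one_apply_ne hij]

lemma adjugate_oneSubX (A : Matrix m m R) :
    (oneSubX A).adjugate = (oneSubX A).det • geomMat A := by
  calc (oneSubX A).adjugate = (oneSubX A).adjugate * (oneSubX A * geomMat A) := by
        rw [oneSubX_mul_geomMat, mul_one]
    _ = ((oneSubX A).adjugate * oneSubX A) * geomMat A := by rw [mul_assoc]
    _ = (oneSubX A).det • geomMat A := by
        rw [Matrix.adjugate_mul, Matrix.smul_mul, one_mul]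

lemma map_oneSub (A : Matrix m m R) :
    (Polynomial.coeToPowerSeries.ringHom (R := R)).mapMatrix
      (1 - (X : R[X]) • A.map C) = oneSubX A := by
  ext i j : 1
  simp only [oneSubX, RingHom.mapMatrix_apply, Matrix.map_apply, Matrix.sub_apply,
    Matrix.smul_apply, smul_eq_mul, map_sub, map_mul]
  congr 1
  · by_cases hij : i = j
    · subst hij; simp
    · simp [Matrix.one_apply_ne hij]
  · simp

theorem logDeriv_charpolyRev (A : Matrix m m R) :
    ((-(X * Polynomial.derivative A.charpolyRev) : R[X]) : PowerSeries R) =
      (A.charpolyRev : PowerSeries R) *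
        PowerSeries.mk (fun n => if n = 0 then 0 else (A ^ n).trace) := by
  set M : Matrix m m R[X] := 1 - (X : R[X]) • A.map C with hM
  have hMd : M.map (⇑derivative) = -(A.map C) := by
    ext i j : 1
    simp only [hM, Matrix.map_apply, Matrix.sub_apply, Matrix.smul_apply, smul_eq_mul,
      Matrix.neg_apply, map_sub, derivative_mul, derivative_X, derivative_C, one_mul, mul_zero,
      add_zero]
    by_cases hij : i = j
    · subst hij; simp
    · simp [Matrix.one_apply_ne hij]
  have hP : A.charpolyRev = M.det := rfl
  have h1 : -(X * Polynomial.derivative A.charpolyRev) =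
      (M.adjugate * ((X : R[X]) • A.map C)).trace := by
    rw [hP, derivative_det, hMd, Matrix.mul_neg, Matrix.trace_neg, mul_neg, neg_neg,
      Matrix.mul_smul, Matrix.trace_smul, smul_eq_mul]
  rw [h1]
  set c := Polynomial.coeToPowerSeries.ringHom (R := R) with hc
  have h2 : ((M.adjugate * ((X : R[X]) • A.map C)).trace : PowerSeries R) =
      ((oneSubX A).adjugate * ((PowerSeries.X : PowerSeries R) • A.map PowerSeries.C)).trace := by
    show c ((M.adjugate * ((X : R[X]) • A.map C)).trace) = _
    rw [AddMonoidHom.map_trace c]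
    show (c.mapMatrix (M.adjugate * ((X : R[X]) • A.map C))).trace = _
    rw [map_mul, RingHom.map_adjugate, map_oneSub]
    congr 2
    ext i j : 1
    simp [hc]
    exact mul_comm _ _
  rw [h2, adjugate_oneSubX, Matrix.smul_mul, Matrix.trace_smul, smul_eq_mul]
  have h3 : (oneSubX A).det = (A.charpolyRev : PowerSeries R) := by
    rw [← map_oneSub, ← RingHom.map_det]
    rfl
  rw [h3]
  congr 1
  ext n
  simp only [Matrix.trace, Matrix.diag, Matrix.mul_apply, Matrix.smul_apply, Matrix.map_apply,
    smul_eq_mul, map_sum, PowerSeries.coeff_mk]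
  have h4 : ∀ i k, geomMat A i k * (PowerSeries.X * PowerSeries.C (A k i)) =
      (geomMat A i k * PowerSeries.C (A k i)) * PowerSeries.X := by
    intro i k; ring
  simp_rw [h4]
  cases n with
  | zero => simp [PowerSeries.coeff_zero_mul_X]
  | succ n =>
    simp only [PowerSeries.coeff_succ_mul_X, PowerSeries.coeff_mul_C, geomMat,
      PowerSeries.coeff_mk, Nat.succ_ne_zero, if_false]
    rw [pow_succ]
    simp only [Matrix.mul_apply]

end H2Jac
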