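import Mathlib
import Groth.Prelude.Def_KZero

/-! K₀ of finitely generated modules over a PID (helper2). -/

namespace H2K0
open CategoryTheory CategoryTheory.Limits KZero

universe u
variable {A : Type u} [CommRing A]

abbrev PF (A : Type u) [CommRing A] : ObjectProperty (ModuleCat.{u} A) :=
  fun M : ModuleCat.{u} A => Module.Finite A M

lemma clSub_of (M : ModuleCat.{u} A) (h : Module.Finite A M) :
    clSub (PF A) M = QuotientAddGroup.mk (FreeAbelianGroup.of ⟨M, h⟩) := dif_pos h

theorem clSub_ses (S : ShortComplex (ModuleCat.{u} A)) (hS : S.ShortExact)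
    (h₁ : Module.Finite A S.X₁) (h₂ : Module.Finite A S.X₂) (h₃ : Module.Finite A S.X₃) :
    clSub (PF A) S.X₂ = clSub (PF A) S.X₁ + clSub (PF A) S.X₃ := by
  have hrel : (QuotientAddGroup.mk (FreeAbelianGroup.of (⟨S.X₂, h₂⟩ : Subtype (PF A)) -
      FreeAbelianGroup.of ⟨S.X₁, h₁⟩ - FreeAbelianGroup.of ⟨S.X₃, h₃⟩) : K0sub (PF A)) = 0 :=
    (QuotientAddGroup.eq_zero_iff _).2 (AddSubgroup.subset_closure ⟨S, h₁, h₂, h₃, hS, rfl⟩)
  rw [clSub_of _ h₁, clSub_of _ h₂, clSub_of _ h₃]
  rw [QuotientAddGroup.mk_sub, QuotientAddGroup.mk_sub, sub_sub, sub_eq_zero] at hrel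
  exact hrel

section Mod
variable {M₁ M₂ M₃ : Type u} [AddCommGroup M₁] [Module A M₁] [AddCommGroup M₂] [Module A M₂]
  [AddCommGroup M₃] [Module A M₃]

theorem cl_add_of_exact [Module.Finite A M₁] [Module.Finite A M₂] [Module.Finite A M₃]
    (f : M₁ →ₗ[A] M₂) (g : M₂ →ₗ[A] M₃) (hf : Function.Injective f)
    (hg : Function.Surjective g) (hex : Function.Exact f g) :
    clSub (PF A) (ModuleCat.of A M₂) =
      clSub (PF A) (ModuleCat.of A M₁) + clSub (PF A) (ModuleCat.of A M₃) := by
  let S : ShortComplex (ModuleCat.{u} A) :=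
    ShortComplex.mk (ModuleCat.ofHom f) (ModuleCat.ofHom g) (by
      apply ModuleCat.hom_ext
      exact hex.linearMap_comp_eq_zero)
  have hS : S.ShortExact := ShortComplex.ShortExact.mk'
    ((ShortComplex.ShortExact.moduleCat_exact_iff_function_exact S).2 hex)
    ((ModuleCat.mono_iff_injective _).2 hf)
    ((ModuleCat.epi_iff_surjective _).2 hg)
  exact clSub_ses S hS (inferInstanceAs (Module.Finite A M₁))
    (inferInstanceAs (Module.Finite A M₂)) (inferInstanceAs (Module.Finite A M₃))

theorem cl_zero [Module.Finite A M₁] [Subsingleton M₁] :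
    clSub (PF A) (ModuleCat.of A M₁) = 0 := by
  have h := cl_add_of_exact (0 : M₁ →ₗ[A] M₁) (0 : M₁ →ₗ[A] M₁)
    (fun x y _ => Subsingleton.elim x y) (fun y => ⟨y, Subsingleton.elim _ _⟩)
    (fun y => ⟨fun _ => ⟨y, Subsingleton.elim _ _⟩, fun _ => Subsingleton.elim _ _⟩)
  exact (add_eq_left.1 h.symm)

theorem cl_equiv [Module.Finite A M₂] [Module.Finite A M₃] (e : M₂ ≃ₗ[A] M₃) :
    clSub (PF A) (ModuleCat.of A M₂) = clSub (PF A) (ModuleCat.of A M₃) := by
  have h := cl_add_of_exact (0 : PUnit.{u + 1} →ₗ[A] M₂) e.toLinearMap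
    (fun x y _ => Subsingleton.elim x y) e.surjective
    (fun y => ⟨fun hy => ⟨0, by
      have : y = 0 := e.injective (by rw [map_zero]; exact hy)
      rw [this]; rfl⟩, fun ⟨x, hx⟩ => by rw [← hx]; exact map_zero _⟩)
  rw [h, cl_zero, zero_add]

end Mod

theorem cl_quot_span [IsDomain A] (a : A) (ha : a ≠ 0) :
    clSub (PF A) (ModuleCat.of A (A ⧸ Ideal.span {a})) = 0 := by
  have hinj : Function.Injective (LinearMap.toSpanSingleton A A a) := by
    intro x y hxy
    have : x * a = y * a := hxy
    exact mul_right_cancel₀ ha this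
  have hex : Function.Exact (LinearMap.toSpanSingleton A A a) (Ideal.span {a}).mkQ := by
    intro y
    rw [Submodule.mkQ_apply, Submodule.Quotient.mk_eq_zero]
    constructor
    · intro hy
      obtain ⟨r, hr⟩ := Ideal.mem_span_singleton'.1 hy
      exact ⟨r, hr⟩
    · rintro ⟨r, hr⟩
      exact Ideal.mem_span_singleton'.2 ⟨r, hr⟩
  have h := cl_add_of_exact (LinearMap.toSpanSingleton A A a) (Ideal.span {a}).mkQ hinj
    (Submodule.mkQ_surjective _) hex
  exact add_eq_left.1 h.symm

section PID
variable [IsDomain A] [IsPrincipalIdealRing A]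

theorem cl_span_singleton_mem {M : Type u} [AddCommGroup M] [Module A M] (x : M) :
    clSub (PF A) (ModuleCat.of A (Submodule.span A {x})) ∈
      AddSubgroup.zmultiples (clSub (PF A) (ModuleCat.of A A)) := by
  have e1 : (A ⧸ LinearMap.ker (LinearMap.toSpanSingleton A M x)) ≃ₗ[A]
      Submodule.span A {x} :=
    (LinearMap.toSpanSingleton A M x).quotKerEquivRange.trans
      (LinearEquiv.ofEq _ _ (LinearMap.range_toSpanSingleton x))
  obtain ⟨a, ha⟩ := (IsPrincipalIdealRing.principal
    (LinearMap.ker (LinearMap.toSpanSingleton A M x))).principal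
  by_cases h0 : a = 0
  · have hbot : LinearMap.ker (LinearMap.toSpanSingleton A M x) = ⊥ := by
      rw [ha, h0]; exact Submodule.span_zero_singleton A
    have e2 : A ≃ₗ[A] Submodule.span A {x} :=
      (Submodule.quotEquivOfEqBot _ hbot).symm.trans e1
    rw [← cl_equiv e2]
    exact AddSubgroup.mem_zmultiples _
  · have e3 : (A ⧸ Ideal.span {a}) ≃ₗ[A] Submodule.span A {x} :=
      (Submodule.quotEquivOfEq _ _ ha.symm).trans e1
    rw [← cl_equiv e3, cl_quot_span a h0]
    exact AddSubgroup.zero_mem _

theorem cl_mem (n : ℕ) : ∀ (M : Type u) [AddCommGroup M] [Module A M] [Module.Finite A M]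
    (s : Finset M), s.card ≤ n → Submodule.span A (s : Set M) = ⊤ →
    clSub (PF A) (ModuleCat.of A M) ∈
      AddSubgroup.zmultiples (clSub (PF A) (ModuleCat.of A A)) := by
  induction n with
  | zero =>
    intro M _ _ _ s hs hspan
    have hs0 : s = ∅ := Finset.card_eq_zero.1 (Nat.le_zero.1 hs)
    rw [hs0, Finset.coe_empty, Submodule.span_empty] at hspan
    have : Subsingleton M := ⟨fun x y => by
      have hx : x ∈ (⊥ : Submodule A M) := hspan ▸ Submodule.mem_top
      have hy : y ∈ (⊥ : Submodule A M) := hspan ▸ Submodule.mem_top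
      rw [(Submodule.mem_bot A).1 hx, (Submodule.mem_bot A).1 hy]⟩
    have hz : clSub (PF A) (ModuleCat.of A M) = 0 := cl_zero
    rw [hz]
    exact AddSubgroup.zero_mem _
  | succ n ih =>
    intro M _ _ _ s hs hspan
    classical
    by_cases hse : s = ∅
    · rw [hse, Finset.coe_empty, Submodule.span_empty] at hspan
      have : Subsingleton M := ⟨fun x y => by
        have hx : x ∈ (⊥ : Submodule A M) := hspan ▸ Submodule.mem_top
        have hy : y ∈ (⊥ : Submodule A M) := hspan ▸ Submodule.mem_top
        rw [(Submodule.mem_bot A).1 hx, (Submodule.mem_bot A).1 hy]⟩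
      have hz : clSub (PF A) (ModuleCat.of A M) = 0 := cl_zero
      rw [hz]
      exact AddSubgroup.zero_mem _
    · obtain ⟨x, hx⟩ := Finset.nonempty_iff_ne_empty.2 hse
      let N : Submodule A M := Submodule.span A {x}
      have hN : IsNoetherian A M := isNoetherian_of_isNoetherianRing_of_finite A M
      have h := cl_add_of_exact N.subtype N.mkQ N.injective_subtype N.mkQ_surjective
        (LinearMap.exact_subtype_mkQ N)
      rw [h]
      refine AddSubgroup.add_mem _ (cl_span_singleton_mem x) ?_
      refine ih (M ⧸ N) ((s.erase x).image N.mkQ) ?_ ?_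
      · refine (Finset.card_image_le).trans ?_
        rw [Finset.card_erase_of_mem hx]
        omega
      · rw [eq_top_iff]
        rintro y -
        obtain ⟨m, rfl⟩ := N.mkQ_surjective y
        have hm : m ∈ Submodule.span A (s : Set M) := hspan ▸ Submodule.mem_top
        refine Submodule.span_induction ?_ ?_ ?_ ?_ hm
        · intro z hz
          by_cases hzx : z = x
          · have : N.mkQ z = 0 := by
              rw [Submodule.mkQ_apply, Submodule.Quotient.mk_eq_zero, hzx]
              exact Submodule.mem_span_singleton_self x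
            rw [this]; exact Submodule.zero_mem _
          · apply Submodule.subset_span
            rw [Finset.coe_image]
            exact ⟨z, Finset.mem_coe.2 (Finset.mem_erase.2 ⟨hzx, Finset.mem_coe.1 hz⟩), rfl⟩
        · rw [map_zero]; exact Submodule.zero_mem _
        · intro a b _ _ ha hb; rw [map_add]; exact Submodule.add_mem _ ha hb
        · intro r a _ ha; rw [map_smul]; exact Submodule.smul_mem _ r ha

theorem cl_mem' (M : ModuleCat.{u} A) (hM : Module.Finite A M) :
    clSub (PF A) M ∈ AddSubgroup.zmultiples (clSub (PF A) (ModuleCat.of A A)) := by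
  obtain ⟨s, hs⟩ := (Module.Finite.fg_top : (⊤ : Submodule A M).FG)
  exact cl_mem s.card M s le_rfl hs

/-- The rank homomorphism. -/
noncomputable def rankHom : K0sub (PF A) →+ ℤ :=
  QuotientAddGroup.lift (relSub (PF A))
    (FreeAbelianGroup.lift (fun M : Subtype (PF A) => (Module.finrank A M.1 : ℤ))) (by
    intro x hx
    rw [AddMonoidHom.mem_ker]
    refine AddSubgroup.closure_induction (p := fun x _ => (FreeAbelianGroup.lift
      (fun M : Subtype (PF A) => (Module.finrank A M.1 : ℤ))) x = 0) ?_ ?_ ?_ ?_ hx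
    · rintro _ ⟨S, h₁, h₂, h₃, hS, rfl⟩
      rw [map_sub, map_sub, FreeAbelianGroup.lift_apply_of, FreeAbelianGroup.lift_apply_of,
        FreeAbelianGroup.lift_apply_of]
      have hf : Function.Injective S.f.hom := (ModuleCat.mono_iff_injective _).1 hS.mono_f
      have hg : Function.Surjective S.g.hom := (ModuleCat.epi_iff_surjective _).1 hS.epi_g
      have hex : Function.Exact S.f.hom S.g.hom :=
        (ShortComplex.ShortExact.moduleCat_exact_iff_function_exact S).1 hS.exact
      haveI : Module.Finite A S.X₂ := h₂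
      have e1 : Module.finrank A S.X₁ = Module.finrank A (LinearMap.range S.f.hom) :=
        (LinearEquiv.ofInjective S.f.hom hf).finrank_eq
      have e3 : Module.finrank A (S.X₂ ⧸ LinearMap.ker S.g.hom) = Module.finrank A S.X₃ :=
        (S.g.hom.quotKerEquivOfSurjective hg).finrank_eq
      have hk : LinearMap.ker S.g.hom = LinearMap.range S.f.hom := hex.linearMap_ker_eq
      have := (LinearMap.range S.f.hom).finrank_quotient_add_finrank
      rw [← hk] at this
      rw [e3] at this
      rw [hk, ← e1] at this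
      show (Module.finrank A S.X₂ : ℤ) - (Module.finrank A S.X₁ : ℤ) -
        (Module.finrank A S.X₃ : ℤ) = 0
      rw [← this]; push_cast; ring
    · exact map_zero _
    · intro x y _ _ hx hy; rw [map_add, hx, hy, add_zero]
    · intro x _ hx; rw [map_neg, hx, neg_zero])

omit [IsPrincipalIdealRing A] in
theorem rankHom_cl_self : rankHom (clSub (PF A) (ModuleCat.of A A)) = 1 := by
  rw [clSub_of _ (inferInstanceAs (Module.Finite A A))]
  show (FreeAbelianGroup.lift (fun M : Subtype (PF A) => (Module.finrank A M.1 : ℤ)))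
    (FreeAbelianGroup.of _) = 1
  rw [FreeAbelianGroup.lift_apply_of]
  show ((Module.finrank A A : ℕ) : ℤ) = 1
  rw [Module.finrank_self]; rfl

theorem bijective_zsmul :
    Function.Bijective (fun k : ℤ => k • clSub (PF A) (ModuleCat.of A A)) := by
  constructor
  · intro k k' h
    have := congrArg rankHom h
    simp only [map_zsmul, rankHom_cl_self, smul_eq_mul, mul_one] at this
    exact this
  · intro x
    have hx : x ∈ AddSubgroup.zmultiples (clSub (PF A) (ModuleCat.of A A)) := by
      induction x using QuotientAddGroup.induction_on with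
      | H z =>
        induction z using FreeAbelianGroup.induction_on with
        | zero => exact AddSubgroup.zero_mem _
        | of M =>
          have := cl_mem' M.1 M.2
          rw [clSub_of _ M.2] at this
          exact this
        | neg M h => exact AddSubgroup.neg_mem _ h
        | add a b ha hb => exact AddSubgroup.add_mem _ ha hb
    obtain ⟨k, hk⟩ := AddSubgroup.mem_zmultiples_iff.1 hx
    exact ⟨k, hk⟩

end PID

end H2K0
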