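import Groth.Prelude.Def_LambdaRing
import Mathlib

/-! Helper lemmas on λ-rings (helper2). -/

universe u

open PowerSeries Finset

namespace LambdaRing

variable {K : Type u} [CommRing K] [LambdaOps K]

theorem h2_lamSeries_add (x y : K) : lamSeries (x + y) = lamSeries x * lamSeries y := by
  ext k
  simp only [lamSeries, PowerSeries.coeff_mk, PowerSeries.coeff_mul]
  rw [LambdaOps.lam_add,
    Finset.Nat.sum_antidiagonal_eq_sum_range_succ (fun i j => LambdaOps.lam i x * LambdaOps.lam j y)]

theorem h2_constantCoeff_lamSeries (x : K) : constantCoeff (lamSeries x) = 1 := by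
  rw [← coeff_zero_eq_constantCoeff_apply]
  simp [lamSeries, LambdaOps.lam_zero]

theorem h2_lamSeries_zero : lamSeries (0 : K) = 1 := by
  have h := h2_lamSeries_add (0 : K) 0
  rw [add_zero] at h
  have hu : IsUnit (lamSeries (0 : K)) := by
    rw [PowerSeries.isUnit_iff_constantCoeff, h2_constantCoeff_lamSeries]
    exact isUnit_one
  obtain ⟨u, hu⟩ := hu
  rw [← hu] at h ⊢
  have : (u : PowerSeries K) * 1 = u * u := by rw [mul_one]; exact h
  exact (Units.mul_right_inj u).1 this.symm

/-- the series `X / (1 - X)` -/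
noncomputable def h2G (K : Type u) [CommRing K] : PowerSeries K := X * PowerSeries.mk 1

omit [LambdaOps K] in
theorem h2G_hasSubst : HasSubst (h2G K) := by
  apply HasSubst.of_constantCoeff_zero'
  simp [h2G]

omit [LambdaOps K] in
theorem h2_coeff_G_pow (k j : ℕ) :
    coeff k ((h2G K) ^ j) =
      if j = 0 then (if k = 0 then 1 else 0) else
        if k = 0 then 0 else ((Nat.choose (k - 1) (j - 1) : ℕ) : K) := by
  rcases j with _ | d
  · simp [coeff_one]
  · simp only [Nat.succ_ne_zero, if_false, Nat.add_sub_cancel]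
    rw [h2G, mul_pow, mk_one_pow_eq_mk_choose_add, coeff_X_pow_mul']
    by_cases hk : k = 0
    · subst hk; simp
    · simp only [if_neg hk]
      by_cases hle : d + 1 ≤ k
      · rw [if_pos hle, coeff_mk]
        congr 2
        omega
      · rw [if_neg hle, Nat.choose_eq_zero_of_lt (by omega)]
        simp

/-- the γ power series -/
noncomputable def h2gammaSeries (x : K) : PowerSeries K := PowerSeries.mk fun k => gamma k x

theorem h2_gammaSeries_eq (x : K) : h2gammaSeries x = subst (h2G K) (lamSeries x) := by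
  ext k
  rw [coeff_subst' h2G_hasSubst]
  rw [finsum_eq_sum_of_support_subset (s := Finset.range (k + 1))]
  · simp only [h2gammaSeries, coeff_mk, lamSeries, smul_eq_mul, h2_coeff_G_pow]
    unfold gamma
    by_cases hk : k = 0
    · subst hk
      simp [LambdaOps.lam_zero]
    · rw [if_neg hk]
      apply Finset.sum_congr rfl
      intro j hj
      by_cases hj0 : j = 0
      · subst hj0; simp [hk]
      · simp [hj0, hk, mul_comm]
  · intro d hd
    simp only [Function.mem_support, ne_eq] at hd
    simp only [Finset.coe_range, Set.mem_Iio]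
    by_contra hlt
    apply hd
    rw [h2_coeff_G_pow]
    have hd0 : d ≠ 0 := by omega
    rw [if_neg hd0]
    by_cases hk : k = 0
    · simp [hk]
    · rw [if_neg hk, Nat.choose_eq_zero_of_lt (by omega)]
      simp

theorem h2_gammaSeries_add (x y : K) :
    h2gammaSeries (x + y) = h2gammaSeries x * h2gammaSeries y := by
  rw [h2_gammaSeries_eq, h2_gammaSeries_eq, h2_gammaSeries_eq, h2_lamSeries_add,
    subst_mul h2G_hasSubst]

theorem h2_gamma_add (k : ℕ) (x y : K) :
    gamma k (x + y) = ∑ i ∈ range (k + 1), gamma i x * gamma (k - i) y := by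
  have h := congrArg (coeff k) (h2_gammaSeries_add x y)
  rw [coeff_mul] at h
  simp only [h2gammaSeries, coeff_mk] at h
  rw [h, Finset.Nat.sum_antidiagonal_eq_sum_range_succ (fun i j => gamma i x * gamma j y)]


/-- `λ_{-t}(x)` -/
noncomputable def h2L (x : K) : PowerSeries K := rescale (-1 : K) (lamSeries x)

theorem h2L_add (x y : K) : h2L (x + y) = h2L x * h2L y := by
  simp only [h2L, h2_lamSeries_add, map_mul]

theorem h2_constantCoeff_L (x : K) : constantCoeff (h2L x) = 1 := by
  rw [h2L, ← coeff_zero_eq_constantCoeff_apply, coeff_rescale]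
  simp [h2_constantCoeff_lamSeries]

theorem h2L_mul_inv (x : K) : h2L x * (h2L x).invOfUnit 1 = 1 :=
  mul_invOfUnit _ _ (by simp [h2_constantCoeff_L])

omit [LambdaOps K] in
theorem h2_inv_unique {φ ψ : PowerSeries K} (h : constantCoeff φ = 1) (h' : φ * ψ = 1) :
    φ.invOfUnit 1 = ψ := by
  have h1 : φ.invOfUnit 1 * φ = 1 := invOfUnit_mul _ _ (by simp [h])
  calc φ.invOfUnit 1 = φ.invOfUnit 1 * (φ * ψ) := by rw [h', mul_one]
    _ = (φ.invOfUnit 1 * φ) * ψ := by rw [mul_assoc]
    _ = ψ := by rw [h1, one_mul]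

theorem h2_adamsSeries_eq (P : PosStructure K) (x : K) :
    adamsSeries P x = C (P.aug x : K) - X * derivative K (h2L x) * (h2L x).invOfUnit 1 := rfl

theorem h2_adamsSeries_add (P : PosStructure K) (x y : K) :
    adamsSeries P (x + y) = adamsSeries P x + adamsSeries P y := by
  have hinv : (h2L (x + y)).invOfUnit 1 = (h2L x).invOfUnit 1 * (h2L y).invOfUnit 1 := by
    apply h2_inv_unique (h2_constantCoeff_L _)
    rw [h2L_add]
    calc h2L x * h2L y * ((h2L x).invOfUnit 1 * (h2L y).invOfUnit 1)
        = (h2L x * (h2L x).invOfUnit 1) * (h2L y * (h2L y).invOfUnit 1) := by ring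
      _ = 1 := by rw [h2L_mul_inv, h2L_mul_inv, one_mul]
  rw [h2_adamsSeries_eq, h2_adamsSeries_eq, h2_adamsSeries_eq, hinv, h2L_add, Derivation.leibniz]
  simp only [smul_eq_mul, map_add, Int.cast_add]
  have hx := h2L_mul_inv x
  have hy := h2L_mul_inv y
  calc C ((P.aug x : K)) + C ((P.aug y : K)) -
        X * (h2L x * (derivative K) (h2L y) + h2L y * (derivative K) (h2L x)) *
          ((h2L x).invOfUnit 1 * (h2L y).invOfUnit 1)
      = C ((P.aug x : K)) + C ((P.aug y : K)) -
        (X * (derivative K) (h2L y) * (h2L y).invOfUnit 1 * (h2L x * (h2L x).invOfUnit 1) +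
          X * (derivative K) (h2L x) * (h2L x).invOfUnit 1 * (h2L y * (h2L y).invOfUnit 1)) := by
        ring
    _ = _ := by rw [hx, hy]; ring

theorem h2_adams_add (P : PosStructure K) (j : ℕ) (x y : K) :
    adams P j (x + y) = adams P j x + adams P j y := by
  simp only [adams, h2_adamsSeries_add, map_add]

theorem h2_adams_zero (P : PosStructure K) (j : ℕ) : adams P j (0 : K) = 0 := by
  have h := h2_adams_add P j (0 : K) 0
  rw [add_zero] at h
  exact left_eq_add.mp h

theorem h2_adams_neg (P : PosStructure K) (j : ℕ) (x : K) : adams P j (-x) = - adams P j x := by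
  have h := h2_adams_add P j x (-x)
  rw [add_neg_cancel, h2_adams_zero] at h
  exact (neg_eq_of_add_eq_zero_right h.symm).symm

theorem h2_adams_sub (P : PosStructure K) (j : ℕ) (x y : K) :
    adams P j (x - y) = adams P j x - adams P j y := by
  rw [sub_eq_add_neg, h2_adams_add, h2_adams_neg, sub_eq_add_neg]

theorem h2_adams_multiset_sum (P : PosStructure K) (j : ℕ) (s : Multiset K) :
    adams P j s.sum = (s.map (adams P j)).sum := by
  induction s using Multiset.induction_on with
  | empty => simp [h2_adams_zero]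
  | cons a s ih => simp [h2_adams_add, ih]

theorem h2_lamSeries_line (P : PosStructure K) {u : K} (hu : P.IsLine u) :
    lamSeries u = 1 + C u * X := by
  ext i
  rcases i with _ | _ | i
  · simp [lamSeries, LambdaOps.lam_zero]
  · simp [lamSeries, LambdaOps.lam_one, coeff_one]
  · have h0 : LambdaOps.lam (i + 2) u = 0 := by
      apply P.lam_eq_zero u hu.1
      rw [hu.2]
      push_cast
      omega
    simp [lamSeries, h0, coeff_one]

theorem h2_adamsSeries_line (P : PosStructure K) {u : K} (hu : P.IsLine u) :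
    adamsSeries P u = PowerSeries.mk fun j => u ^ j := by
  have hL : h2L u = 1 - C u * X := by
    rw [h2L, h2_lamSeries_line P hu]
    simp only [map_add, map_one, map_mul, rescale_X]
    have : rescale (-1 : K) (C u) = C u := by
      ext n; simp [coeff_rescale, coeff_C]; split_ifs with h <;> simp [h]
    rw [this]
    simp
    ring
  have hinv : (h2L u).invOfUnit 1 = PowerSeries.mk fun j => u ^ j := by
    apply h2_inv_unique (h2_constantCoeff_L _)
    rw [hL]
    ext n
    rcases n with _ | n
    · simp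
    · rw [sub_mul, one_mul, mul_comm (C u) X, mul_assoc, map_sub, coeff_succ_X_mul, coeff_C_mul]
      simp [coeff_one, pow_succ, mul_comm]
  rw [h2_adamsSeries_eq, hinv, hL, hu.2]
  have hd : derivative K (1 - C u * X) = - C u := by
    rw [map_sub, Derivation.leibniz]
    simp
  rw [hd]
  ext n
  rcases n with _ | n
  · simp
  · have : C ((1 : ℤ) : K) - X * -C u * (PowerSeries.mk fun j => u ^ j) =
        C (1 : K) + X * (C u * PowerSeries.mk fun j => u ^ j) := by
      push_cast; ring
    rw [this, map_add, coeff_succ_X_mul, coeff_C_mul]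
    simp [pow_succ, mul_comm]

theorem h2_adams_line (P : PosStructure K) {u : K} (hu : P.IsLine u) (j : ℕ) :
    adams P j u = u ^ j := by
  rw [adams, h2_adamsSeries_line P hu, coeff_mk]


section Hom

variable {K' : Type u} [CommRing K'] [LambdaOps K']

theorem h2_map_lamSeries {f : K →+* K'} (hf : IsLambdaHom f) (x : K) :
    PowerSeries.map f (lamSeries x) = lamSeries (f x) := by
  ext i
  simp [lamSeries, hf i x]

theorem h2_map_L {f : K →+* K'} (hf : IsLambdaHom f) (x : K) :
    PowerSeries.map f (h2L x) = h2L (f x) := by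
  rw [h2L, h2L, ← h2_map_lamSeries hf, ← rescale_map]
  simp

theorem h2_map_adamsSeries {f : K →+* K'} (hf : IsLambdaHom f) (P : PosStructure K)
    (P' : PosStructure K') (haug : ∀ x, P'.aug (f x) = P.aug x) (x : K) :
    PowerSeries.map f (adamsSeries P x) = adamsSeries P' (f x) := by
  rw [h2_adamsSeries_eq, h2_adamsSeries_eq, map_sub, map_mul, map_mul, map_C, map_X,
    map_intCast, haug, ← h2_map_L hf]
  congr 2
  · congr 1
    ext n
    simp [coeff_derivative]
  · symm
    apply h2_inv_unique
    · rw [h2_map_L hf]; exact h2_constantCoeff_L _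
    · rw [← map_mul, h2L_mul_inv, map_one]

theorem h2_map_adams {f : K →+* K'} (hf : IsLambdaHom f) (P : PosStructure K)
    (P' : PosStructure K') (haug : ∀ x, P'.aug (f x) = P.aug x) (j : ℕ) (x : K) :
    f (adams P j x) = adams P' j (f x) := by
  rw [adams, adams, ← h2_map_adamsSeries hf P P' haug, coeff_map]

end Hom

theorem h2_isLine_one (P : PosStructure K) : P.IsLine (1 : K) := by
  refine ⟨?_, map_one _⟩
  have := P.natCast_mem 1 one_pos
  simpa using this

theorem h2_isLine_mul (P : PosStructure K) {u v : K} (hu : P.IsLine u) (hv : P.IsLine v) :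
    P.IsLine (u * v) :=
  ⟨P.mul_mem u v hu.1 hv.1, by rw [map_mul, hu.2, hv.2, mul_one]⟩

theorem h2_isLine_pow (P : PosStructure K) {u : K} (hu : P.IsLine u) (n : ℕ) :
    P.IsLine (u ^ n) := by
  induction n with
  | zero => rw [pow_zero]; exact h2_isLine_one P
  | succ n ih => rw [pow_succ]; exact h2_isLine_mul P ih hu

theorem h2_adams_sum_lines (P : PosStructure K) (j : ℕ) (s : Multiset K)
    (hs : ∀ u ∈ s, P.IsLine u) : adams P j s.sum = (s.map (· ^ j)).sum := by
  rw [h2_adams_multiset_sum]
  congr 1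
  apply Multiset.map_congr rfl
  intro u hu
  exact h2_adams_line P (hs u hu) j

theorem h2_adams_line_mul_sum (P : PosStructure K) (j : ℕ) {u : K} (hu : P.IsLine u)
    (s : Multiset K) (hs : ∀ v ∈ s, P.IsLine v) :
    adams P j (u * s.sum) = u ^ j * (s.map (· ^ j)).sum := by
  induction s using Multiset.induction_on with
  | empty => simp [h2_adams_zero]
  | cons a s ih =>
    have ha : P.IsLine a := hs a (Multiset.mem_cons_self a s)
    have hs' : ∀ v ∈ s, P.IsLine v := fun v hv => hs v (Multiset.mem_cons_of_mem hv)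
    rw [Multiset.sum_cons, mul_add, h2_adams_add, ih hs', h2_adams_line P (h2_isLine_mul P hu ha),
      Multiset.map_cons, Multiset.sum_cons, mul_add, mul_pow]

theorem h2_adams_sum_mul_sum (P : PosStructure K) (j : ℕ) (s t : Multiset K)
    (hs : ∀ v ∈ s, P.IsLine v) (ht : ∀ v ∈ t, P.IsLine v) :
    adams P j (s.sum * t.sum) = adams P j s.sum * adams P j t.sum := by
  rw [h2_adams_sum_lines P j s hs, h2_adams_sum_lines P j t ht]
  induction s using Multiset.induction_on with
  | empty => simp [h2_adams_zero]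
  | cons a s ih =>
    have ha : P.IsLine a := hs a (Multiset.mem_cons_self a s)
    have hs' : ∀ v ∈ s, P.IsLine v := fun v hv => hs v (Multiset.mem_cons_of_mem hv)
    rw [Multiset.sum_cons, add_mul, h2_adams_add, ih hs', h2_adams_line_mul_sum P j ha t ht,
      Multiset.map_cons, Multiset.sum_cons, add_mul]

theorem h2_lamSeries_sum_lines (P : PosStructure K) (s : Multiset K)
    (hs : ∀ u ∈ s, P.IsLine u) :
    lamSeries s.sum = (s.map fun u => (1 + C u * X : PowerSeries K)).prod := by
  induction s using Multiset.induction_on with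
  | empty => simp [h2_lamSeries_zero]
  | cons a s ih =>
    have ha : P.IsLine a := hs a (Multiset.mem_cons_self a s)
    have hs' : ∀ v ∈ s, P.IsLine v := fun v hv => hs v (Multiset.mem_cons_of_mem hv)
    rw [Multiset.sum_cons, h2_lamSeries_add, ih hs', h2_lamSeries_line P ha, Multiset.map_cons,
      Multiset.prod_cons]

theorem h2_aug_sum_lines (P : PosStructure K) (s : Multiset K) (hs : ∀ u ∈ s, P.IsLine u) :
    P.aug s.sum = (Multiset.card s : ℤ) := by
  induction s using Multiset.induction_on with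
  | empty => simp
  | cons a s ih =>
    have ha : P.IsLine a := hs a (Multiset.mem_cons_self a s)
    have hs' : ∀ v ∈ s, P.IsLine v := fun v hv => hs v (Multiset.mem_cons_of_mem hv)
    rw [Multiset.sum_cons, map_add, ih hs', ha.2, Multiset.card_cons]
    push_cast; ring

theorem h2_aug_lam_sum_lines (P : PosStructure K) (s : Multiset K) (hs : ∀ u ∈ s, P.IsLine u)
    (i : ℕ) : P.aug (LambdaOps.lam i s.sum) = ((Multiset.card s).choose i : ℤ) := by
  have h1 : PowerSeries.map P.aug (lamSeries s.sum) = (1 + X : PowerSeries ℤ) ^ (Multiset.card s) := by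
    rw [h2_lamSeries_sum_lines P s hs, map_multiset_prod, Multiset.map_map]
    rw [← Multiset.prod_replicate, ← Multiset.map_const']
    congr 1
    apply Multiset.map_congr rfl
    intro u hu
    simp [(hs u hu).2]
  have h2 := congrArg (coeff i) h1
  rw [coeff_map] at h2
  simp only [lamSeries, coeff_mk] at h2
  rw [h2]
  have : ((1 + X : PowerSeries ℤ) ^ (Multiset.card s)) =
      (((1 + Polynomial.X : Polynomial ℤ) ^ (Multiset.card s) : Polynomial ℤ) : PowerSeries ℤ) := by
    simp
  rw [this, Polynomial.coeff_coe, Polynomial.coeff_one_add_X_pow]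

theorem h2_aug_lam_eq_choose (P : PosStructure K) (hK : HasSplitting K P) (e : K)
    (he : e ∈ P.pos) (i : ℕ) :
    P.aug (LambdaOps.lam i e) = ((P.aug e).toNat.choose i : ℤ) := by
  obtain ⟨C, hKC, hC⟩ := hK
  obtain ⟨L', _, f, hf, s, hs, hsum⟩ := hC ⟨K, P⟩ hKC e he
  have h1 : P.aug (LambdaOps.lam i e) = L'.posStr.aug (LambdaOps.lam i s.sum) := by
    rw [hsum, ← hf.isLambdaHom i e]
    exact (hf.aug_comp _).symm
  have h2 : P.aug e = (Multiset.card s : ℤ) := by
    rw [← h2_aug_sum_lines L'.posStr s hs, hsum]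
    exact (hf.aug_comp _).symm
  rw [h1, h2, h2_aug_lam_sum_lines L'.posStr s hs]
  simp


theorem h2_adams_one (P : PosStructure K) (j : ℕ) : adams P j (1 : K) = 1 := by
  rw [h2_adams_line P (h2_isLine_one P), one_pow]

theorem h2_isLine_map {K' : Type u} [CommRing K'] [LambdaOps K'] {P : PosStructure K}
    {P' : PosStructure K'} {f : K →+* K'} (hf : IsExtension P P' f) {u : K} (hu : P.IsLine u) :
    P'.IsLine (f u) :=
  ⟨hf.pos_subset u hu.1, by rw [hf.aug_comp, hu.2]⟩

theorem h2_adams_mul_pos (P : PosStructure K) (hK : HasSplitting K P) (j : ℕ) (e e' : K)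
    (he : e ∈ P.pos) (he' : e' ∈ P.pos) :
    adams P j (e * e') = adams P j e * adams P j e' := by
  obtain ⟨C, hKC, hC⟩ := hK
  obtain ⟨L1, hL1, f1, hf1, s1, hs1, hsum1⟩ := hC ⟨K, P⟩ hKC e he
  obtain ⟨L2, _, f2, hf2, s2, hs2, hsum2⟩ := hC L1 hL1 (f1 e') (hf1.pos_subset e' he')
  have hinj : Function.Injective (f2.comp f1) := hf2.injective.comp hf1.injective
  have hlam : IsLambdaHom (f2.comp f1) := fun i x => by
    change f2 (f1 _) = LambdaOps.lam i (f2 (f1 x))
    rw [hf1.isLambdaHom, hf2.isLambdaHom]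
  have haug : ∀ x, L2.posStr.aug ((f2.comp f1) x) = P.aug x := fun x => by
    change L2.posStr.aug (f2 (f1 x)) = _
    rw [hf2.aug_comp, hf1.aug_comp]
  have hcomm := h2_map_adams hlam P L2.posStr haug j
  apply hinj
  rw [map_mul, hcomm, hcomm, hcomm, map_mul]
  have h1 : (f2.comp f1) e = (s1.map f2).sum := by
    change f2 (f1 e) = _
    rw [← hsum1, map_multiset_sum]
  have hs1' : ∀ v ∈ s1.map f2, L2.posStr.IsLine v := by
    intro v hv
    obtain ⟨u, hu, rfl⟩ := Multiset.mem_map.1 hv
    exact h2_isLine_map hf2 (hs1 u hu)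
  have h2 : (f2.comp f1) e' = s2.sum := hsum2.symm
  rw [h1, h2]
  exact h2_adams_sum_mul_sum L2.posStr j _ _ hs1' hs2

theorem h2_adams_mul (P : PosStructure K) (hK : HasSplitting K P) (j : ℕ) (x y : K) :
    adams P j (x * y) = adams P j x * adams P j y := by
  obtain ⟨e1, e2, he1, he2, rfl⟩ := P.exists_sub x
  obtain ⟨e3, e4, he3, he4, rfl⟩ := P.exists_sub y
  have : (e1 - e2) * (e3 - e4) = e1 * e3 - e1 * e4 - e2 * e3 + e2 * e4 := by ring
  rw [this, h2_adams_add, h2_adams_sub, h2_adams_sub, h2_adams_sub, h2_adams_sub,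
    h2_adams_mul_pos P hK j _ _ he1 he3, h2_adams_mul_pos P hK j _ _ he1 he4,
    h2_adams_mul_pos P hK j _ _ he2 he3, h2_adams_mul_pos P hK j _ _ he2 he4]
  ring

/-- the Adams operation as a ring homomorphism -/
noncomputable def h2adamsHom (P : PosStructure K) (hK : HasSplitting K P) (j : ℕ) : K →+* K where
  toFun := adams P j
  map_one' := h2_adams_one P j
  map_mul' := h2_adams_mul P hK j
  map_zero' := h2_adams_zero P j
  map_add' := h2_adams_add P j

theorem h2_adams_adams_pos (P : PosStructure K) (hK : HasSplitting K P) (i j : ℕ) (e : K)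
    (he : e ∈ P.pos) : adams P i (adams P j e) = adams P (i * j) e := by
  obtain ⟨C, hKC, hC⟩ := hK
  obtain ⟨L1, _, f1, hf1, s1, hs1, hsum1⟩ := hC ⟨K, P⟩ hKC e he
  have hcomm := fun j x => h2_map_adams hf1.isLambdaHom P L1.posStr hf1.aug_comp j x
  apply hf1.injective
  rw [hcomm, hcomm, hcomm, ← hsum1, h2_adams_sum_lines L1.posStr j s1 hs1,
    h2_adams_sum_lines L1.posStr (i * j) s1 hs1, h2_adams_sum_lines L1.posStr i, Multiset.map_map]
  · congr 1
    apply Multiset.map_congr rfl
    intro u _
    simp only [Function.comp_apply]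
    rw [← pow_mul, mul_comm]
  · intro v hv
    obtain ⟨u, hu, rfl⟩ := Multiset.mem_map.1 hv
    exact h2_isLine_pow L1.posStr (hs1 u hu) j

theorem h2_adams_adams (P : PosStructure K) (hK : HasSplitting K P) (i j : ℕ) (x : K) :
    adams P i (adams P j x) = adams P (i * j) x := by
  obtain ⟨e1, e2, he1, he2, rfl⟩ := P.exists_sub x
  rw [h2_adams_sub, h2_adams_sub, h2_adams_sub, h2_adams_adams_pos P hK i j e1 he1,
    h2_adams_adams_pos P hK i j e2 he2]


theorem h2_lamSeries_natCast (P : PosStructure K) (n : ℕ) :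
    lamSeries ((n : ℕ) : K) = (1 + X : PowerSeries K) ^ n := by
  induction n with
  | zero => simp [h2_lamSeries_zero]
  | succ n ih =>
    rw [Nat.cast_succ, h2_lamSeries_add, ih, h2_lamSeries_line P (h2_isLine_one P), pow_succ]
    simp

omit [LambdaOps K] in
theorem h2_one_add_G : (1 : PowerSeries K) + h2G K = PowerSeries.mk 1 := by
  ext n
  rcases n with _ | n
  · simp [h2G]
  · simp [h2G, coeff_one, coeff_succ_X_mul]

omit [LambdaOps K] in
theorem h2_G_mul_one_sub : h2G K * (1 - X) = X := by
  rw [h2G, mul_assoc, mk_one_mul_one_sub_eq_one, mul_one]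

/-- the polynomial `Σ λ^i(e) X^i (1-X)^(m-i)` -/
noncomputable def h2Q (e : K) (m : ℕ) : Polynomial K :=
  ∑ i ∈ range (m + 1), Polynomial.C (LambdaOps.lam i e) * Polynomial.X ^ i *
    (1 - Polynomial.X) ^ (m - i)

theorem h2_gammaSeries_sub_natCast (P : PosStructure K) (e : K) (he : e ∈ P.pos) :
    h2gammaSeries (e - (((P.aug e).toNat : ℕ) : K)) =
      ((h2Q e (P.aug e).toNat : Polynomial K) : PowerSeries K) := by
  set m := (P.aug e).toNat with hm
  have hpoly : lamSeries e =
      ((∑ i ∈ range (m + 1), Polynomial.C (LambdaOps.lam i e) * Polynomial.X ^ i : Polynomial K) :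
        PowerSeries K) := by
    ext k
    rw [Polynomial.coeff_coe, Polynomial.finsetSum_coeff]
    simp only [Polynomial.coeff_C_mul, Polynomial.coeff_X_pow, mul_ite, mul_one, mul_zero,
      Finset.sum_ite_eq, Finset.mem_range, lamSeries, coeff_mk]
    split_ifs with h
    · rfl
    · apply P.lam_eq_zero e he
      have := P.aug_pos e he
      omega
  have h1 : lamSeries (e - ((m : ℕ) : K)) * (1 + X : PowerSeries K) ^ m = lamSeries e := by
    rw [← h2_lamSeries_natCast P, ← h2_lamSeries_add, sub_add_cancel]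
  have h2 : subst (h2G K) (lamSeries (e - ((m : ℕ) : K))) * (PowerSeries.mk 1) ^ m =
      subst (h2G K) (lamSeries e) := by
    rw [← h1, subst_mul h2G_hasSubst, subst_pow h2G_hasSubst, subst_add h2G_hasSubst,
      subst_X h2G_hasSubst, ← h2_one_add_G]
    congr 3
    rw [← coe_substAlgHom h2G_hasSubst, map_one]
  have h3 : h2gammaSeries (e - ((m : ℕ) : K)) =
      subst (h2G K) (lamSeries e) * (1 - X) ^ m := by
    rw [← h2, h2_gammaSeries_eq, mul_assoc, ← mul_pow, mk_one_mul_one_sub_eq_one, one_pow, mul_one]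
  rw [h3, hpoly, subst_coe h2G_hasSubst, h2Q, ← Polynomial.coeToPowerSeries.ringHom_apply]
  simp only [map_sum, map_mul, map_pow, Polynomial.aeval_C, Polynomial.aeval_X, map_sub, map_one]
  simp only [Polynomial.coeToPowerSeries.ringHom_apply, Polynomial.coe_C, Polynomial.coe_X]
  rw [Finset.sum_mul]
  apply Finset.sum_congr rfl
  intro i hi
  have hi' : i ≤ m := by
    have := Finset.mem_range.1 hi; omega
  have : (1 - X : PowerSeries K) ^ m = (1 - X) ^ i * (1 - X) ^ (m - i) := by
    rw [← pow_add]; congr 1; omega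
  rw [this]
  have hG := h2_G_mul_one_sub (K := K)
  calc (algebraMap K (PowerSeries K)) (LambdaOps.lam i e) * h2G K ^ i *
        ((1 - X) ^ i * (1 - X) ^ (m - i))
      = (algebraMap K (PowerSeries K)) (LambdaOps.lam i e) * (h2G K * (1 - X)) ^ i *
          (1 - X) ^ (m - i) := by rw [mul_pow]; ring
    _ = _ := by rw [hG]; rfl

theorem h2_gamma_sub_natCast (P : PosStructure K) (e : K) (he : e ∈ P.pos) (i : ℕ) :
    gamma i (e - (((P.aug e).toNat : ℕ) : K)) = (h2Q e (P.aug e).toNat).coeff i := by
  have h := congrArg (coeff i) (h2_gammaSeries_sub_natCast P e he)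
  rw [Polynomial.coeff_coe] at h
  rw [← h, h2gammaSeries, coeff_mk]


section Reflect

open Polynomial

omit [LambdaOps K] in
theorem h2_reflect_sum {ι : Type*} (N : ℕ) (s : Finset ι) (f : ι → Polynomial K) :
    reflect N (∑ i ∈ s, f i) = ∑ i ∈ s, reflect N (f i) := by
  classical
  induction s using Finset.induction_on with
  | empty => simp
  | insert a s ha ih => rw [Finset.sum_insert ha, Finset.sum_insert ha, reflect_add, ih]

omit [LambdaOps K] in
theorem h2_natDegree_one_sub_X_pow_le (n : ℕ) :
    ((1 - Polynomial.X : Polynomial K) ^ n).natDegree ≤ n := by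
  refine (natDegree_pow_le).trans ?_
  have : (1 - Polynomial.X : Polynomial K).natDegree ≤ 1 := by
    refine (natDegree_sub_le _ _).trans ?_
    simp [natDegree_X_le]
  calc n * (1 - Polynomial.X : Polynomial K).natDegree ≤ n * 1 := Nat.mul_le_mul_left n this
    _ = n := mul_one n

omit [LambdaOps K] in
theorem h2_reflect_one_sub_X_pow (n : ℕ) :
    reflect n ((1 - Polynomial.X : Polynomial K) ^ n) = (Polynomial.X - 1) ^ n := by
  induction n with
  | zero => simp [reflect_one]
  | succ n ih =>
    rw [pow_succ, reflect_mul _ _ (h2_natDegree_one_sub_X_pow_le n) (G := 1), ih, pow_succ]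
    · congr 1
      rw [reflect_sub, reflect_one, reflect_one_X, pow_one]
    · refine (natDegree_sub_le _ _).trans ?_
      simp [natDegree_X_le]

omit [LambdaOps K] in
theorem h2_reflect_term (a : K) {i m : ℕ} (hi : i ≤ m) :
    reflect m (Polynomial.C a * Polynomial.X ^ i * (1 - Polynomial.X) ^ (m - i)) =
      Polynomial.C a * (Polynomial.X - 1) ^ (m - i) := by
  have hm : m = i + (m - i) := by omega
  conv_lhs => rw [hm]
  have hdeg : (Polynomial.C a * Polynomial.X ^ i : Polynomial K).natDegree ≤ i := by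
    refine (natDegree_C_mul_le _ _).trans ?_
    exact natDegree_X_pow_le i
  have hsub : i + (m - i) - i = m - i := by omega
  rw [hsub, reflect_mul _ _ hdeg (h2_natDegree_one_sub_X_pow_le (m - i)),
    h2_reflect_one_sub_X_pow, reflect_C_mul_X_pow, revAt_le le_rfl]
  simp

theorem h2_reflect_Q (e : K) (m : ℕ) :
    reflect m (h2Q e m) =
      ∑ i ∈ range (m + 1), Polynomial.C (LambdaOps.lam i e) * (Polynomial.X - 1) ^ (m - i) := by
  rw [h2Q, h2_reflect_sum]
  apply Finset.sum_congr rfl
  intro i hi
  have hi' : i ≤ m := by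
    have := Finset.mem_range.1 hi; omega
  exact h2_reflect_term _ hi'

theorem h2_natDegree_Q_le (e : K) (m : ℕ) : (h2Q e m).natDegree ≤ m := by
  rw [h2Q]
  apply natDegree_sum_le_of_forall_le
  intro i hi
  have hi' : i ≤ m := by
    have := Finset.mem_range.1 hi; omega
  refine (natDegree_mul_le).trans ?_
  have h1 : (Polynomial.C (LambdaOps.lam i e) * Polynomial.X ^ i : Polynomial K).natDegree ≤ i :=
    (natDegree_C_mul_le _ _).trans (natDegree_X_pow_le i)
  have h2 := h2_natDegree_one_sub_X_pow_le (K := K) (m - i)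
  omega

omit [LambdaOps K] in
theorem h2_reflect_eq_sum (p : Polynomial K) (m : ℕ) (hp : p.natDegree ≤ m) :
    reflect m p = ∑ i ∈ range (m + 1), Polynomial.C (p.coeff i) * Polynomial.X ^ (m - i) := by
  conv_lhs => rw [p.as_sum_range_C_mul_X_pow' (n := m + 1) (by omega)]
  rw [h2_reflect_sum]
  apply Finset.sum_congr rfl
  intro i hi
  have hi' : i ≤ m := by
    have := Finset.mem_range.1 hi; omega
  rw [reflect_C_mul_X_pow, revAt_le hi']

theorem h2_gamma_sub_aug_identity (P : PosStructure K) (e : K) (he : e ∈ P.pos) :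
    (∑ i ∈ range ((P.aug e).toNat + 1),
        Polynomial.C (gamma i (e - ((P.aug e).toNat : K))) * Polynomial.X ^ ((P.aug e).toNat - i)) =
      ∑ i ∈ range ((P.aug e).toNat + 1),
        Polynomial.C (LambdaOps.lam i e) * (Polynomial.X - 1) ^ ((P.aug e).toNat - i) := by
  rw [← h2_reflect_Q, h2_reflect_eq_sum _ _ (h2_natDegree_Q_le e _)]
  apply Finset.sum_congr rfl
  intro i _
  rw [h2_gamma_sub_natCast P e he]

end Reflect

end LambdaRing
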