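import Groth.Prelude.Def_LambdaRing
import Mathlib
import Groth.Agent.Lib.helper2.Lam

/-! More helper lemmas on λ-rings (helper2). -/

universe u

open PowerSeries Finset

namespace LambdaRing

variable {K : Type u} [CommRing K] [LambdaOps K]

theorem h2_isUnit_of_isLine (P : PosStructure K) {v : K} (hv : P.IsLine v) : IsUnit v := by
  have := P.isUnit_lam v hv.1
  rw [hv.2] at this
  simpa [LambdaOps.lam_one] using this

/-- If `e + v = r + 1` with `e` positive of augmentation `r` and `v` a line element, then
`(v - 1) ^ (r + 1) = 0`. -/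
theorem h2_line_sub_one_pow_eq_zero (P : PosStructure K) {v e : K} (hv : P.IsLine v)
    (he : e ∈ P.pos) (h : e + v = (((P.aug e).toNat + 1 : ℕ) : K)) :
    (v - 1) ^ ((P.aug e).toNat + 1) = 0 := by
  set r := (P.aug e).toNat with hr
  have hser : lamSeries e * (1 + C v * X) = (1 + X) ^ (r + 1) := by
    rw [← h2_lamSeries_line P hv, ← h2_lamSeries_add, h, h2_lamSeries_natCast P]
  let L : Polynomial K := ∑ i ∈ range (r + 1), Polynomial.monomial i (LambdaOps.lam i e)
  have hL : (L : PowerSeries K) = lamSeries e := by
    ext k
    rw [Polynomial.coeff_coe, Polynomial.finset_sum_coeff]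
    simp only [Polynomial.coeff_monomial, lamSeries, coeff_mk]
    by_cases hk : k < r + 1
    · rw [Finset.sum_eq_single k]
      · simp
      · intro b _ hb
        rw [if_neg hb]
      · intro hk'
        exact absurd (Finset.mem_range.mpr hk) hk'
    · rw [Finset.sum_eq_zero]
      · symm
        apply P.lam_eq_zero e he
        have h0 : 0 < P.aug e := P.aug_pos e he
        omega
      · intro b hb
        rw [Finset.mem_range] at hb
        rw [if_neg (by omega)]
  have hpoly : L * (1 + Polynomial.C v * Polynomial.X) = (1 + Polynomial.X) ^ (r + 1) := by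
    apply Polynomial.coe_injective
    rw [Polynomial.coe_mul, Polynomial.coe_add, Polynomial.coe_one, Polynomial.coe_mul,
      Polynomial.coe_C, Polynomial.coe_X, hL, hser, Polynomial.coe_pow, Polynomial.coe_add,
      Polynomial.coe_one, Polynomial.coe_X]
  obtain ⟨v', hv'⟩ := (h2_isUnit_of_isLine P hv).exists_right_inv
  have hev := congrArg (Polynomial.eval (-v')) hpoly
  simp only [Polynomial.eval_mul, Polynomial.eval_add, Polynomial.eval_one, Polynomial.eval_C,
    Polynomial.eval_X, Polynomial.eval_pow] at hev
  have h0 : (1 : K) + v * -v' = 0 := by rw [mul_neg, hv']; ring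
  rw [h0, mul_zero] at hev
  have : (v - 1) ^ (r + 1) = v ^ (r + 1) * (1 + -v') ^ (r + 1) := by
    rw [← mul_pow]
    congr 1
    rw [mul_add, mul_one, mul_neg, hv']
    ring
  rw [this, ← hev, mul_zero]

end LambdaRing
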