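import Mathlib

/-! Helper lemmas on positive definite integral lattices (helper2). -/

set_option autoImplicit false

namespace Groth.Agent.Lib.helper2

open Module

/-- For a positive definite symmetric integral form on a finite free `ℤ`-module, every functional
is, up to a nonzero integer multiple, represented by an element. -/
theorem h2_exists_repr_of_posDef {M : Type*} [AddCommGroup M] [Module.Finite ℤ M] [Module.Free ℤ M]
    (β : LinearMap.BilinForm ℤ M) (hs : β.IsSymm) (hp : ∀ x, x ≠ 0 → 0 < β x x)
    (ψ : Module.Dual ℤ M) : ∃ (a : ℤ) (m : M), a ≠ 0 ∧ ∀ m', a * ψ m' = β m m' := by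
  classical
  let b := Module.Free.chooseBasis ℤ M
  have hnd : β.Nondegenerate := by
    constructor
    · intro m hm
      by_contra hne
      have := hp m hne
      rw [hm m] at this
      exact lt_irrefl _ this
    · intro m hm
      by_contra hne
      have := hp m hne
      rw [hm m] at this
      exact lt_irrefl _ this
  have hdet : (LinearMap.BilinForm.toMatrix b β).det ≠ 0 :=
    (LinearMap.BilinForm.nondegenerate_iff_det_ne_zero b).mp hnd
  set G := LinearMap.BilinForm.toMatrix b β with hG
  have hGij : ∀ i j, G i j = β (b i) (b j) := fun i j => LinearMap.BilinForm.toMatrix_apply b β i j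
  let v : Module.Free.ChooseBasisIndex ℤ M → ℤ := fun j => ψ (b j)
  let t := G.adjugate.mulVec v
  have key : G.mulVec t = G.det • v := by
    change G.mulVec (G.adjugate.mulVec v) = _
    rw [Matrix.mulVec_mulVec, Matrix.mul_adjugate, Matrix.smul_mulVec, Matrix.one_mulVec]
  refine ⟨G.det, ∑ i, t i • b i, hdet, ?_⟩
  intro m'
  have hlin : G.det • ψ = β (∑ i, t i • b i) := by
    apply b.ext
    intro j
    rw [LinearMap.smul_apply, map_sum, LinearMap.sum_apply]
    have hj := congrFun key j
    simp only [Matrix.mulVec, dotProduct, Pi.smul_apply, smul_eq_mul] at hj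
    rw [smul_eq_mul]
    change G.det * v j = _
    rw [← hj]
    apply Finset.sum_congr rfl
    intro i _
    rw [map_smul, LinearMap.smul_apply, smul_eq_mul, hGij, mul_comm]
    congr 1
    exact (hs.eq (b i) (b j)).symm ▸ rfl
  have := congrArg (fun f => f m') hlin
  simpa using this

/-- A saturated submodule of a finite free `ℤ`-module is a direct summand: functionals extend. -/
theorem h2_exists_extension_of_saturated {L : Type*} [AddCommGroup L] [Module.Finite ℤ L]
    (N : Submodule ℤ L) (hN : ∀ (c : ℤ) (x : L), c ≠ 0 → c • x ∈ N → x ∈ N)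
    (ψ : Module.Dual ℤ ↥N) : ∃ φ : Module.Dual ℤ L, φ ∘ₗ N.subtype = ψ := by
  classical
  have : Module.IsTorsionFree ℤ (L ⧸ N) := by
    apply Module.IsTorsionFree.of_smul_eq_zero
    intro r q hq
    by_cases hr : r = 0
    · exact Or.inl hr
    · right
      obtain ⟨x, rfl⟩ := Submodule.Quotient.mk_surjective N q
      rw [← Submodule.Quotient.mk_smul, Submodule.Quotient.mk_eq_zero] at hq
      rw [Submodule.Quotient.mk_eq_zero]
      exact hN r x hr hq
  have : Module.Free ℤ (L ⧸ N) := Module.free_of_finite_type_torsion_free'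
  obtain ⟨s, hs⟩ := Module.projective_lifting_property N.mkQ (LinearMap.id : (L ⧸ N) →ₗ[ℤ] (L ⧸ N))
    (Submodule.mkQ_surjective N)
  have hs' : ∀ q, N.mkQ (s q) = q := fun q => by
    have := congrArg (fun f => f q) hs
    simpa using this
  let ρ : L →ₗ[ℤ] L := LinearMap.id - s ∘ₗ N.mkQ
  have hρ : ∀ x, ρ x = x - s (N.mkQ x) := fun x => rfl
  have hmem : ∀ x : L, ρ x ∈ N := by
    intro x
    rw [← Submodule.Quotient.mk_eq_zero, hρ, Submodule.Quotient.mk_sub]
    change N.mkQ x - N.mkQ (s (N.mkQ x)) = 0
    rw [hs', sub_self]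
  let r : L →ₗ[ℤ] ↥N := LinearMap.codRestrict N ρ hmem
  refine ⟨ψ ∘ₗ r, ?_⟩
  ext x
  rw [LinearMap.comp_apply, LinearMap.comp_apply]
  congr 1
  apply Subtype.ext
  change ρ (N.subtype x) = x
  rw [hρ]
  have : N.mkQ (N.subtype x) = 0 := by
    rw [Submodule.mkQ_apply, Submodule.Quotient.mk_eq_zero]
    exact x.2
  rw [this, map_zero, sub_zero]
  rfl

end Groth.Agent.Lib.helper2
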