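import Mathlib

/-!
# helper2: Mittag-Leffler systems of abelian groups indexed by ℕ
-/

open CategoryTheory Opposite

universe u

namespace H2ML

variable (F : ℕᵒᵖ ⥤ AddCommGrpCat.{u})

/-- transition map -/
def r {a b : ℕ} (h : a ≤ b) : F.obj (op b) →+ F.obj (op a) := (F.map (homOfLE h).op).hom

lemma r_r {a b c : ℕ} (h : a ≤ b) (h' : b ≤ c) (z : F.obj (op c)) :
    r F h (r F h' z) = r F (h.trans h') z := by
  have e : F.map (homOfLE h').op ≫ F.map (homOfLE h).op = F.map (homOfLE (h.trans h')).op := by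
    rw [← F.map_comp]
    rfl
  exact congrArg (fun m => m.hom z) e

/-- image of a transition map -/
def Im {a b : ℕ} (h : a ≤ b) : AddSubgroup (F.obj (op a)) := (r F h).range

lemma Im_anti {a b c : ℕ} (h : a ≤ b) (h' : b ≤ c) : Im F (h.trans h') ≤ Im F h := by
  rintro x ⟨z, rfl⟩
  exact ⟨r F h' z, r_r F h h' z⟩

/-- images stabilise -/
def Stab (p : ℕ) : Prop :=
  ∃ k₀, ∃ h₀ : p ≤ k₀, ∀ k (hk : k₀ ≤ k), Im F (h₀.trans hk) = Im F h₀

lemma ml_iff : (F ⋙ forget AddCommGrpCat).IsMittagLeffler ↔ ∀ p, Stab F p := by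
  constructor
  · intro h p
    obtain ⟨i, f, hf⟩ := h (op p)
    have h₀ : p ≤ i.unop := leOfHom f.unop
    have ef : f = (homOfLE h₀).op := Subsingleton.elim _ _
    subst ef
    refine ⟨i.unop, h₀, fun k hk => le_antisymm (Im_anti F h₀ hk) ?_⟩
    rintro x ⟨z, rfl⟩
    obtain ⟨w, hw⟩ := hf (homOfLE (h₀.trans hk)).op ⟨z, rfl⟩
    exact ⟨w, hw⟩
  · intro h j
    obtain ⟨k₀, h₀, hk₀⟩ := h j.unop
    refine ⟨op k₀, (homOfLE h₀).op, fun k g => ?_⟩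
    have hpk : j.unop ≤ k.unop := leOfHom g.unop
    have eg : g = (homOfLE hpk).op := Subsingleton.elim _ _
    subst eg
    rintro x ⟨z, rfl⟩
    have h1 : r F h₀ z ∈ Im F (h₀.trans (le_max_right k.unop k₀)) := by
      rw [hk₀ _ (le_max_right _ _)]
      exact ⟨z, rfl⟩
    obtain ⟨w, hw⟩ := Im_anti F hpk (le_max_left k.unop k₀) h1
    exact ⟨w, hw⟩

lemma stab_succ (p : ℕ) (ih : Stab F p)
    (h2 : ∃ k₀ : ℕ, ∃ h₀ : p + 1 ≤ k₀, ∀ (k : ℕ) (hk : k₀ ≤ k),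
      Im F (h₀.trans hk) ⊓ (r F (Nat.le_succ p)).ker = Im F h₀ ⊓ (r F (Nat.le_succ p)).ker) :
    Stab F (p + 1) := by
  obtain ⟨k₁, h₁, hk₁⟩ := ih
  obtain ⟨k₂, h₂, hk₂⟩ := h2
  have hm2 : k₂ ≤ max k₁ k₂ := le_max_right _ _
  have hm1 : k₁ ≤ max k₁ k₂ := le_max_left _ _
  have hK : p + 1 ≤ max k₁ k₂ := h₂.trans hm2
  refine ⟨max k₁ k₂, hK, fun k hk => le_antisymm (Im_anti F hK hk) ?_⟩
  rintro x ⟨y, rfl⟩
  have hp : p ≤ p + 1 := Nat.le_succ p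
  -- image in A_p
  have h3 : r F hp (r F hK y) ∈ Im F (h₁.trans (hm1.trans hk)) := by
    rw [hk₁ k (hm1.trans hk), ← hk₁ _ hm1, r_r]
    exact ⟨y, rfl⟩
  obtain ⟨z, hz⟩ := h3
  -- x' := r (p+1 ≤ k) z
  have hz' : r F hp (r F (hK.trans hk) z) = r F hp (r F hK y) := by
    rw [r_r]
    exact hz
  have hker : r F hK y - r F (hK.trans hk) z ∈ (r F hp).ker := by
    rw [AddMonoidHom.mem_ker, map_sub, hz', sub_self]
  have him : r F hK y - r F (hK.trans hk) z ∈ Im F hK := by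
    refine ⟨y - r F hk z, ?_⟩
    rw [map_sub, r_r]
  have h4 : r F hK y - r F (hK.trans hk) z ∈ Im F hK ⊓ (r F hp).ker := ⟨him, hker⟩
  have e1 : Im F hK ⊓ (r F hp).ker = Im F (hK.trans hk) ⊓ (r F hp).ker := by
    rw [hk₂ _ hm2, ← hk₂ k (hm2.trans hk)]
  rw [e1] at h4
  have h5 : r F (hK.trans hk) z ∈ Im F (hK.trans hk) := ⟨z, rfl⟩
  have h6 := (Im F (hK.trans hk)).add_mem h4.1 h5
  rwa [sub_add_cancel] at h6

end H2ML
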