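import Mathlib
import Groth.Prelude.Def_EGA41

/-! `p`-bases: presentation `B = C[X_i]/(X_i^p - c_i)` and lifting of algebra maps. -/

universe u v w

section
variable {C : Type v} [CommRing C] {ι : Type u}

theorem h2_pmon_reduce (p : ℕ) (hp : 0 < p) {Q : Type w} [CommRing Q] [Algebra C Q] (ξ : ι → Q)
    (c : ι → C) (hc : ∀ i, ξ i ^ p = algebraMap C Q (c i)) (e : ι →₀ ℕ) :
    ∃ (r : C) (e' : ι →₀ ℕ), (∀ i, e' i < p) ∧
      (e.prod fun i n => ξ i ^ n) = r • (e'.prod fun i n => ξ i ^ n) := by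
  refine ⟨e.prod fun i n => c i ^ (n / p), e.mapRange (· % p) (Nat.zero_mod p), ?_, ?_⟩
  · intro i
    rw [Finsupp.mapRange_apply]
    exact Nat.mod_lt _ hp
  · rw [Finsupp.prod_mapRange_index (fun i => pow_zero _), Algebra.smul_def, map_finsuppProd,
      ← Finsupp.prod_mul]
    refine Finsupp.prod_congr (fun i _ => ?_)
    rw [map_pow, ← hc, ← pow_mul, ← pow_add, Nat.div_add_mod]

theorem h2_pmon_span (p : ℕ) (hp : 0 < p) {Q : Type w} [CommRing Q] [Algebra C Q] (ξ : ι → Q)
    (c : ι → C) (hc : ∀ i, ξ i ^ p = algebraMap C Q (c i))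
    (hgen : Algebra.adjoin C (Set.range ξ) = ⊤) :
    Submodule.span C (Set.range fun e : {e : ι →₀ ℕ // ∀ i, e i < p} =>
      e.1.prod fun i n => ξ i ^ n) = ⊤ := by
  rw [eq_top_iff]
  rintro y -
  have hy : y ∈ (MvPolynomial.aeval ξ : MvPolynomial ι C →ₐ[C] Q).range := by
    rw [← Algebra.adjoin_range_eq_range_aeval, hgen]; trivial
  obtain ⟨f, hf⟩ := hy
  have hf' : MvPolynomial.aeval ξ f = y := hf
  rw [← hf']
  clear hf hf'
  induction f using MvPolynomial.induction_on' with
  | monomial e a =>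
    rw [MvPolynomial.aeval_monomial]
    obtain ⟨r, e', he', h⟩ := h2_pmon_reduce p hp ξ c hc e
    rw [h, Algebra.algebraMap_eq_smul_one, smul_mul_assoc, one_mul, smul_smul]
    exact Submodule.smul_mem _ _ (Submodule.subset_span ⟨⟨e', he'⟩, rfl⟩)
  | add f g hf hg => rw [map_add]; exact Submodule.add_mem _ hf hg

theorem h2_pmon_gen {B : Type w} [CommRing B] [Algebra C B] (p : ℕ) (x : ι → B)
    (hsp : Submodule.span C (Set.range fun e : {e : ι →₀ ℕ // ∀ i, e i < p} =>
      e.1.prod fun i n => x i ^ n) = ⊤) :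
    Algebra.adjoin C (Set.range x) = ⊤ := by
  rw [eq_top_iff]
  rintro y -
  have hy : y ∈ Submodule.span C (Set.range fun e : {e : ι →₀ ℕ // ∀ i, e i < p} =>
      e.1.prod fun i n => x i ^ n) := by rw [hsp]; trivial
  have hle : Submodule.span C (Set.range fun e : {e : ι →₀ ℕ // ∀ i, e i < p} =>
      e.1.prod fun i n => x i ^ n) ≤ Subalgebra.toSubmodule (Algebra.adjoin C (Set.range x)) := by
    rw [Submodule.span_le]
    rintro _ ⟨e, rfl⟩
    exact Subalgebra.prod_mem _ (fun i _ => Subalgebra.pow_mem _ (Algebra.subset_adjoin (Set.mem_range_self i)) _)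
  exact hle hy

theorem h2_plift_unique {B : Type w} [CommRing B] [Algebra C B] (p : ℕ) (x : ι → B)
    (hsp : Submodule.span C (Set.range fun e : {e : ι →₀ ℕ // ∀ i, e i < p} =>
      e.1.prod fun i n => x i ^ n) = ⊤)
    {E : Type*} [Semiring E] [Algebra C E] (v w : B →ₐ[C] E) (h : ∀ i, v (x i) = w (x i)) :
    v = w := by
  refine AlgHom.ext_of_adjoin_eq_top (h2_pmon_gen p x hsp) ?_
  rintro _ ⟨i, rfl⟩
  exact h i

theorem h2_plift {B : Type w} [CommRing B] [Algebra C B] (p : ℕ) (hp : 0 < p) (x : ι → B)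
    (c : ι → C) (hc : ∀ i, x i ^ p = algebraMap C B (c i))
    (hli : LinearIndependent C (fun e : {e : ι →₀ ℕ // ∀ i, e i < p} =>
      e.1.prod fun i n => x i ^ n))
    (hsp : Submodule.span C (Set.range fun e : {e : ι →₀ ℕ // ∀ i, e i < p} =>
      e.1.prod fun i n => x i ^ n) = ⊤)
    {E : Type*} [CommRing E] [Algebra C E] (z : ι → E)
    (hz : ∀ i, z i ^ p = algebraMap C E (c i)) :
    ∃ v : B →ₐ[C] E, ∀ i, v (x i) = z i := by
  classical
  let a : MvPolynomial ι C →ₐ[C] E := MvPolynomial.aeval z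
  let b : MvPolynomial ι C →ₐ[C] B := MvPolynomial.aeval x
  have hb : Function.Surjective b := by
    rw [← AlgHom.range_eq_top, ← Algebra.adjoin_range_eq_range_aeval]
    exact h2_pmon_gen p x hsp
  let J : Ideal (MvPolynomial ι C) :=
    Ideal.span (Set.range fun i => (MvPolynomial.X i : MvPolynomial ι C) ^ p - MvPolynomial.C (c i))
  have hJa : J ≤ RingHom.ker a.toRingHom := by
    rw [Ideal.span_le]
    rintro _ ⟨i, rfl⟩
    show a (MvPolynomial.X i ^ p - MvPolynomial.C (c i)) = 0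
    rw [map_sub, map_pow, MvPolynomial.aeval_X, MvPolynomial.aeval_C, hz, sub_self]
  have hJb : J ≤ RingHom.ker b.toRingHom := by
    rw [Ideal.span_le]
    rintro _ ⟨i, rfl⟩
    show b (MvPolynomial.X i ^ p - MvPolynomial.C (c i)) = 0
    rw [map_sub, map_pow, MvPolynomial.aeval_X, MvPolynomial.aeval_C, hc, sub_self]
  let ξ : ι → MvPolynomial ι C ⧸ J := fun i => Ideal.Quotient.mk J (MvPolynomial.X i)
  have hξ : ∀ i, ξ i ^ p = algebraMap C (MvPolynomial ι C ⧸ J) (c i) := by
    intro i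
    have h1 : Ideal.Quotient.mk J ((MvPolynomial.X i : MvPolynomial ι C) ^ p) =
        Ideal.Quotient.mk J (MvPolynomial.C (c i)) := by
      rw [Ideal.Quotient.eq]; exact Ideal.subset_span ⟨i, rfl⟩
    rw [map_pow] at h1
    exact h1
  have hgen : Algebra.adjoin C (Set.range ξ) = ⊤ := by
    have h1 : Set.range ξ = (Ideal.Quotient.mkₐ C J) '' (Set.range MvPolynomial.X) := by
      rw [← Set.range_comp]; rfl
    rw [h1, ← AlgHom.map_adjoin, MvPolynomial.adjoin_range_X, Algebra.map_top,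
      AlgHom.range_eq_top]
    exact Ideal.Quotient.mkₐ_surjective C J
  have hspQ := h2_pmon_span p hp ξ c hξ hgen
  let b' : MvPolynomial ι C ⧸ J →ₐ[C] B := Ideal.Quotient.liftₐ J b hJb
  have hb'ξ : ∀ i, b' (ξ i) = x i := by
    intro i
    show b (MvPolynomial.X i) = x i
    exact MvPolynomial.aeval_X _ _
  have hker : RingHom.ker b.toRingHom ≤ RingHom.ker a.toRingHom := by
    intro f hf
    have hfb : b f = 0 := hf
    have hm : Ideal.Quotient.mk J f ∈ Submodule.span C
        (Set.range fun e : {e : ι →₀ ℕ // ∀ i, e i < p} => e.1.prod fun i n => ξ i ^ n) := by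
      rw [hspQ]; trivial
    obtain ⟨l, hl⟩ := Finsupp.mem_span_range_iff_exists_finsupp.mp hm
    have h2 : b' (Ideal.Quotient.mk J f) = b f := rfl
    have h3 : Finsupp.linearCombination C (fun e : {e : ι →₀ ℕ // ∀ i, e i < p} =>
        e.1.prod fun i n => x i ^ n) l = 0 := by
      rw [Finsupp.linearCombination_apply, ← hfb, ← h2, ← hl, map_finsuppSum]
      refine Finsupp.sum_congr (fun e _ => ?_)
      rw [map_smul, map_finsuppProd]
      congr 1
      refine Finsupp.prod_congr (fun i _ => ?_)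
      rw [map_pow, hb'ξ]
    have h4 : l = 0 := (linearIndependent_iff.mp hli) l h3
    have h5 : Ideal.Quotient.mk J f = 0 := by rw [← hl, h4, Finsupp.sum_zero_index]
    exact hJa (Ideal.Quotient.eq_zero_iff_mem.mp h5)
  refine ⟨AlgHom.liftOfSurjective b hb a hker, fun i => ?_⟩
  have h1 : x i = b (MvPolynomial.X i) := (MvPolynomial.aeval_X _ _).symm
  rw [h1, AlgHom.liftOfSurjective_apply]
  exact MvPolynomial.aeval_X _ _

end

section
variable {C : Type v} [CommRing C] {ι : Type u}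

theorem h2_pbasis_tsze {B : Type w} [CommRing B] [Algebra C B] (p : ℕ) [Fact p.Prime] [CharP B p]
    (x : ι → B) (c : ι → C) (hc : ∀ i, x i ^ p = algebraMap C B (c i))
    (hli : LinearIndependent C (fun e : {e : ι →₀ ℕ // ∀ i, e i < p} =>
      e.1.prod fun i n => x i ^ n))
    (hsp : Submodule.span C (Set.range fun e : {e : ι →₀ ℕ // ∀ i, e i < p} =>
      e.1.prod fun i n => x i ^ n) = ⊤)
    {M : Type*} [AddCommGroup M] [Module B M] [Module Bᵐᵒᵖ M] [IsCentralScalar B M]
    (ψ : C →+* TrivSqZeroExt B M) (hψ : ∀ r, (ψ r).fst = algebraMap C B r)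
    (hψc : ∀ i, (ψ (c i)).snd = 0) (y : ι → M) :
    ∃ v : B →+* TrivSqZeroExt B M, (∀ b, (v b).fst = b) ∧ (∀ r, v (algebraMap C B r) = ψ r) ∧
      ∀ i, v (x i) = TrivSqZeroExt.inl (x i) + TrivSqZeroExt.inr (y i) := by
  letI : Algebra C (TrivSqZeroExt B M) := ψ.toAlgebra
  have hz : ∀ i, (TrivSqZeroExt.inl (x i) + TrivSqZeroExt.inr (y i) : TrivSqZeroExt B M) ^ p =
      algebraMap C (TrivSqZeroExt B M) (c i) := by
    intro i
    show _ = ψ (c i)
    refine TrivSqZeroExt.ext ?_ ?_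
    · rw [TrivSqZeroExt.fst_pow, hψ, ← hc]
      simp
    · rw [TrivSqZeroExt.snd_pow, hψc, ← Nat.cast_smul_eq_nsmul B, CharP.cast_eq_zero, zero_smul]
  obtain ⟨v, hv⟩ := h2_plift p (Fact.out : p.Prime).pos x c hc hli hsp _ hz
  refine ⟨v.toRingHom, ?_, ?_, hv⟩
  · intro b
    let w : B →ₐ[C] B :=
      { toRingHom := (TrivSqZeroExt.fstHom B B M).toRingHom.comp v.toRingHom
        commutes' := fun r => by
          show (v (algebraMap C B r)).fst = _
          rw [v.commutes]
          exact hψ r }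
    have hw : w = AlgHom.id C B := h2_plift_unique p x hsp w (AlgHom.id C B) (fun i => by
      show (v (x i)).fst = x i
      rw [hv]
      simp)
    exact DFunLike.congr_fun hw b
  · intro r
    exact v.commutes r

end

section
open EGA41
variable (p : ℕ) {A B : Type u} [CommRing A] [CommRing B] [Algebra A B] {ι : Type u}

theorem h2_ppow_mem (b : B) : b ^ p ∈ pPowerSubalgebra p A B :=
  Algebra.subset_adjoin ⟨b, rfl⟩

/-- The `A`-derivations out of `B` kill `A[B^p]`; more precisely any subalgebra of `B` containing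
all `p`-th powers contains `A[B^p]`. -/
theorem h2_ppow_le (T : Subalgebra A B) (hT : ∀ b : B, b ^ p ∈ T) : pPowerSubalgebra p A B ≤ T := by
  refine Algebra.adjoin_le ?_
  rintro _ ⟨b, rfl⟩
  exact hT b

/-- Under `p`-generation, a subalgebra containing `A[B^p]` and the `x_i` is everything. -/
theorem h2_pgen_top (x : ι → B) (hx : IsPGenerating p A x) (T : Subalgebra A B)
    (hT : ∀ b : B, b ^ p ∈ T) (hxT : ∀ i, x i ∈ T) : T = ⊤ := by
  rw [eq_top_iff]
  rintro y -
  have hC := h2_ppow_le p T hT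
  have hy : y ∈ Submodule.span (pPowerSubalgebra p A B)
      (Set.range fun e : {e : ι →₀ ℕ // ∀ i, e i < p} => pMonomial x e.1) := by
    rw [hx]; trivial
  refine Submodule.span_induction ?_ ?_ ?_ ?_ hy
  · rintro _ ⟨e, rfl⟩
    exact Subalgebra.prod_mem _ (fun i _ => Subalgebra.pow_mem _ (hxT i) _)
  · exact T.zero_mem
  · intro a b _ _ ha hb
    exact T.add_mem ha hb
  · intro r b _ hb
    exact T.mul_mem (hC r.2) hb

end
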