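import Mathlib
import Groth.Prelude.Def_EGA41
import Groth.Agent.Lib.helper2.PBasis

/-! `p`-generators give generators of the module of differentials. -/

universe u

open EGA41

theorem h2_pgen_kaehler_span (p : ℕ) [Fact p.Prime] {A B : Type u} [CommRing A] [CommRing B]
    [Algebra A B] [CharP B p] {ι : Type u} (x : ι → B) (hsp : IsPGenerating p A x) :
    Submodule.span B (Set.range fun i => KaehlerDifferential.D A B (x i)) = ⊤ := by
  let N := Submodule.span B (Set.range fun i => KaehlerDifferential.D A B (x i))
  let T : Subalgebra A B :=
    { carrier := {b | KaehlerDifferential.D A B b ∈ N}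
      mul_mem' := fun {a b} ha hb => by
        show KaehlerDifferential.D A B (a * b) ∈ N
        rw [Derivation.leibniz]
        exact N.add_mem (N.smul_mem _ hb) (N.smul_mem _ ha)
      one_mem' := by
        show KaehlerDifferential.D A B 1 ∈ N
        rw [Derivation.map_one_eq_zero]
        exact N.zero_mem
      add_mem' := fun {a b} ha hb => by
        show KaehlerDifferential.D A B (a + b) ∈ N
        rw [map_add]
        exact N.add_mem ha hb
      zero_mem' := by
        show KaehlerDifferential.D A B 0 ∈ N
        rw [map_zero]
        exact N.zero_mem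
      algebraMap_mem' := fun r => by
        show KaehlerDifferential.D A B (algebraMap A B r) ∈ N
        rw [Derivation.map_algebraMap]
        exact N.zero_mem }
  have hT : T = ⊤ := h2_pgen_top p x hsp T (fun b => by
      show KaehlerDifferential.D A B (b ^ p) ∈ N
      rw [Derivation.leibniz_pow, ← Nat.cast_smul_eq_nsmul B, CharP.cast_eq_zero, zero_smul]
      exact N.zero_mem) (fun i => Submodule.subset_span ⟨i, rfl⟩)
  rw [eq_top_iff, ← KaehlerDifferential.span_range_derivation A B, Submodule.span_le]
  rintro _ ⟨b, rfl⟩
  have hb : b ∈ T := by rw [hT]; trivial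
  exact hb

/-- `IsPGenerating` is equivalent to generation as an algebra over `A[B^p]`. -/
theorem h2_pgen_iff_adjoin (p : ℕ) [Fact p.Prime] {A B : Type u} [CommRing A] [CommRing B]
    [Algebra A B] {ι : Type u} (x : ι → B) :
    Algebra.adjoin (pPowerSubalgebra p A B) (Set.range x) = ⊤ ↔ IsPGenerating p A x := by
  constructor
  · intro hgen
    exact h2_pmon_span p (Fact.out : p.Prime).pos x
      (fun i => (⟨x i ^ p, h2_ppow_mem p (x i)⟩ : pPowerSubalgebra p A B)) (fun i => rfl) hgen
  · intro hsp
    exact h2_pmon_gen p x hsp
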