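import Mathlib
import Groth.Prelude.Def_EGA41
import Groth.Agent.Lib.helper2.PBasisK

/-! `p`-independence over fields: ambient formulation, one-element extension, Zorn. -/

universe u

theorem h2_pow_linIndep (p : ℕ) [Fact p.Prime] {F K : Type*} [Field F] [Field K] [Algebra F K]
    [CharP K p] (hpow : ∀ b : K, b ^ p ∈ Set.range (algebraMap F K)) (s : K)
    (hs : s ∉ Set.range (algebraMap F K)) :
    LinearIndependent F (fun i : Fin p => s ^ (i : ℕ)) := by
  have hp : p.Prime := Fact.out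
  haveI : ExpChar K p := ExpChar.prime hp
  haveI : CharP F p :=
    ((algebraMap F K).charP_iff (algebraMap F K).injective p).mpr inferInstance
  haveI : ExpChar F p := ExpChar.prime hp
  haveI : IsPurelyInseparable F K := (isPurelyInseparable_iff_pow_mem F p).mpr (fun b =>
    ⟨1, by
      rw [pow_one]
      obtain ⟨a, ha⟩ := hpow b
      exact ⟨a, ha⟩⟩)
  obtain ⟨n, a, hn⟩ := IsPurelyInseparable.minpoly_eq_X_pow_sub_C F p s
  obtain ⟨a', ha'⟩ := hpow s
  have hdvd : minpoly F s ∣ Polynomial.X ^ p - Polynomial.C a' :=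
    minpoly.dvd F s (by simp [ha'])
  have hdeg : (minpoly F s).natDegree = p ^ n := by
    rw [hn]
    exact Polynomial.natDegree_X_pow_sub_C
  have hle : p ^ n ≤ p := by
    have h1 := Polynomial.natDegree_le_of_dvd hdvd (Polynomial.X_pow_sub_C_ne_zero hp.pos a')
    rwa [hdeg, Polynomial.natDegree_X_pow_sub_C] at h1
  have hn1 : n = 1 := by
    rcases Nat.lt_or_ge n 2 with h | h
    · interval_cases n
      · exfalso
        have h0 := minpoly.aeval F s
        rw [hn] at h0
        simp at h0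
        exact hs ⟨a, (sub_eq_zero.mp h0).symm⟩
      · rfl
    · exfalso
      have h1 : p ^ 2 ≤ p ^ n := Nat.pow_le_pow_right hp.pos h
      have h2 := hp.one_lt
      nlinarith
  have hdeg' : (minpoly F s).natDegree = p := by rw [hdeg, hn1, pow_one]
  have h3 := linearIndependent_pow (K := F) s
  rw [hdeg'] at h3
  exact h3

section
variable (p : ℕ) (K : Type u) [Field K]

/-- all reduced exponent vectors on `K` -/
abbrev h2Red := {e : K →₀ ℕ // ∀ b, e b < p}

variable {K}

/-- the monomial attached to a reduced exponent vector -/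
noncomputable def h2Mon : h2Red p K → K := fun e => e.1.prod fun b n => b ^ n

/-- exponent vectors supported in `T` -/
def h2JT (T : Set K) : Set (h2Red p K) := {e | (e.1.support : Set K) ⊆ T}

/-- ambient formulation of `p`-independence of a subset -/
def h2PInd (C₀ : Type*) [CommRing C₀] [Algebra C₀ K] (T : Set K) : Prop :=
  LinearIndepOn C₀ (h2Mon p) (h2JT p T)

theorem h2_pind_insert [Fact p.Prime] [CharP K p] {C₀ : Type*} [CommRing C₀] (hC₀ : IsField C₀)
    [Algebra C₀ K] (hpow : ∀ b : K, b ^ p ∈ Set.range (algebraMap C₀ K)) (T : Set K)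
    (hT : h2PInd p C₀ T) (s : K) (hs : s ∉ Algebra.adjoin C₀ T) :
    h2PInd p C₀ (insert s T) := by
  classical
  letI : Field C₀ := hC₀.toField
  have hp : p.Prime := Fact.out
  let G : Subalgebra C₀ K := Algebra.adjoin C₀ T
  haveI : Algebra.IsAlgebraic C₀ K := ⟨fun b => by
    obtain ⟨a, ha⟩ := hpow b
    exact ⟨Polynomial.X ^ p - Polynomial.C a, Polynomial.X_pow_sub_C_ne_zero hp.pos a,
      by simp [ha]⟩⟩
  letI : Field G := (Subalgebra.isField_of_algebraic G).toField
  have hc : LinearIndependent G (fun i : Fin p => s ^ (i : ℕ)) := by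
    refine h2_pow_linIndep p (fun b => ?_) s ?_
    · obtain ⟨a, ha⟩ := hpow b
      exact ⟨algebraMap C₀ G a, by rw [← ha]; rfl⟩
    · rintro ⟨g, hg⟩
      exact hs (hg ▸ g.2)
  have hmem : ∀ e : h2JT p T, h2Mon p e.1 ∈ G := by
    intro e
    exact Subalgebra.prod_mem _ (fun b hb =>
      Subalgebra.pow_mem _ (Algebra.subset_adjoin (e.2 hb)) _)
  let b : h2JT p T → G := fun e => ⟨h2Mon p e.1, hmem e⟩
  have hb : LinearIndependent C₀ b := by
    refine LinearIndependent.of_comp G.val.toLinearMap ?_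
    exact hT
  have hbig := linearIndependent_smul hb hc
  have hsT : s ∉ T := fun h => hs (Algebra.subset_adjoin h)
  let h : h2JT p (insert s T) → h2JT p T × Fin p := fun e =>
    (⟨⟨e.1.1.erase s, fun b' => by
        by_cases hb' : b' = s
        · rw [hb', Finsupp.erase_same]
          exact hp.pos
        · rw [Finsupp.erase_ne hb']
          exact e.1.2 b'⟩, by
        intro b' hb'
        rw [Finset.mem_coe, Finsupp.support_erase, Finset.mem_erase] at hb'
        rcases e.2 (Finset.mem_coe.mpr hb'.2) with h1 | h1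
        · exact absurd h1 hb'.1
        · exact h1⟩, ⟨e.1.1 s, e.1.2 s⟩)
  have hinj : Function.Injective h := by
    intro e e' hee'
    have h1 : e.1.1.erase s = e'.1.1.erase s := congrArg (fun q => q.1.1.1) hee'
    have h2 : e.1.1 s = e'.1.1 s := congrArg (fun q => (q.2 : ℕ)) hee'
    apply Subtype.ext
    apply Subtype.ext
    ext b'
    by_cases hb' : b' = s
    · rw [hb', h2]
    · have h3 := DFunLike.congr_fun h1 b'
      rwa [Finsupp.erase_ne hb', Finsupp.erase_ne hb'] at h3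
  have hfam : (fun e : h2JT p (insert s T) => h2Mon p e.1) =
      (fun q : h2JT p T × Fin p => b q.1 • s ^ (q.2 : ℕ)) ∘ h := by
    funext e
    show e.1.1.prod (fun b n => b ^ n) =
      (e.1.1.erase s).prod (fun b n => b ^ n) * s ^ (e.1.1 s)
    rw [mul_comm]
    exact (Finsupp.mul_prod_erase' e.1.1 s (fun b n => b ^ n) (fun _ => pow_zero _)).symm
  show LinearIndependent C₀ (fun e : h2JT p (insert s T) => h2Mon p e.1)
  rw [hfam]
  exact hbig.comp h hinj

theorem h2_pind_sUnion {C₀ : Type*} [CommRing C₀] [Algebra C₀ K] (c : Set (Set K))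
    (hc : IsChain (· ⊆ ·) c) (hne : c.Nonempty) (h : ∀ T ∈ c, h2PInd p C₀ T) :
    h2PInd p C₀ (⋃₀ c) := by
  classical
  have hfin : ∀ (s : Finset K), (s : Set K) ⊆ ⋃₀ c → ∃ T ∈ c, (s : Set K) ⊆ T := by
    intro s
    induction s using Finset.induction_on with
    | empty =>
      intro _
      obtain ⟨T, hT⟩ := hne
      exact ⟨T, hT, by simp⟩
    | insert a s ha ih =>
      intro hs
      rw [Finset.coe_insert, Set.insert_subset_iff] at hs
      obtain ⟨T₁, hT₁c, haT₁⟩ := hs.1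
      obtain ⟨T₂, hT₂c, hsT₂⟩ := ih hs.2
      rcases hc.total hT₁c hT₂c with h12 | h21
      · exact ⟨T₂, hT₂c, by
          rw [Finset.coe_insert, Set.insert_subset_iff]
          exact ⟨h12 haT₁, hsT₂⟩⟩
      · exact ⟨T₁, hT₁c, by
          rw [Finset.coe_insert, Set.insert_subset_iff]
          exact ⟨haT₁, hsT₂.trans h21⟩⟩
  have heq : h2JT p (⋃₀ c) = ⋃₀ ((h2JT p) '' c) := by
    ext e
    constructor
    · intro he
      obtain ⟨T, hTc, hT⟩ := hfin _ he
      exact ⟨h2JT p T, ⟨T, hTc, rfl⟩, hT⟩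
    · rintro ⟨_, ⟨T, hTc, rfl⟩, hT⟩
      exact Set.Subset.trans hT (Set.subset_sUnion_of_mem hTc)
  show LinearIndepOn C₀ (h2Mon p) (h2JT p (⋃₀ c))
  rw [heq]
  refine linearIndepOn_sUnion_of_directed ?_ ?_
  · rintro _ ⟨T₁, h1, rfl⟩ _ ⟨T₂, h2, rfl⟩
    rcases hc.total h1 h2 with h12 | h21
    · exact ⟨_, ⟨T₂, h2, rfl⟩, fun e he => Set.Subset.trans he h12, fun e he => he⟩
    · exact ⟨_, ⟨T₁, h1, rfl⟩, fun e he => he, fun e he => Set.Subset.trans he h21⟩
  · rintro _ ⟨T, hT, rfl⟩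
    exact h T hT

theorem h2_pind_exists_max [Fact p.Prime] [CharP K p] {C₀ : Type*} [CommRing C₀]
    (hC₀ : IsField C₀) [Algebra C₀ K] (hpow : ∀ b : K, b ^ p ∈ Set.range (algebraMap C₀ K))
    (S L : Set K) (hLS : L ⊆ S) (hL : h2PInd p C₀ L) :
    ∃ B : Set K, L ⊆ B ∧ B ⊆ S ∧ h2PInd p C₀ B ∧ S ⊆ (Algebra.adjoin C₀ B : Set K) := by
  have hz : ∀ c ⊆ {B : Set K | B ⊆ S ∧ h2PInd p C₀ B}, IsChain (· ⊆ ·) c → c.Nonempty →
      ∃ ub ∈ {B : Set K | B ⊆ S ∧ h2PInd p C₀ B}, ∀ s ∈ c, s ⊆ ub := by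
    intro c hcS hc hne
    exact ⟨⋃₀ c, ⟨Set.sUnion_subset (fun T hT => (hcS hT).1),
      h2_pind_sUnion p c hc hne (fun T hT => (hcS hT).2)⟩,
      fun T hT => Set.subset_sUnion_of_mem hT⟩
  obtain ⟨B, hLB, hmax⟩ := zorn_subset_nonempty {B : Set K | B ⊆ S ∧ h2PInd p C₀ B} hz L
    ⟨hLS, hL⟩
  refine ⟨B, hLB, hmax.prop.1, hmax.prop.2, fun s hs => ?_⟩
  by_contra hns
  have h1 := h2_pind_insert p hC₀ hpow B hmax.prop.2 s hns
  have h2 : insert s B ∈ {B : Set K | B ⊆ S ∧ h2PInd p C₀ B} :=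
    ⟨Set.insert_subset hs hmax.prop.1, h1⟩
  have h3 := hmax.le_of_ge h2 (Set.subset_insert s B)
  exact hns (Algebra.subset_adjoin (h3 (Set.mem_insert s B)))

theorem h2_pind_iff_range {C₀ : Type*} [CommRing C₀] [Algebra C₀ K] (hp : 0 < p) {ι : Type*}
    (x : ι → K) (hx : Function.Injective x) :
    LinearIndependent C₀ (fun e : {e : ι →₀ ℕ // ∀ i, e i < p} =>
      e.1.prod fun i n => x i ^ n) ↔ h2PInd p C₀ (Set.range x) := by
  classical
  let φ : {e : ι →₀ ℕ // ∀ i, e i < p} → h2Red p K := fun e =>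
    ⟨Finsupp.mapDomain x e.1, fun b => by
      by_cases hb : b ∈ Set.range x
      · obtain ⟨i, rfl⟩ := hb
        rw [Finsupp.mapDomain_apply hx]
        exact e.2 i
      · rw [Finsupp.mapDomain_of_notMem_range _ _ hb]
        exact hp⟩
  have hφ : Function.Injective φ := fun e e' h =>
    Subtype.ext (Finsupp.mapDomain_injective hx (congrArg Subtype.val h))
  have hrange : Set.range φ = h2JT p (Set.range x) := by
    ext e
    constructor
    · rintro ⟨e', rfl⟩ b hb
      have h1 := Finsupp.mapDomain_support hb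
      obtain ⟨i, _, rfl⟩ := Finset.mem_image.mp h1
      exact ⟨i, rfl⟩
    · intro he
      refine ⟨⟨Finsupp.comapDomain x e.1 hx.injOn, fun i => ?_⟩, ?_⟩
      · rw [Finsupp.comapDomain_apply]
        exact e.2 (x i)
      · apply Subtype.ext
        exact Finsupp.mapDomain_comapDomain x hx e.1 he
  have hcomp : (h2Mon p) ∘ φ = fun e : {e : ι →₀ ℕ // ∀ i, e i < p} =>
      e.1.prod fun i n => x i ^ n := by
    funext e
    show (Finsupp.mapDomain x e.1).prod (fun b n => b ^ n) = _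
    exact Finsupp.prod_mapDomain_index_inj hx
  unfold h2PInd
  rw [← hrange, linearIndepOn_range_iff hφ, hcomp]

end

/-- `k[K^p]` is a field. -/
theorem h2_ppow_isField (p : ℕ) [Fact p.Prime] {k K : Type u} [Field k] [Field K] [Algebra k K] :
    IsField (EGA41.pPowerSubalgebra p k K) := by
  have hp : p.Prime := Fact.out
  refine ⟨⟨0, 1, zero_ne_one⟩, mul_comm, fun {a} ha => ?_⟩
  have ha' : (a : K) ≠ 0 := fun h => ha (Subtype.ext h)
  refine ⟨⟨(a : K) ^ (p - 1) * ((a : K)⁻¹) ^ p,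
    Subalgebra.mul_mem _ (Subalgebra.pow_mem _ a.2 _) (h2_ppow_mem p _)⟩, ?_⟩
  apply Subtype.ext
  show (a : K) * ((a : K) ^ (p - 1) * ((a : K)⁻¹) ^ p) = 1
  rw [← mul_assoc, ← pow_succ', Nat.sub_add_cancel hp.one_le, ← mul_pow,
    mul_inv_cancel₀ ha', one_pow]
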