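import Mathlib
import Groth.Prelude.Def_EGA41
import Groth.Agent.Lib.helper2.PField

/-! More on `p`-independence over fields. -/

universe u

open EGA41

theorem h2_adjoin_kaehler_mem (p : ℕ) [Fact p.Prime] {A B : Type u} [CommRing A] [CommRing B]
    [Algebra A B] [CharP B p] (T : Set B) (t : B)
    (ht : t ∈ Algebra.adjoin (pPowerSubalgebra p A B) T) :
    KaehlerDifferential.D A B t ∈ Submodule.span B ((KaehlerDifferential.D A B) '' T) := by
  let N := Submodule.span B ((KaehlerDifferential.D A B) '' T)
  let U : Subalgebra A B :=
    { carrier := {b | KaehlerDifferential.D A B b ∈ N}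
      mul_mem' := fun {a b} ha hb => by
        show KaehlerDifferential.D A B (a * b) ∈ N
        rw [Derivation.leibniz]
        exact N.add_mem (N.smul_mem _ hb) (N.smul_mem _ ha)
      one_mem' := by
        show KaehlerDifferential.D A B 1 ∈ N
        rw [Derivation.map_one_eq_zero]
        exact N.zero_mem
      add_mem' := fun {a b} ha hb => by
        show KaehlerDifferential.D A B (a + b) ∈ N
        rw [map_add]
        exact N.add_mem ha hb
      zero_mem' := by
        show KaehlerDifferential.D A B 0 ∈ N
        rw [map_zero]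
        exact N.zero_mem
      algebraMap_mem' := fun r => by
        show KaehlerDifferential.D A B (algebraMap A B r) ∈ N
        rw [Derivation.map_algebraMap]
        exact N.zero_mem }
  have hCU : pPowerSubalgebra p A B ≤ U := h2_ppow_le p U (fun b => by
    show KaehlerDifferential.D A B (b ^ p) ∈ N
    rw [Derivation.leibniz_pow, ← Nat.cast_smul_eq_nsmul B, CharP.cast_eq_zero, zero_smul]
    exact N.zero_mem)
  have key : t ∈ U := by
    refine Algebra.adjoin_induction ?_ ?_ ?_ ?_ ht
    · intro y hy
      exact Submodule.subset_span ⟨y, hy, rfl⟩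
    · intro c
      exact hCU c.2
    · intro a b _ _ ha hb
      exact U.add_mem ha hb
    · intro a b _ _ ha hb
      exact U.mul_mem ha hb
  exact key

theorem h2_pind_empty (p : ℕ) (hp : 0 < p) {K : Type u} [Field K] {C₀ : Type*} [CommRing C₀]
    [Algebra C₀ K] (hinj : Function.Injective (algebraMap C₀ K)) :
    h2PInd p C₀ (∅ : Set K) := by
  classical
  show LinearIndependent C₀ (fun e : h2JT p (∅ : Set K) => h2Mon p e.1)
  have hzero : ∀ e : h2JT p (∅ : Set K), e.1.1 = 0 := by
    intro e
    have h1 : (e.1.1.support : Set K) ⊆ ∅ := e.2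
    have h2 : e.1.1.support = ∅ := by
      rw [← Finset.coe_eq_empty]
      exact Set.subset_empty_iff.mp h1
    exact Finsupp.support_eq_empty.mp h2
  haveI : Subsingleton (h2JT p (∅ : Set K)) := ⟨fun e e' => by
    apply Subtype.ext
    apply Subtype.ext
    rw [hzero e, hzero e']⟩
  rw [linearIndependent_iff]
  intro l hl
  ext e
  have h1 : l = Finsupp.single e (l e) := by
    ext e'
    rw [Subsingleton.elim e' e, Finsupp.single_eq_same]
  rw [h1, Finsupp.linearCombination_single] at hl
  have h2 : h2Mon p e.1 = 1 := by
    show e.1.1.prod (fun b n => b ^ n) = 1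
    rw [hzero e, Finsupp.prod_zero_index]
  rw [h2, ← Algebra.algebraMap_eq_smul_one] at hl
  have h3 : l e = 0 := hinj (by rw [hl, map_zero])
  rw [h3]
  rfl

/-- A `p`-independent generating subset gives a `p`-basis in the sense of the prelude. -/
theorem h2_pbasis_of_pind_gen (p : ℕ) [Fact p.Prime] {k K : Type u} [Field k] [Field K]
    [Algebra k K] (B : Set K) (hB : h2PInd p (pPowerSubalgebra p k K) B)
    (hgen : Set.univ ⊆ (Algebra.adjoin (pPowerSubalgebra p k K) B : Set K)) :
    IsPBasis p k (Subtype.val : B → K) := by
  have hp : p.Prime := Fact.out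
  constructor
  · have h1 : h2PInd p (pPowerSubalgebra p k K) (Set.range (Subtype.val : B → K)) := by
      rw [Subtype.range_val]
      exact hB
    exact (h2_pind_iff_range p hp.pos (Subtype.val : B → K) Subtype.val_injective).mpr h1
  · rw [← h2_pgen_iff_adjoin, Subtype.range_val, eq_top_iff]
    intro y _
    exact hgen (Set.mem_univ y)
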