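import Groth.Agent.Lib.helper2.PSmooth
import Groth.Agent.S2466
import Groth.Agent.S2468
import Mathlib

/-!
# MacLane's criterion: formally smooth field extensions = geometrically reduced ones
-/

open EGA41 TensorProduct

universe u

/-- If `v` is linearly independent over a field, `∑ m_j ⊗ v_j = 0` forces all `m_j = 0`. -/
theorem h2_tmul_sum_right {k : Type*} [Field k] {M N : Type*} [AddCommGroup M] [Module k M]
    [AddCommGroup N] [Module k N] {J : Type*} (v : J → N) (hv : LinearIndependent k v)
    (S : Finset J) (m : J → M) (h : ∑ j ∈ S, m j ⊗ₜ[k] v j = 0) : ∀ j ∈ S, m j = 0 := by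
  classical
  intro j₀ hj₀
  let f₀ : Submodule.span k (Set.range v) →ₗ[k] k := (Finsupp.lapply j₀).comp hv.repr
  obtain ⟨φ, hφ⟩ := LinearMap.exists_extend f₀
  have hφv : ∀ j, φ (v j) = if j = j₀ then 1 else 0 := by
    intro j
    have h1 : φ (v j) = f₀ ⟨v j, Submodule.subset_span (Set.mem_range_self j)⟩ := by
      rw [← hφ]; rfl
    rw [h1]
    show (hv.repr ⟨v j, _⟩) j₀ = _
    rw [hv.repr_eq_single j ⟨v j, _⟩ rfl, Finsupp.single_apply]
  let ψ : M ⊗[k] N →ₗ[k] M := (TensorProduct.rid k M).toLinearMap.comp (LinearMap.lTensor M φ)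
  have hψ : ∀ (a : M) (j : J), ψ (a ⊗ₜ[k] v j) = if j = j₀ then a else 0 := by
    intro a j
    show TensorProduct.rid k M (LinearMap.lTensor M φ (a ⊗ₜ[k] v j)) = _
    rw [LinearMap.lTensor_tmul, TensorProduct.rid_tmul, hφv]
    split_ifs <;> simp
  have h2 := congrArg ψ h
  rw [map_sum, map_zero] at h2
  simp only [hψ] at h2
  rw [Finset.sum_ite_eq' S j₀, if_pos hj₀] at h2
  exact h2

theorem h2_tmul_sum_left {k : Type*} [Field k] {M N : Type*} [AddCommGroup M] [Module k M]
    [AddCommGroup N] [Module k N] {J : Type*} (v : J → N) (hv : LinearIndependent k v)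
    (S : Finset J) (m : J → M) (h : ∑ j ∈ S, v j ⊗ₜ[k] m j = 0) : ∀ j ∈ S, m j = 0 := by
  refine h2_tmul_sum_right v hv S m ?_
  have h2 := congrArg (TensorProduct.comm k N M) h
  rw [map_sum, map_zero] at h2
  simpa using h2

/-- Elements of `F[K^p]` are `p`-th powers when `F` is perfect. -/
theorem h2_ppow_root (p : ℕ) [Fact p.Prime] {F K : Type u} [Field F] [Field K] [Algebra F K]
    [CharP K p] [CharP F p] [PerfectRing F p] (r : pPowerSubalgebra p F K) :
    ∃ y : K, y ^ p = (r : K) := by
  let T : Subalgebra F K :=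
    { (frobenius K p).range.toSubsemiring with
      algebraMap_mem' := fun c => by
        obtain ⟨e, he⟩ := surjective_frobenius F p c
        refine ⟨algebraMap F K e, ?_⟩
        rw [frobenius_def, ← map_pow, ← frobenius_def, he] }
  have hT : pPowerSubalgebra p F K ≤ T := h2_ppow_le p T (fun b => ⟨b, rfl⟩)
  obtain ⟨y, hy⟩ := hT r.2
  exact ⟨y, hy⟩

theorem h2_pow_inj (p : ℕ) [Fact p.Prime] {K : Type*} [Field K] [CharP K p] (a b : K)
    (h : a ^ p = b ^ p) : a = b :=
  frobenius_inj K p (by simpa [frobenius_def] using h)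

theorem h2_pmonomial_map {A B : Type u} [CommRing A] [CommRing B] (f : A →+* B) {ι : Type u}
    (x : ι → A) (e : ι →₀ ℕ) : pMonomial (fun i => f (x i)) e = f (pMonomial x e) := by
  unfold pMonomial
  rw [map_finsuppProd]
  refine Finsupp.prod_congr (fun i _ => ?_)
  rw [map_pow]

theorem h2_pmonomial_pow {B : Type u} [CommRing B] {ι : Type u} (x : ι → B) (e : ι →₀ ℕ) (p : ℕ) :
    pMonomial x e ^ p = pMonomial (fun i => x i ^ p) e := by
  unfold pMonomial
  rw [Finsupp.prod, Finsupp.prod, ← Finset.prod_pow]
  refine Finset.prod_congr rfl (fun i _ => ?_)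
  rw [← pow_mul, ← pow_mul, mul_comm]

/-- Geometric reducedness forces `p`-independent families of `k` to stay `p`-independent in `K`. -/
theorem h2_pind_of_geomReduced (p : ℕ) [Fact p.Prime] {F k K : Type u} [Field F] [Field k]
    [Field K] [Algebra F k] [Algebra k K] [Algebra F K] [IsScalarTower F k K] [CharP F p]
    [CharP k p] [CharP K p] [PerfectRing F p] (hred : IsReduced (AlgebraicClosure k ⊗[k] K))
    {ι : Type u} (x : ι → k) (hx : IsPIndependent p F x) :
    IsPIndependent p F (fun i => algebraMap k K (x i)) := by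
  classical
  have hp : p.Prime := Fact.out
  have hβ : ∀ i, ∃ z : AlgebraicClosure k, z ^ p = algebraMap k (AlgebraicClosure k) (x i) :=
    fun i => IsAlgClosed.exists_pow_nat_eq _ hp.pos
  choose β hβ using hβ
  haveI : CharP (AlgebraicClosure k) p :=
    charP_of_injective_algebraMap (algebraMap k (AlgebraicClosure k)).injective p
  have hβmon : ∀ e : ι →₀ ℕ, pMonomial (fun i => β i ^ p) e =
      algebraMap k (AlgebraicClosure k) (pMonomial x e) := by
    intro e
    rw [← h2_pmonomial_map]
    congr 1
    funext i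
    exact hβ i
  -- Claim A
  have hA : LinearIndependent k
      (fun e : {e : ι →₀ ℕ // ∀ i, e i < p} => pMonomial β e.1) := by
    rw [linearIndependent_iff']
    intro S a ha e he
    have h1 : (∑ e ∈ S, a e • pMonomial β e.1) ^ p = 0 := by rw [ha, zero_pow hp.ne_zero]
    rw [sum_pow_char] at h1
    have h2 : ∀ e : {e : ι →₀ ℕ // ∀ i, e i < p}, (a e • pMonomial β e.1) ^ p =
        algebraMap k (AlgebraicClosure k) (a e ^ p * pMonomial x e.1) := by
      intro e
      rw [Algebra.smul_def, mul_pow, h2_pmonomial_pow, map_mul, map_pow, hβmon]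
    simp only [h2] at h1
    rw [← map_sum] at h1
    have h3 : ∑ e ∈ S, a e ^ p * pMonomial x e.1 = 0 :=
      (algebraMap k (AlgebraicClosure k)).injective (by rw [h1, map_zero])
    have h4 := (linearIndependent_iff'.mp hx) S
      (fun e => (⟨a e ^ p, h2_ppow_mem p (a e)⟩ : pPowerSubalgebra p F k)) h3 e he
    have h5 : a e ^ p = 0 := congrArg Subtype.val h4
    exact (pow_eq_zero_iff hp.ne_zero).mp h5
  -- Claim B
  show LinearIndependent (pPowerSubalgebra p F K)
    (fun e : {e : ι →₀ ℕ // ∀ i, e i < p} => pMonomial (fun i => algebraMap k K (x i)) e.1)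
  rw [linearIndependent_iff']
  intro S g hg e he
  have hc : ∀ e, ∃ y : K, y ^ p = (g e : K) := fun e => h2_ppow_root p (g e)
  choose c hc using hc
  haveI : Nontrivial (AlgebraicClosure k ⊗[k] K) :=
    (Algebra.TensorProduct.includeRight_injective
      (algebraMap k (AlgebraicClosure k)).injective).nontrivial
  haveI : CharP (AlgebraicClosure k ⊗[k] K) p :=
    charP_of_injective_algebraMap (algebraMap k (AlgebraicClosure k ⊗[k] K)).injective p
  have hz : (∑ e ∈ S, pMonomial β e.1 ⊗ₜ[k] c e) ^ p = 0 := by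
    rw [sum_pow_char]
    have h1 : ∀ e : {e : ι →₀ ℕ // ∀ i, e i < p}, (pMonomial β e.1 ⊗ₜ[k] c e) ^ p =
        (1 : AlgebraicClosure k) ⊗ₜ[k]
          ((g e : K) * pMonomial (fun i => algebraMap k K (x i)) e.1) := by
      intro e
      rw [Algebra.TensorProduct.tmul_pow, h2_pmonomial_pow, hc, hβmon,
        Algebra.algebraMap_eq_smul_one, TensorProduct.smul_tmul, h2_pmonomial_map,
        Algebra.smul_def, mul_comm]
    simp only [h1]
    rw [← TensorProduct.tmul_sum]
    have h2 : ∑ e ∈ S, (g e : K) * pMonomial (fun i => algebraMap k K (x i)) e.1 = 0 := hg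
    rw [h2, TensorProduct.tmul_zero]
  have hz0 : ∑ e ∈ S, pMonomial β e.1 ⊗ₜ[k] c e = 0 := IsNilpotent.eq_zero ⟨p, hz⟩
  have hce := h2_tmul_sum_left (fun e : {e : ι →₀ ℕ // ∀ i, e i < p} => pMonomial β e.1) hA S c
    hz0 e he
  apply Subtype.ext
  show (g e : K) = 0
  rw [← hc, hce, zero_pow hp.ne_zero]

/-- MacLane's condition: `k`-linearly independent families of `K` have `k`-linearly independent
`p`-th powers. -/
def h2MacLaneH (p : ℕ) (k K : Type u) [Field k] [Field K] [Algebra k K] : Prop :=
  ∀ (J : Type u) (s : J → K), LinearIndependent k s → LinearIndependent k (fun j => s j ^ p)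

/-- MacLane's condition implies that `E ⊗ K` is reduced for reduced `E`. -/
theorem h2_reduced_of_H (p : ℕ) [Fact p.Prime] {k K : Type u} [Field k] [Field K] [Algebra k K]
    [CharP k p] (hH : h2MacLaneH p k K) (E : Type*) [CommRing E] [Algebra k E] [IsReduced E] :
    IsReduced (E ⊗[k] K) := by
  classical
  have hp : p.Prime := Fact.out
  by_cases hnt : Subsingleton (E ⊗[k] K)
  · exact ⟨fun x _ => Subsingleton.elim _ _⟩
  rw [not_subsingleton_iff_nontrivial] at hnt
  haveI : CharP (E ⊗[k] K) p :=
    charP_of_injective_algebraMap (algebraMap k (E ⊗[k] K)).injective p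
  rw [isReduced_iff_pow_one_lt p hp.one_lt]
  let 𝔅 := Module.Basis.ofVectorSpace k K
  have hBp := hH _ 𝔅 𝔅.linearIndependent
  intro z hz
  let e := TensorProduct.equivFinsuppOfBasisRight (R := k) (M := E) 𝔅
  obtain ⟨m, rfl⟩ : ∃ m, z = e.symm m := ⟨e z, (e.symm_apply_apply z).symm⟩
  have hzr : e.symm m = ∑ j ∈ m.support, m j ⊗ₜ[k] 𝔅 j := by
    have h2 : e.symm m = e.symm.toLinearMap m := rfl
    rw [h2, TensorProduct.equivFinsuppOfBasisRight_symm]
    simp [Finsupp.lsum_apply, Finsupp.sum]
  have h3 : ∑ j ∈ m.support, ((m j) ^ p) ⊗ₜ[k] ((𝔅 j) ^ p) = 0 := by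
    rw [hzr, sum_pow_char] at hz
    simpa [Algebra.TensorProduct.tmul_pow] using hz
  have h4 := h2_tmul_sum_right (fun j => 𝔅 j ^ p) hBp m.support (fun j => (m j) ^ p) h3
  have h5 : m = 0 := by
    ext j
    by_cases hj : j ∈ m.support
    · have := h4 j hj
      exact (pow_eq_zero_iff hp.ne_zero).mp this
    · simpa using hj
  rw [h5, map_zero]

/-- If a system of `p`-generators of `k` is `p`-independent in `K`, MacLane's condition holds. -/
theorem h2_H_of_pind (p : ℕ) [Fact p.Prime] {F k K : Type u} [Field F] [Field k] [Field K]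
    [Algebra F k] [Algebra k K] [Algebra F K] [IsScalarTower F k K] [CharP F p] [CharP k p]
    [CharP K p] [PerfectRing F p] {ι : Type u} (x : ι → k) (hx : IsPGenerating p F x)
    (hK : IsPIndependent p F (fun i => algebraMap k K (x i))) : h2MacLaneH p k K := by
  classical
  have hp : p.Prime := Fact.out
  intro J s hs
  rw [linearIndependent_iff']
  intro t g hg j₀ hj₀
  have hexp : ∀ a : k, ∃ r : {e : ι →₀ ℕ // ∀ i, e i < p} →₀ pPowerSubalgebra p F k,
      a = r.sum fun e c => c • pMonomial x e.1 := by
    intro a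
    have ha : a ∈ Submodule.span (pPowerSubalgebra p F k)
        (Set.range fun e : {e : ι →₀ ℕ // ∀ i, e i < p} => pMonomial x e.1) := by
      rw [hx]; trivial
    obtain ⟨r, hr⟩ := Finsupp.mem_span_range_iff_exists_finsupp.mp ha
    exact ⟨r, hr.symm⟩
  choose r hr using hexp
  have hα : ∀ (a : k) (e : {e : ι →₀ ℕ // ∀ i, e i < p}),
      ∃ y : k, y ^ p = ((r a e : pPowerSubalgebra p F k) : k) := fun a e => h2_ppow_root p (r a e)
  choose α hα using hα
  let S : Finset {e : ι →₀ ℕ // ∀ i, e i < p} := t.biUnion (fun j => (r (g j)).support)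
  have hgS : ∀ j ∈ t, ∑ e ∈ S, ((r (g j) e : pPowerSubalgebra p F k) : k) * pMonomial x e.1 = g j := by
    intro j hj
    conv_rhs => rw [hr (g j)]
    rw [Finsupp.sum]
    symm
    refine Finset.sum_subset (Finset.subset_biUnion_of_mem (fun j => (r (g j)).support) hj) ?_
    intro e _ he
    rw [Finsupp.notMem_support_iff.mp he, zero_smul]
  let γ : {e : ι →₀ ℕ // ∀ i, e i < p} → K := fun e => ∑ j ∈ t, algebraMap k K (α (g j) e) * s j
  have hγp : ∀ e, γ e ^ p =
      ∑ j ∈ t, algebraMap k K ((r (g j) e : pPowerSubalgebra p F k) : k) * s j ^ p := by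
    intro e
    show (∑ j ∈ t, algebraMap k K (α (g j) e) * s j) ^ p = _
    rw [sum_pow_char]
    refine Finset.sum_congr rfl (fun j _ => ?_)
    rw [mul_pow, ← map_pow, hα]
  have hsum : ∑ e ∈ S, γ e ^ p * pMonomial (fun i => algebraMap k K (x i)) e.1 = 0 := by
    simp only [hγp, Finset.sum_mul]
    rw [Finset.sum_comm, ← hg]
    refine Finset.sum_congr rfl (fun j hj => ?_)
    have hj' : algebraMap k K (g j) = ∑ e ∈ S,
        algebraMap k K ((r (g j) e : pPowerSubalgebra p F k) : k) *
          algebraMap k K (pMonomial x e.1) := by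
      conv_lhs => rw [← hgS j hj]
      rw [map_sum]
      refine Finset.sum_congr rfl (fun e _ => ?_)
      rw [map_mul]
    rw [Algebra.smul_def, hj', Finset.sum_mul]
    refine Finset.sum_congr rfl (fun e _ => ?_)
    rw [h2_pmonomial_map]
    ring
  have h1 := (linearIndependent_iff'.mp hK) S
    (fun e => (⟨γ e ^ p, h2_ppow_mem p (γ e)⟩ : pPowerSubalgebra p F K)) hsum
  have h2 : ∀ e ∈ S, ∀ j ∈ t, ((r (g j) e : pPowerSubalgebra p F k) : k) = 0 := by
    intro e he j hj
    have h3 : γ e ^ p = 0 := congrArg Subtype.val (h1 e he)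
    have h4 : γ e = 0 := (pow_eq_zero_iff hp.ne_zero).mp h3
    have h5 : ∑ j ∈ t, α (g j) e • s j = 0 := by
      rw [← h4]
      refine Finset.sum_congr rfl (fun j _ => ?_)
      rw [Algebra.smul_def]
    have h6 := (linearIndependent_iff'.mp hs) t (fun j => α (g j) e) h5 j hj
    rw [← hα, h6, zero_pow hp.ne_zero]
  rw [← hgS j₀ hj₀]
  refine Finset.sum_eq_zero (fun e he => ?_)
  rw [h2 e he j₀ hj₀, zero_mul]

theorem h2_mapBaseChange_inj_iff_pind (p : ℕ) [Fact p.Prime] {F k K : Type u} [Field F] [Field k]
    [Field K] [Algebra F k] [Algebra k K] [Algebra F K] [IsScalarTower F k K] [CharP k p]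
    [CharP K p] {ι : Type u} (b : ι → k) (hb : IsPBasis p F b) :
    Function.Injective (KaehlerDifferential.mapBaseChange F k K) ↔
      IsPIndependent p F (fun i => algebraMap k K (b i)) := by
  obtain ⟨B, hB⟩ := Groth.Agent.S2466.result p b hb
  let B' := Algebra.TensorProduct.basis K B
  have hB' : ∀ i, KaehlerDifferential.mapBaseChange F k K (B' i) =
      KaehlerDifferential.D F K (algebraMap k K (b i)) := by
    intro i
    show KaehlerDifferential.mapBaseChange F k K (Algebra.TensorProduct.basis K B i) = _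
    rw [Algebra.TensorProduct.basis_apply, KaehlerDifferential.mapBaseChange_tmul, one_smul, hB,
      KaehlerDifferential.map_D]
  have hcomp : (KaehlerDifferential.mapBaseChange F k K) ∘ B' =
      fun i => KaehlerDifferential.D F K (algebraMap k K (b i)) := funext hB'
  rw [(Groth.Agent.S2468.result p (k := F) (K := K) (fun i => algebraMap k K (b i))).1]
  constructor
  · intro hinj
    have h1 := B'.linearIndependent.map' (KaehlerDifferential.mapBaseChange F k K)
      (LinearMap.ker_eq_bot.mpr hinj)
    rwa [hcomp] at h1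
  · intro hli
    rw [← LinearMap.ker_eq_bot, LinearMap.ker_eq_bot']
    intro z hz
    obtain ⟨l, rfl⟩ : ∃ l, z = Finsupp.linearCombination K B' l :=
      ⟨B'.repr z, (B'.linearCombination_repr z).symm⟩
    rw [Finsupp.apply_linearCombination, hcomp] at hz
    rw [(linearIndependent_iff.mp hli) l hz, map_zero]

theorem h2_formallySmooth_iff_mapBaseChange_inj {F k K : Type u} [Field F] [Field k] [Field K]
    [Algebra F k] [Algebra k K] [Algebra F K] [IsScalarTower F k K] [Algebra.FormallySmooth F K] :
    Algebra.FormallySmooth k K ↔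
      Function.Injective (KaehlerDifferential.mapBaseChange F k K) := by
  constructor
  · intro h
    rw [injective_iff_map_eq_zero]
    intro z hz
    obtain ⟨y, rfl⟩ := (Algebra.H1Cotangent.exact_δ_mapBaseChange F k K z).mp hz
    have hy : y = 0 := Subsingleton.elim _ _
    rw [hy, map_zero]
  · intro hinj
    refine ⟨inferInstance, ⟨fun y y' => ?_⟩⟩
    have key : ∀ y : Algebra.H1Cotangent k K, y = 0 := by
      intro y
      have h1 : KaehlerDifferential.mapBaseChange F k K (Algebra.H1Cotangent.δ F k K y) = 0 :=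
        (Algebra.H1Cotangent.exact_δ_mapBaseChange F k K _).mpr ⟨y, rfl⟩
      have h2 : Algebra.H1Cotangent.δ F k K y = 0 := hinj (by rw [h1, map_zero])
      obtain ⟨w, rfl⟩ := (Algebra.H1Cotangent.exact_map_δ F k K y).mp h2
      have hw : w = 0 := Subsingleton.elim _ _
      rw [hw, map_zero]
    rw [key y, key y']

theorem h2_formallySmooth_of_charZero {k K : Type u} [Field k] [Field K] [Algebra k K]
    [CharZero k] : Algebra.FormallySmooth k K := by
  obtain ⟨s, hs⟩ := exists_isTranscendenceBasis k K
  haveI : Algebra.IsAlgebraic (IntermediateField.adjoin k (Set.range ((↑) : s → K))) K :=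
    hs.isAlgebraic_field
  haveI : CharZero (IntermediateField.adjoin k (Set.range ((↑) : s → K))) :=
    charZero_of_injective_algebraMap (algebraMap k _).injective
  exact Algebra.FormallySmooth.of_algebraicIndependent_of_isSeparable hs.1

theorem h2_geomReduced_of_charZero {k K : Type u} [Field k] [Field K] [Algebra k K]
    [CharZero k] : IsReduced (AlgebraicClosure k ⊗[k] K) := by
  haveI : CharZero (AlgebraicClosure k) :=
    charZero_of_injective_algebraMap (algebraMap k _).injective
  have h1 : IsReduced (K ⊗[k] AlgebraicClosure k) := by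
    refine IsReduced.tensorProduct_of_flat_of_forall_fg (fun B hB => ?_)
    obtain ⟨s, hs⟩ := hB
    let L : IntermediateField k (AlgebraicClosure k) := IntermediateField.adjoin k (s : Set _)
    have hBL : B = L.toSubalgebra := by
      rw [← hs]
      exact (IntermediateField.adjoin_toSubalgebra_of_isAlgebraic
        (fun x _ => Algebra.IsAlgebraic.isAlgebraic x)).symm
    subst hBL
    haveI : Algebra.IsSeparable k L :=
      Algebra.isSeparable_tower_bot_of_isSeparable k L (AlgebraicClosure k)
    haveI : FiniteDimensional k L :=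
      IntermediateField.finiteDimensional_adjoin (fun x _ => Algebra.IsIntegral.isIntegral x)
    haveI : Algebra.FormallyUnramified k L := Algebra.FormallyUnramified.of_isSeparable k L
    exact Algebra.FormallyUnramified.isReduced_of_field K (K ⊗[k] L)
  exact isReduced_of_injective (Algebra.TensorProduct.comm k (AlgebraicClosure k) K).toAlgHom
    (Algebra.TensorProduct.comm k (AlgebraicClosure k) K).injective

/-- A field extension is formally smooth iff it is geometrically reduced (separable). -/
theorem h2_formallySmooth_iff_geomReduced {k K : Type u} [Field k] [Field K] [Algebra k K] :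
    Algebra.FormallySmooth k K ↔ Algebra.IsGeometricallyReduced k K := by
  rw [Algebra.isGeometricallyReduced_field_iff]
  obtain ⟨q, hq⟩ := CharP.exists k
  rcases CharP.char_is_prime_or_zero k q with hq' | hq'
  · haveI : Fact q.Prime := ⟨hq'⟩
    haveI : CharP K q := charP_of_injective_algebraMap (algebraMap k K).injective q
    letI : Algebra (ZMod q) k := ZMod.algebra k q
    letI : Algebra (ZMod q) K := ZMod.algebra K q
    letI : Algebra (ULift.{u} (ZMod q)) k := ULift.algebra' (ZMod q) k
    letI : Algebra (ULift.{u} (ZMod q)) K := ULift.algebra' (ZMod q) K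
    haveI : IsScalarTower (ULift.{u} (ZMod q)) k K := IsScalarTower.of_algebraMap_eq (fun x => by
      show algebraMap (ZMod q) K x.down = algebraMap k K (algebraMap (ZMod q) k x.down)
      exact RingHom.congr_fun (Subsingleton.elim (algebraMap (ZMod q) K)
        ((algebraMap k K).comp (algebraMap (ZMod q) k))) x.down)
    haveI : Algebra.FormallySmooth (ULift.{u} (ZMod q)) K := h2_formallySmooth_of_perfect q
    obtain ⟨Bs, hBs⟩ := h2_exists_pbasis q (k := ULift.{u} (ZMod q)) (K := k)
    rw [h2_formallySmooth_iff_mapBaseChange_inj (F := ULift.{u} (ZMod q)),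
      h2_mapBaseChange_inj_iff_pind q _ hBs]
    constructor
    · intro hpi
      exact h2_reduced_of_H q (h2_H_of_pind q _ hBs.2 hpi) (AlgebraicClosure k)
    · intro hred
      exact h2_pind_of_geomReduced q hred _ hBs.1
  · subst hq'
    haveI : CharZero k := CharP.charP_to_charZero k
    exact ⟨fun _ => h2_geomReduced_of_charZero, fun _ => h2_formallySmooth_of_charZero⟩
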