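import Mathlib

/-! Mates / base change compatibilities for adjunctions (helper2). -/

namespace H2Mates
open CategoryTheory

universe v₁ v₂ v₃ v₄ u₁ u₂ u₃ u₄

section generic
variable {C : Type u₁} [Category.{v₁} C] {D : Type u₂} [Category.{v₂} D] {L : C ⥤ D} {R : D ⥤ C}

theorem he_symm_comp (adj : L ⊣ R) {X : C} {Y Y' : D} (u : X ⟶ R.obj Y) (r : Y ⟶ Y') :
    adj.homEquiv _ _ ((adj.homEquiv _ _).symm u ≫ r) = u ≫ R.map r := by
  rw [Adjunction.homEquiv_naturality_right, Equiv.apply_symm_apply]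

theorem he_map_comp (adj : L ⊣ R) {X X' : C} {Y : D} (f : X ⟶ X') (g : L.obj X' ⟶ Y) :
    adj.homEquiv _ _ (L.map f ≫ g) = f ≫ adj.homEquiv _ _ g :=
  Adjunction.homEquiv_naturality_left adj f g

theorem he_map (adj : L ⊣ R) {X X' : C} (f : X ⟶ X') :
    adj.homEquiv _ _ (L.map f) = f ≫ adj.unit.app X' := by
  rw [Adjunction.homEquiv_unit, adj.unit_naturality]

theorem he_map_comp_counit (adj : L ⊣ R) {X : C} {Y : D} (f : X ⟶ R.obj Y) :
    adj.homEquiv _ _ (L.map f ≫ adj.counit.app Y) = f :=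
  (adj.homEquiv X Y).apply_symm_apply f

theorem he_symm (adj : L ⊣ R) {X : C} {Y : D} (u : X ⟶ R.obj Y) :
    adj.unit.app X ≫ R.map ((adj.homEquiv _ _).symm u) = u :=
  (adj.homEquiv X Y).apply_symm_apply u

end generic

variable {CX : Type u₁} [Category.{v₁} CX] {CY : Type u₂} [Category.{v₂} CY]
  {CX' : Type u₃} [Category.{v₃} CX'] {CY' : Type u₄} [Category.{v₄} CY']
variable {F : CX ⥤ CY} {F' : CX' ⥤ CY'} {G : CY' ⥤ CY} {G' : CX' ⥤ CX}
  {a : CY ⥤ CX} {a' : CY' ⥤ CX'} {Lg : CY ⥤ CY'} {Lg' : CX ⥤ CX'}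

/-- The comparison `G' a' M ⟶ a G M`. -/
def xi (adj : F ⊣ a) (adj' : F' ⊣ a')
    (eh : ∀ N : CX', F.obj (G'.obj N) ⟶ G.obj (F'.obj N)) (M : CY') :
    G'.obj (a'.obj M) ⟶ a.obj (G.obj M) :=
  (adj.homEquiv _ _) (eh (a'.obj M) ≫ G.map (adj'.counit.app M))

theorem xi_counit (adj : F ⊣ a) (adj' : F' ⊣ a')
    (eh : ∀ N : CX', F.obj (G'.obj N) ⟶ G.obj (F'.obj N)) (M : CY') :
    F.map (xi adj adj' eh M) ≫ adj.counit.app (G.obj M) =
      eh (a'.obj M) ≫ G.map (adj'.counit.app M) := by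
  have := (adj.homEquiv _ _).symm_apply_apply (eh (a'.obj M) ≫ G.map (adj'.counit.app M))
  rw [Adjunction.homEquiv_counit] at this
  exact this

theorem xi_nat (adj : F ⊣ a) (adj' : F' ⊣ a')
    (eh : ∀ N : CX', F.obj (G'.obj N) ⟶ G.obj (F'.obj N))
    (eh_nat : ∀ {N N' : CX'} (h : N ⟶ N'), F.map (G'.map h) ≫ eh N' = eh N ≫ G.map (F'.map h))
    {N N' : CY'} (h : N ⟶ N') :
    xi adj adj' eh N ≫ a.map (G.map h) = G'.map (a'.map h) ≫ xi adj adj' eh N' := by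
  have h1 : xi adj adj' eh N ≫ a.map (G.map h) =
      (adj.homEquiv _ _) ((eh (a'.obj N) ≫ G.map (adj'.counit.app N)) ≫ G.map h) :=
    (Adjunction.homEquiv_naturality_right adj _ _).symm
  have h2 : G'.map (a'.map h) ≫ xi adj adj' eh N' =
      (adj.homEquiv _ _) (F.map (G'.map (a'.map h)) ≫
        (eh (a'.obj N') ≫ G.map (adj'.counit.app N'))) :=
    (Adjunction.homEquiv_naturality_left adj _ _).symm
  erw [h1, h2]
  refine congrArg (adj.homEquiv _ _) ?_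
  calc (eh (a'.obj N) ≫ G.map (adj'.counit.app N)) ≫ G.map h
      = eh (a'.obj N) ≫ G.map (adj'.counit.app N ≫ h) := by erw [Category.assoc, G.map_comp]
    _ = eh (a'.obj N) ≫ G.map (F'.map (a'.map h) ≫ adj'.counit.app N') := by
        erw [adj'.counit_naturality]
    _ = (eh (a'.obj N) ≫ G.map (F'.map (a'.map h))) ≫ G.map (adj'.counit.app N') := by
        erw [G.map_comp, Category.assoc]
    _ = (F.map (G'.map (a'.map h)) ≫ eh (a'.obj N')) ≫ G.map (adj'.counit.app N') := by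
        erw [eh_nat]
    _ = F.map (G'.map (a'.map h)) ≫ eh (a'.obj N') ≫ G.map (adj'.counit.app N') :=
        Category.assoc _ _ _

theorem xi_unit (adj : F ⊣ a) (adj' : F' ⊣ a')
    (eh : ∀ N : CX', F.obj (G'.obj N) ⟶ G.obj (F'.obj N))
    (eh_nat : ∀ {N N' : CX'} (h : N ⟶ N'), F.map (G'.map h) ≫ eh N' = eh N ≫ G.map (F'.map h))
    (N : CX') :
    adj.unit.app (G'.obj N) ≫ a.map (eh N) =
      G'.map (adj'.unit.app N) ≫ xi adj adj' eh (F'.obj N) := by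
  have h2 : G'.map (adj'.unit.app N) ≫ xi adj adj' eh (F'.obj N) =
      (adj.homEquiv _ _) (F.map (G'.map (adj'.unit.app N)) ≫
        (eh (a'.obj (F'.obj N)) ≫ G.map (adj'.counit.app (F'.obj N)))) :=
    (Adjunction.homEquiv_naturality_left adj _ _).symm
  erw [h2, ← Adjunction.homEquiv_unit]
  refine congrArg (adj.homEquiv _ _) ?_
  symm
  calc F.map (G'.map (adj'.unit.app N)) ≫ eh (a'.obj (F'.obj N)) ≫
        G.map (adj'.counit.app (F'.obj N))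
      = (F.map (G'.map (adj'.unit.app N)) ≫ eh (a'.obj (F'.obj N))) ≫
        G.map (adj'.counit.app (F'.obj N)) := (Category.assoc _ _ _).symm
    _ = (eh N ≫ G.map (F'.map (adj'.unit.app N))) ≫ G.map (adj'.counit.app (F'.obj N)) := by
        erw [eh_nat]; rfl
    _ = eh N ≫ G.map (F'.map (adj'.unit.app N) ≫ adj'.counit.app (F'.obj N)) := by
        erw [Category.assoc, G.map_comp]
    _ = eh N := by erw [adj'.left_triangle_components, G.map_id, Category.comp_id]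

theorem counit_compat (adj : F ⊣ a) (adj' : F' ⊣ a') (adjg : Lg ⊣ G) (adjg' : Lg' ⊣ G')
    (eh : ∀ N : CX', F.obj (G'.obj N) ⟶ G.obj (F'.obj N))
    (eh_nat : ∀ {N N' : CX'} (h : N ⟶ N'), F.map (G'.map h) ≫ eh N' = eh N ≫ G.map (F'.map h))
    (K : CY) (ξi : a.obj (G.obj (Lg.obj K)) ⟶ G'.obj (a'.obj (Lg.obj K)))
    (hξi : ξi ≫ xi adj adj' eh (Lg.obj K) = 𝟙 _) :
    (adjg.homEquiv _ _).symm (F.map (adjg'.unit.app (a.obj K)) ≫ eh (Lg'.obj (a.obj K))) ≫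
      F'.map (Lg'.map (a.map (adjg.unit.app K)) ≫ Lg'.map ξi ≫
        adjg'.counit.app (a'.obj (Lg.obj K))) ≫ adj'.counit.app (Lg.obj K) =
    Lg.map (adj.counit.app K) := by
  have hB : adjg'.unit.app (a.obj K) ≫ G'.map (Lg'.map (a.map (adjg.unit.app K)) ≫ Lg'.map ξi ≫
      adjg'.counit.app (a'.obj (Lg.obj K))) = a.map (adjg.unit.app K) ≫ ξi := by
    erw [← Adjunction.homEquiv_unit, ← Category.assoc, ← Lg'.map_comp, he_map_comp_counit]
  apply (adjg.homEquiv _ _).injective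
  erw [he_symm_comp, he_map]
  generalize (Lg'.map (a.map (adjg.unit.app K)) ≫ Lg'.map ξi ≫
      adjg'.counit.app (a'.obj (Lg.obj K))) = bc at hB ⊢
  calc (F.map (adjg'.unit.app (a.obj K)) ≫ eh (Lg'.obj (a.obj K))) ≫
        G.map (F'.map bc ≫ adj'.counit.app (Lg.obj K))
      = F.map (adjg'.unit.app (a.obj K)) ≫ (eh (Lg'.obj (a.obj K)) ≫ G.map (F'.map bc)) ≫
          G.map (adj'.counit.app (Lg.obj K)) := by
        erw [G.map_comp]; simp only [Category.assoc]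
    _ = F.map (adjg'.unit.app (a.obj K)) ≫ (F.map (G'.map bc) ≫ eh (a'.obj (Lg.obj K))) ≫
          G.map (adj'.counit.app (Lg.obj K)) := by
        erw [eh_nat]
    _ = F.map (adjg'.unit.app (a.obj K) ≫ G'.map bc) ≫
          (eh (a'.obj (Lg.obj K)) ≫ G.map (adj'.counit.app (Lg.obj K))) := by
        erw [F.map_comp]; simp only [Category.assoc]
    _ = F.map (a.map (adjg.unit.app K) ≫ ξi) ≫
          (F.map (xi adj adj' eh (Lg.obj K)) ≫ adj.counit.app (G.obj (Lg.obj K))) := by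
        erw [hB, xi_counit]
    _ = F.map (a.map (adjg.unit.app K)) ≫ F.map (ξi ≫ xi adj adj' eh (Lg.obj K)) ≫
          adj.counit.app (G.obj (Lg.obj K)) := by
        rw [F.map_comp, F.map_comp]; simp only [Category.assoc]
    _ = F.map (a.map (adjg.unit.app K)) ≫ adj.counit.app (G.obj (Lg.obj K)) := by
        erw [hξi, F.map_id, Category.id_comp]
    _ = adj.counit.app K ≫ adjg.unit.app K := adj.counit_naturality _

theorem unit_compat_aux (adj : F ⊣ a) (adj' : F' ⊣ a') (adjg : Lg ⊣ G) (adjg' : Lg' ⊣ G')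
    (eh : ∀ N : CX', F.obj (G'.obj N) ⟶ G.obj (F'.obj N))
    (eh_nat : ∀ {N N' : CX'} (h : N ⟶ N'), F.map (G'.map h) ≫ eh N' = eh N ≫ G.map (F'.map h))
    (M : CX)
    (ξi₁ : a.obj (G.obj (Lg.obj (F.obj M))) ⟶ G'.obj (a'.obj (Lg.obj (F.obj M))))
    (h₁ : ξi₁ ≫ xi adj adj' eh (Lg.obj (F.obj M)) = 𝟙 _)
    (ξi₂ : a.obj (G.obj (F'.obj (Lg'.obj M))) ⟶ G'.obj (a'.obj (F'.obj (Lg'.obj M))))
    (h₂ : xi adj adj' eh (F'.obj (Lg'.obj M)) ≫ ξi₂ = 𝟙 _)
    (bp : Lg.obj (F.obj M) ⟶ F'.obj (Lg'.obj M))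
    (hbp : adjg.unit.app (F.obj M) ≫ G.map bp = F.map (adjg'.unit.app M) ≫ eh (Lg'.obj M)) :
    adj'.unit.app (Lg'.obj M) =
      Lg'.map (adj.unit.app M) ≫
        (Lg'.map (a.map (adjg.unit.app (F.obj M))) ≫ Lg'.map ξi₁ ≫
          adjg'.counit.app (a'.obj (Lg.obj (F.obj M)))) ≫
        a'.map bp := by
  have hC : ξi₁ ≫ G'.map (a'.map bp) = a.map (G.map bp) ≫ ξi₂ := by
    calc ξi₁ ≫ G'.map (a'.map bp) = ξi₁ ≫ G'.map (a'.map bp) ≫ 𝟙 _ := by rw [Category.comp_id]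
      _ = ξi₁ ≫ G'.map (a'.map bp) ≫ xi adj adj' eh (F'.obj (Lg'.obj M)) ≫ ξi₂ := by rw [h₂]
      _ = ξi₁ ≫ (G'.map (a'.map bp) ≫ xi adj adj' eh (F'.obj (Lg'.obj M))) ≫ ξi₂ := by
          simp only [Category.assoc]
      _ = ξi₁ ≫ (xi adj adj' eh (Lg.obj (F.obj M)) ≫ a.map (G.map bp)) ≫ ξi₂ := by
          rw [xi_nat adj adj' eh eh_nat bp]
      _ = (ξi₁ ≫ xi adj adj' eh (Lg.obj (F.obj M))) ≫ a.map (G.map bp) ≫ ξi₂ := by
          simp only [Category.assoc]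
      _ = a.map (G.map bp) ≫ ξi₂ := by rw [h₁, Category.id_comp]
  have hR : adjg'.homEquiv _ _ (Lg'.map (adj.unit.app M) ≫
        (Lg'.map (a.map (adjg.unit.app (F.obj M))) ≫ Lg'.map ξi₁ ≫
          adjg'.counit.app (a'.obj (Lg.obj (F.obj M)))) ≫ a'.map bp) =
      adj.unit.app M ≫ (a.map (adjg.unit.app (F.obj M)) ≫ ξi₁) ≫ G'.map (a'.map bp) := by
    refine (he_map_comp adjg' _ _).trans ?_
    refine congrArg (fun t => adj.unit.app M ≫ t) ?_
    refine (Adjunction.homEquiv_naturality_right adjg' _ _).trans ?_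
    refine congrArg (fun t => t ≫ G'.map (a'.map bp)) ?_
    have : Lg'.map (a.map (adjg.unit.app (F.obj M))) ≫ Lg'.map ξi₁ ≫
          adjg'.counit.app (a'.obj (Lg.obj (F.obj M))) =
        Lg'.map (a.map (adjg.unit.app (F.obj M)) ≫ ξi₁) ≫
          adjg'.counit.app (a'.obj (Lg.obj (F.obj M))) := by
      rw [Lg'.map_comp, Category.assoc]
    rw [this]
    exact he_map_comp_counit adjg' _
  apply (adjg'.homEquiv _ _).injective
  refine Eq.trans ?_ hR.symm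
  refine (Adjunction.homEquiv_unit adjg' _ _ _).trans ?_
  symm
  calc adj.unit.app M ≫ (a.map (adjg.unit.app (F.obj M)) ≫ ξi₁) ≫ G'.map (a'.map bp)
      = adj.unit.app M ≫ a.map (adjg.unit.app (F.obj M)) ≫ (ξi₁ ≫ G'.map (a'.map bp)) := by
        simp only [Category.assoc]
    _ = adj.unit.app M ≫ a.map (adjg.unit.app (F.obj M)) ≫ (a.map (G.map bp) ≫ ξi₂) := by
        rw [hC]
    _ = adj.unit.app M ≫ a.map (adjg.unit.app (F.obj M) ≫ G.map bp) ≫ ξi₂ := by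
        rw [a.map_comp]; simp only [Category.assoc]
    _ = adj.unit.app M ≫ a.map (F.map (adjg'.unit.app M) ≫ eh (Lg'.obj M)) ≫ ξi₂ := by
        rw [hbp]
    _ = (adj.unit.app M ≫ a.map (F.map (adjg'.unit.app M))) ≫ a.map (eh (Lg'.obj M)) ≫ ξi₂ := by
        rw [a.map_comp]; simp only [Category.assoc]
    _ = (adjg'.unit.app M ≫ adj.unit.app (G'.obj (Lg'.obj M))) ≫
          a.map (eh (Lg'.obj M)) ≫ ξi₂ :=
        congrArg (fun t => t ≫ a.map (eh (Lg'.obj M)) ≫ ξi₂) (adj.unit_naturality _)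
    _ = adjg'.unit.app M ≫ (adj.unit.app (G'.obj (Lg'.obj M)) ≫ a.map (eh (Lg'.obj M))) ≫ ξi₂ := by
        simp only [Category.assoc]
    _ = adjg'.unit.app M ≫ (G'.map (adj'.unit.app (Lg'.obj M)) ≫
          xi adj adj' eh (F'.obj (Lg'.obj M))) ≫ ξi₂ := by
        rw [xi_unit adj adj' eh eh_nat]
    _ = adjg'.unit.app M ≫ G'.map (adj'.unit.app (Lg'.obj M)) ≫
          (xi adj adj' eh (F'.obj (Lg'.obj M)) ≫ ξi₂) := by
        simp only [Category.assoc]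
    _ = adjg'.unit.app M ≫ G'.map (adj'.unit.app (Lg'.obj M)) := by
        rw [h₂]; erw [Category.comp_id]

theorem unit_compat (adj : F ⊣ a) (adj' : F' ⊣ a') (adjg : Lg ⊣ G) (adjg' : Lg' ⊣ G')
    (eh : ∀ N : CX', F.obj (G'.obj N) ⟶ G.obj (F'.obj N))
    (eh_nat : ∀ {N N' : CX'} (h : N ⟶ N'), F.map (G'.map h) ≫ eh N' = eh N ≫ G.map (F'.map h))
    (M : CX)
    (ξi₁ : a.obj (G.obj (Lg.obj (F.obj M))) ⟶ G'.obj (a'.obj (Lg.obj (F.obj M))))
    (h₁ : ξi₁ ≫ xi adj adj' eh (Lg.obj (F.obj M)) = 𝟙 _)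
    (ξi₂ : a.obj (G.obj (F'.obj (Lg'.obj M))) ⟶ G'.obj (a'.obj (F'.obj (Lg'.obj M))))
    (h₂ : xi adj adj' eh (F'.obj (Lg'.obj M)) ≫ ξi₂ = 𝟙 _) :
    adj'.unit.app (Lg'.obj M) =
      Lg'.map (adj.unit.app M) ≫
        (Lg'.map (a.map (adjg.unit.app (F.obj M))) ≫ Lg'.map ξi₁ ≫
          adjg'.counit.app (a'.obj (Lg.obj (F.obj M)))) ≫
        a'.map ((adjg.homEquiv _ _).symm (F.map (adjg'.unit.app M) ≫ eh (Lg'.obj M))) :=
  unit_compat_aux adj adj' adjg adjg' eh eh_nat M ξi₁ h₁ ξi₂ h₂ _ (he_symm adjg _)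

end H2Mates
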