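import Mathlib

/-! Freeness of a module detected modulo a nilpotent ideal and on a jointly injective family of
algebras (helper2). -/

set_option autoImplicit false

universe u

namespace Groth.Agent.Lib.helper2

open scoped TensorProduct

section Nak

variable {A : Type*} [CommRing A] {M : Type*} [AddCommGroup M] [Module A M]

theorem h2_le_sup_pow_smul (J : Ideal A) (N : Submodule A M) (h : ⊤ ≤ N ⊔ J • (⊤ : Submodule A M)) :
    ∀ k : ℕ, ⊤ ≤ N ⊔ (J ^ k) • (⊤ : Submodule A M) := by
  intro k
  induction k with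
  | zero => simp
  | succ k ih =>
    calc (⊤ : Submodule A M) ≤ N ⊔ J • (⊤ : Submodule A M) := h
      _ ≤ N ⊔ J • (N ⊔ (J ^ k) • (⊤ : Submodule A M)) := by
        gcongr
      _ = N ⊔ (J • N ⊔ (J ^ (k + 1)) • (⊤ : Submodule A M)) := by
        rw [Submodule.smul_sup, ← Submodule.mul_smul, pow_succ']
      _ ≤ N ⊔ (J ^ (k + 1)) • (⊤ : Submodule A M) := by
        apply sup_le le_sup_left
        apply sup_le (le_trans Submodule.smul_le_right le_sup_left) le_sup_right

theorem h2_eq_top_of_sup_smul (J : Ideal A) (hJ : IsNilpotent J) (N : Submodule A M)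
    (h : ⊤ ≤ N ⊔ J • (⊤ : Submodule A M)) : N = ⊤ := by
  obtain ⟨k, hk⟩ := hJ
  have := h2_le_sup_pow_smul J N h k
  rw [hk] at this
  simpa using this

theorem h2_le_pow_smul (J : Ideal A) (K : Submodule A M) (h : K ≤ J • K) :
    ∀ k : ℕ, K ≤ (J ^ k) • K := by
  intro k
  induction k with
  | zero => simp
  | succ k ih =>
    calc K ≤ J • K := h
      _ ≤ J • ((J ^ k) • K) := Submodule.smul_mono le_rfl ih
      _ = (J ^ (k + 1)) • K := by rw [← Submodule.mul_smul, pow_succ']

theorem h2_eq_bot_of_le_smul (J : Ideal A) (hJ : IsNilpotent J) (K : Submodule A M)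
    (h : K ≤ J • K) : K = ⊥ := by
  obtain ⟨k, hk⟩ := hJ
  have := h2_le_pow_smul J K h k
  rw [hk] at this
  simpa using this

end Nak

section Split

variable {A : Type*} [CommRing A] {R : Type*} [CommRing R] [Algebra A R]
  {F M : Type*} [AddCommGroup F] [Module A F] [Module R F] [IsScalarTower A R F]
  [AddCommGroup M] [Module A M] [Module R M] [IsScalarTower A R M]

/-- a split surjection which is "injective modulo a nilpotent ideal" is injective -/
theorem h2_injective_of_split (J : Ideal A) (hJ : IsNilpotent J) (φ : F →ₗ[R] M) (σ : M →ₗ[R] F)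
    (hσ : φ ∘ₗ σ = LinearMap.id)
    (H : ∀ z : F, φ z ∈ J • (⊤ : Submodule A M) → z ∈ J • (⊤ : Submodule A F)) :
    Function.Injective φ := by
  let φA : F →ₗ[A] M := φ.restrictScalars A
  let π : F →ₗ[A] F := LinearMap.id - (σ.restrictScalars A) ∘ₗ φA
  have hπK : ∀ z, π z ∈ LinearMap.ker φA := by
    intro z
    rw [LinearMap.mem_ker]
    have h1 : φ (σ (φ z)) = φ z := congrArg (fun L : M →ₗ[R] M => L (φ z)) hσ
    simp only [π, φA, LinearMap.sub_apply, LinearMap.id_apply, LinearMap.comp_apply,
      LinearMap.restrictScalars_apply, map_sub, h1, sub_self]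
  have hπid : ∀ y ∈ LinearMap.ker φA, π y = y := by
    intro y hy
    have : φ y = 0 := hy
    simp [π, φA, this]
  have hK : LinearMap.ker φA ≤ J • LinearMap.ker φA := by
    intro y hy
    have hy0 : φ y = 0 := hy
    have h1 : y ∈ J • (⊤ : Submodule A F) := H y (by rw [hy0]; exact Submodule.zero_mem _)
    have h2 : π y ∈ (J • (⊤ : Submodule A F)).map π := Submodule.mem_map_of_mem h1
    rw [Submodule.map_smul'', hπid y hy] at h2
    refine Submodule.smul_mono le_rfl ?_ h2
    rintro _ ⟨z, -, rfl⟩
    exact hπK z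
  have hbot := h2_eq_bot_of_le_smul J hJ _ hK
  rw [← LinearMap.ker_eq_bot]
  have : LinearMap.ker φA = ⊥ := hbot
  rw [LinearMap.ker_eq_bot] at this ⊢
  exact this

end Split


section Main

variable {A : Type u} [CommRing A] (J : Ideal A)
  (M : Type u) [AddCommGroup M] [Module A M]

theorem h2_mem_smul_top_of_tmul_eq_zero (y : M) (h : (1 : A ⧸ J) ⊗ₜ[A] y = 0) :
    y ∈ J • (⊤ : Submodule A M) := by
  have := congrArg (TensorProduct.quotTensorEquivQuotSMul M J) h
  rw [TensorProduct.quotTensorEquivQuotSMul_mk_one_tmul, map_zero,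
    Submodule.Quotient.mk_eq_zero] at this
  exact this

theorem h2_smul_quot_tmul (a : A) (z : (A ⧸ J) ⊗[A] M) :
    a • z = (Ideal.Quotient.mk J a) • z := by
  rw [← algebraMap_smul (A ⧸ J) a z]
  rfl

variable {J M}

theorem h2_free_of_nilpotent_family (hJ : IsNilpotent J)
    {ι : Type u} (B : ι → Type u) [∀ i, CommRing (B i)] [∀ i, Algebra A (B i)]
    (hB : ∀ a : A, (∀ i, algebraMap A (B i) a = 0) → a = 0)
    (hfree : ∀ i, Module.Free (B i) (B i ⊗[A] M)) (hfreeJ : Module.Free (A ⧸ J) ((A ⧸ J) ⊗[A] M)) :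
    Module.Free A M := by
  classical
  let κ := Module.Free.ChooseBasisIndex (A ⧸ J) ((A ⧸ J) ⊗[A] M)
  let bJ : Module.Basis κ (A ⧸ J) ((A ⧸ J) ⊗[A] M) := Module.Free.chooseBasis _ _
  have hmk : Function.Surjective (TensorProduct.mk A (A ⧸ J) M 1) :=
    TensorProduct.mk_surjective A M (A ⧸ J) Ideal.Quotient.mk_surjective
  choose m hm using fun k => hmk (bJ k)
  have hm' : ∀ k, (1 : A ⧸ J) ⊗ₜ[A] m k = bJ k := hm
  let φ : (κ →₀ A) →ₗ[A] M := Finsupp.linearCombination A m
  have hkey : ∀ x : κ →₀ A, (1 : A ⧸ J) ⊗ₜ[A] φ x =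
      Finsupp.linearCombination (A ⧸ J) bJ (x.mapRange (Ideal.Quotient.mk J) (map_zero _)) := by
    intro x
    induction x using Finsupp.induction_linear with
    | zero => simp
    | add x y hx hy =>
      rw [map_add, TensorProduct.tmul_add, hx, hy, Finsupp.mapRange_add (by intro a b; exact map_add _ a b),
        map_add]
    | single k a =>
      rw [Finsupp.mapRange_single, Finsupp.linearCombination_single]
      simp only [φ, Finsupp.linearCombination_single]
      rw [TensorProduct.tmul_smul, hm', h2_smul_quot_tmul]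
  -- surjectivity
  have hsurj : Function.Surjective φ := by
    rw [← LinearMap.range_eq_top]
    apply h2_eq_top_of_sup_smul J hJ
    intro m₀ _
    obtain ⟨c, hc⟩ := Finsupp.mapRange_surjective (Ideal.Quotient.mk J) (map_zero _)
      Ideal.Quotient.mk_surjective (bJ.repr ((1 : A ⧸ J) ⊗ₜ[A] m₀))
    have h1 : (1 : A ⧸ J) ⊗ₜ[A] (m₀ - φ c) = 0 := by
      rw [TensorProduct.tmul_sub, hkey, hc, Module.Basis.linearCombination_repr, sub_self]
    have h2 := h2_mem_smul_top_of_tmul_eq_zero J M _ h1
    have : m₀ = φ c + (m₀ - φ c) := by abel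
    rw [this]
    exact Submodule.add_mem_sup (LinearMap.mem_range_self φ c) h2
  -- kernel inside J • ⊤
  have hker : LinearMap.ker φ ≤ J • (⊤ : Submodule A (κ →₀ A)) := by
    intro x hx
    have hx0 : φ x = 0 := hx
    have h1 := hkey x
    rw [hx0, TensorProduct.tmul_zero] at h1
    have h2 : x.mapRange (Ideal.Quotient.mk J) (map_zero _) = 0 := by
      have := bJ.linearIndependent
      rw [linearIndependent_iff] at this
      exact this _ h1.symm
    have h3 : ∀ k, x k ∈ J := by
      intro k
      have := congrArg (fun f : κ →₀ A ⧸ J => f k) h2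
      simpa [Ideal.Quotient.eq_zero_iff_mem] using this
    rw [← Finsupp.sum_single x]
    refine Submodule.sum_mem _ fun k _ => ?_
    have : Finsupp.single k (x k) = (x k) • Finsupp.single k (1 : A) := by
      rw [Finsupp.smul_single, smul_eq_mul, mul_one]
    rw [this]
    exact Submodule.smul_mem_smul (h3 k) Submodule.mem_top
  -- the map ρ
  let Q := (κ →₀ A) ⧸ (J • (⊤ : Submodule A (κ →₀ A)))
  let mkQ : (κ →₀ A) →ₗ[A] Q := Submodule.mkQ _
  let ρ : M →ₗ[A] Q :=
    ((LinearMap.ker φ).liftQ mkQ (by rw [Submodule.ker_mkQ]; exact hker)) ∘ₗ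
      (φ.quotKerEquivOfSurjective hsurj).symm.toLinearMap
  have hρ : ∀ x, ρ (φ x) = mkQ x := by
    intro x
    have : (φ.quotKerEquivOfSurjective hsurj).symm (φ x) = Submodule.Quotient.mk x := by
      rw [LinearEquiv.symm_apply_eq]
      rfl
    simp only [ρ, LinearMap.comp_apply, LinearEquiv.coe_coe]
    rw [this, Submodule.liftQ_apply]
  have hJQ : ∀ a ∈ J, ∀ q : Q, a • q = 0 := by
    intro a ha q
    obtain ⟨x, rfl⟩ := Submodule.Quotient.mk_surjective _ q
    rw [← Submodule.Quotient.mk_smul, Submodule.Quotient.mk_eq_zero]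
    exact Submodule.smul_mem_smul ha Submodule.mem_top
  -- injectivity
  have hinj : Function.Injective φ := by
    rw [← LinearMap.ker_eq_bot, eq_bot_iff]
    intro x hx
    have hx0 : φ x = 0 := hx
    rw [Submodule.mem_bot]
    ext k
    rw [Finsupp.zero_apply]
    apply hB
    intro i
    haveI := hfree i
    -- base change to `B i`
    let φi : (B i) ⊗[A] (κ →₀ A) →ₗ[B i] (B i) ⊗[A] M := φ.baseChange (B i)
    have hφi_surj : Function.Surjective φi := LinearMap.lTensor_surjective _ hsurj
    obtain ⟨σ, hσ⟩ := Module.projective_lifting_property φi LinearMap.id hφi_surj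
    have h4 : ∀ z : (B i) ⊗[A] (κ →₀ A),
        (LinearMap.lTensor (B i) ρ) (φi z) = LinearMap.lTensor (B i) mkQ z := by
      intro z
      induction z using TensorProduct.induction_on with
      | zero => simp
      | tmul b x =>
        simp only [φi, LinearMap.baseChange_tmul, LinearMap.lTensor_tmul, hρ]
      | add y y' hy hy' => rw [map_add, map_add, map_add, hy, hy']
    have hrange : ∀ w : (B i) ⊗[A] ↥(J • (⊤ : Submodule A (κ →₀ A))),
        LinearMap.lTensor (B i) (J • (⊤ : Submodule A (κ →₀ A))).subtype w ∈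
          J • (⊤ : Submodule A ((B i) ⊗[A] (κ →₀ A))) := by
      intro w
      induction w using TensorProduct.induction_on with
      | zero => simp
      | tmul b x =>
        obtain ⟨x, hx⟩ := x
        rw [LinearMap.lTensor_tmul, Submodule.subtype_apply]
        refine Submodule.smul_induction_on (p := fun x => b ⊗ₜ[A] x ∈
          J • (⊤ : Submodule A ((B i) ⊗[A] (κ →₀ A)))) hx ?_ ?_
        · intro a ha f _
          rw [TensorProduct.tmul_smul]
          exact Submodule.smul_mem_smul ha Submodule.mem_top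
        · intro f f' hf hf'
          rw [TensorProduct.tmul_add]
          exact Submodule.add_mem _ hf hf'
      | add y y' hy hy' =>
        rw [map_add]
        exact Submodule.add_mem _ hy hy'
    have hJQ' : ∀ a ∈ J, ∀ y : (B i) ⊗[A] Q, a • y = 0 := by
      intro a ha y
      induction y using TensorProduct.induction_on with
      | zero => simp
      | tmul b q => rw [← TensorProduct.tmul_smul, hJQ a ha, TensorProduct.tmul_zero]
      | add y y' hy hy' => rw [smul_add, hy, hy', add_zero]
    have h2 : J • ((⊤ : Submodule A ((B i) ⊗[A] M)).map (LinearMap.lTensor (B i) ρ)) ≤ ⊥ := by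
      rw [Submodule.smul_le]
      intro a ha y _
      rw [Submodule.mem_bot]
      exact hJQ' a ha y
    have hH : ∀ z : (B i) ⊗[A] (κ →₀ A), φi z ∈ J • (⊤ : Submodule A ((B i) ⊗[A] M)) →
        z ∈ J • (⊤ : Submodule A ((B i) ⊗[A] (κ →₀ A))) := by
      intro z hz
      have h1 : (LinearMap.lTensor (B i) ρ) (φi z) ∈
          (J • (⊤ : Submodule A ((B i) ⊗[A] M))).map (LinearMap.lTensor (B i) ρ) :=
        Submodule.mem_map_of_mem hz
      rw [Submodule.map_smul''] at h1
      have h3 : (LinearMap.lTensor (B i) ρ) (φi z) = 0 := by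
        have := h2 h1
        rwa [Submodule.mem_bot] at this
      rw [h4] at h3
      have h5 : z ∈ LinearMap.ker (LinearMap.lTensor (B i) (Submodule.mkQ
          (J • (⊤ : Submodule A (κ →₀ A))))) := h3
      rw [lTensor_mkQ] at h5
      obtain ⟨w, rfl⟩ := h5
      exact hrange w
    have hinji : Function.Injective φi := h2_injective_of_split J hJ φi σ hσ hH
    have h1 : φi ((1 : B i) ⊗ₜ[A] x) = 0 := by
      simp only [φi, LinearMap.baseChange_tmul, hx0, TensorProduct.tmul_zero]
    have h2 : ((1 : B i) ⊗ₜ[A] x : (B i) ⊗[A] (κ →₀ A)) = 0 := hinji (by rw [h1, map_zero])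
    have h3 := congrArg (fun t => TensorProduct.rid A (B i)
      (LinearMap.lTensor (B i) (Finsupp.lapply k : (κ →₀ A) →ₗ[A] A) t)) h2
    simp only [LinearMap.lTensor_tmul, Finsupp.lapply_apply, TensorProduct.rid_tmul, map_zero] at h3
    rw [Algebra.algebraMap_eq_smul_one]
    exact h3
  exact Module.Free.of_equiv (LinearEquiv.ofBijective φ ⟨hinj, hsurj⟩)

end Main

end Groth.Agent.Lib.helper2
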