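import Mathlib
import Groth.Prelude.Def_EGA41
import Groth.Agent.Lib.helper2.PBasis

/-! `p`-bases when `A → B` is injective with image containing `B^p`. -/

universe u

open EGA41

section
variable (p : ℕ) [Fact p.Prime] {A B : Type u} [CommRing A] [CommRing B] [Algebra A B] {ι : Type u}

theorem h2_ppow_range (hpow : ∀ b : B, b ^ p ∈ Set.range (algebraMap A B))
    (r : pPowerSubalgebra p A B) : (r : B) ∈ Set.range (algebraMap A B) := by
  have h := h2_ppow_le p (⊥ : Subalgebra A B) (fun b => Algebra.mem_bot.mpr (hpow b))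
  exact Algebra.mem_bot.mp (h r.2)

noncomputable def h2_ppowEquiv (hinj : Function.Injective (algebraMap A B))
    (hpow : ∀ b : B, b ^ p ∈ Set.range (algebraMap A B)) : A ≃+* pPowerSubalgebra p A B :=
  RingEquiv.ofBijective (algebraMap A (pPowerSubalgebra p A B))
    ⟨fun a a' h => hinj (congrArg Subtype.val h), fun r => by
      obtain ⟨a, ha⟩ := h2_ppow_range p hpow r
      exact ⟨a, Subtype.ext ha⟩⟩

theorem h2_ppowEquiv_coe (hinj : Function.Injective (algebraMap A B))
    (hpow : ∀ b : B, b ^ p ∈ Set.range (algebraMap A B)) (a : A) :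
    ((h2_ppowEquiv p hinj hpow a : pPowerSubalgebra p A B) : B) = algebraMap A B a := rfl

theorem h2_pbasis_genA (x : ι → B) (hx : IsPGenerating p A x)
    (hpow : ∀ b : B, b ^ p ∈ Set.range (algebraMap A B)) :
    Algebra.adjoin A (Set.range x) = ⊤ :=
  h2_pgen_top p x hx _ (fun b => by
    obtain ⟨a, ha⟩ := hpow b
    rw [← ha]
    exact Subalgebra.algebraMap_mem _ a) (fun i => Algebra.subset_adjoin (Set.mem_range_self i))

theorem h2_pbasis_extA (x : ι → B) (hx : IsPGenerating p A x)
    (hpow : ∀ b : B, b ^ p ∈ Set.range (algebraMap A B))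
    {E : Type*} [Semiring E] [Algebra A E] (v w : B →ₐ[A] E) (h : ∀ i, v (x i) = w (x i)) :
    v = w := by
  refine AlgHom.ext_of_adjoin_eq_top (h2_pbasis_genA p x hx hpow) ?_
  rintro _ ⟨i, rfl⟩
  exact h i

theorem h2_pbasis_liftA (hinj : Function.Injective (algebraMap A B))
    (hpow : ∀ b : B, b ^ p ∈ Set.range (algebraMap A B)) (x : ι → B) (hx : IsPBasis p A x)
    {E : Type*} [CommRing E] [Algebra A E] (z : ι → E)
    (hz : ∀ i a, algebraMap A B a = x i ^ p → z i ^ p = algebraMap A E a) :
    ∃ v : B →ₐ[A] E, ∀ i, v (x i) = z i := by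
  let e := h2_ppowEquiv p hinj hpow
  letI : Algebra (pPowerSubalgebra p A B) E :=
    ((algebraMap A E).comp e.symm.toRingHom).toAlgebra
  let c : ι → pPowerSubalgebra p A B := fun i => ⟨x i ^ p, h2_ppow_mem p (x i)⟩
  have hz' : ∀ i, z i ^ p = algebraMap (pPowerSubalgebra p A B) E (c i) := by
    intro i
    show z i ^ p = algebraMap A E (e.symm (c i))
    apply hz
    have h1 : ((e (e.symm (c i)) : pPowerSubalgebra p A B) : B) = x i ^ p := by
      rw [e.apply_symm_apply]
    exact h1
  obtain ⟨v, hv⟩ := h2_plift p (Fact.out : p.Prime).pos x c (fun i => rfl) hx.1 hx.2 z hz'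
  refine ⟨{ toRingHom := v.toRingHom, commutes' := fun a => ?_ }, hv⟩
  show v (algebraMap A B a) = algebraMap A E a
  have h1 : algebraMap A B a = algebraMap (pPowerSubalgebra p A B) B (e a) := rfl
  rw [h1, v.commutes]
  show algebraMap A E (e.symm (e a)) = _
  rw [e.symm_apply_apply]

end
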