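import Mathlib
import Groth.Prelude.Def_EGA41
import Groth.Agent.Lib.helper2.PBasisA

/-! Extension of (absolute) derivations along a `p`-basis. -/

universe u

open EGA41

section
variable (p : ℕ) [Fact p.Prime] {A B : Type u} [CommRing A] [CommRing B] [Algebra A B] [CharP B p]
  {ι : Type u}

theorem h2_pbasis_derivExt (hinj : Function.Injective (algebraMap A B))
    (hpow : ∀ b : B, b ^ p ∈ Set.range (algebraMap A B)) (x : ι → B) (hx : IsPBasis p A x)
    (L : Type u) [AddCommGroup L] [Module B L] [Module Bᵐᵒᵖ L] [IsCentralScalar B L]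
    [Module A L] [IsScalarTower A B L] (D : Derivation ℤ A L)
    (hD : ∀ (a : A) (b : B), algebraMap A B a = b ^ p → D a = 0) (y : ι → L) :
    ∃ D' : Derivation ℤ B L, (∀ a : A, D' (algebraMap A B a) = D a) ∧ ∀ i, D' (x i) = y i := by
  have hfst : ∀ (β : B) (l : L),
      (TrivSqZeroExt.inl β + TrivSqZeroExt.inr l : TrivSqZeroExt B L).fst = β := by
    intro β l; simp
  have hsnd : ∀ (β : B) (l : L),
      (TrivSqZeroExt.inl β + TrivSqZeroExt.inr l : TrivSqZeroExt B L).snd = l := by
    intro β l; simp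
  let ψA : A →+* TrivSqZeroExt B L :=
    { toFun := fun a => TrivSqZeroExt.inl (algebraMap A B a) + TrivSqZeroExt.inr (D a)
      map_one' := by
        refine TrivSqZeroExt.ext ?_ ?_
        · rw [hfst, map_one, TrivSqZeroExt.fst_one]
        · rw [hsnd, Derivation.map_one_eq_zero, TrivSqZeroExt.snd_one]
      map_mul' := fun a b => by
        refine TrivSqZeroExt.ext ?_ ?_
        · rw [hfst, TrivSqZeroExt.fst_mul, hfst, hfst, map_mul]
        · rw [hsnd, TrivSqZeroExt.snd_mul, hfst, hfst, hsnd, hsnd, Derivation.leibniz,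
            op_smul_eq_smul, algebraMap_smul, algebraMap_smul]
      map_zero' := by
        refine TrivSqZeroExt.ext ?_ ?_
        · rw [hfst, map_zero, TrivSqZeroExt.fst_zero]
        · rw [hsnd, map_zero, TrivSqZeroExt.snd_zero]
      map_add' := fun a b => by
        refine TrivSqZeroExt.ext ?_ ?_
        · rw [hfst, TrivSqZeroExt.fst_add, hfst, hfst, map_add]
        · rw [hsnd, TrivSqZeroExt.snd_add, hsnd, hsnd, map_add] }
  have hψA1 : ∀ a, (ψA a).fst = algebraMap A B a := fun a => hfst _ _
  have hψA2 : ∀ a, (ψA a).snd = D a := fun a => hsnd _ _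
  let e := h2_ppowEquiv p hinj hpow
  let c : ι → pPowerSubalgebra p A B := fun i => ⟨x i ^ p, h2_ppow_mem p (x i)⟩
  have he : ∀ r : pPowerSubalgebra p A B, algebraMap A B (e.symm r) = (r : B) := by
    intro r
    have h1 : ((e (e.symm r) : pPowerSubalgebra p A B) : B) = (r : B) := by
      rw [e.apply_symm_apply]
    exact h1
  obtain ⟨v, hv1, hv2, hv3⟩ := h2_pbasis_tsze (C := pPowerSubalgebra p A B) p x c
    (fun i => rfl) hx.1 hx.2 (M := L) (ψA.comp e.symm.toRingHom)
    (fun r => by
      show (ψA (e.symm r)).fst = (r : B)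
      rw [hψA1, he])
    (fun i => by
      show (ψA (e.symm (c i))).snd = 0
      rw [hψA2]
      exact hD _ (x i) (he (c i))) y
  let D₀ : B →ₗ[ℤ] L :=
    (({ toFun := fun b => (v b).snd
        map_zero' := by rw [map_zero, TrivSqZeroExt.snd_zero]
        map_add' := fun a b => by rw [map_add, TrivSqZeroExt.snd_add] } : B →+ L)).toIntLinearMap
  let D' : Derivation ℤ B L := Derivation.mk' D₀ (fun a b => by
      show (v (a * b)).snd = a • (v b).snd + b • (v a).snd
      rw [map_mul, TrivSqZeroExt.snd_mul, hv1, hv1, op_smul_eq_smul])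
  refine ⟨D', fun a => ?_, fun i => ?_⟩
  · show (v (algebraMap A B a)).snd = D a
    have h1 : algebraMap A B a = algebraMap (pPowerSubalgebra p A B) B (e a) := rfl
    rw [h1, hv2]
    show (ψA (e.symm (e a))).snd = D a
    rw [e.symm_apply_apply, hψA2]
  · show (v (x i)).snd = y i
    rw [hv3, hsnd]

omit [Fact (Nat.Prime p)] [CharP B p] in
theorem h2_pbasis_derivUnique
    (hpow : ∀ b : B, b ^ p ∈ Set.range (algebraMap A B)) (x : ι → B) (hx : IsPGenerating p A x)
    (L : Type u) [AddCommGroup L] [Module B L] (D₁ D₂ : Derivation ℤ B L)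
    (hA : ∀ a : A, D₁ (algebraMap A B a) = D₂ (algebraMap A B a))
    (hxi : ∀ i, D₁ (x i) = D₂ (x i)) : D₁ = D₂ := by
  let T : Subalgebra A B :=
    { carrier := {b | D₁ b = D₂ b}
      mul_mem' := fun {a b} ha hb => by
        show D₁ (a * b) = D₂ (a * b)
        have ha' : D₁ a = D₂ a := ha
        have hb' : D₁ b = D₂ b := hb
        rw [Derivation.leibniz, Derivation.leibniz, ha', hb']
      one_mem' := by
        show D₁ 1 = D₂ 1
        rw [Derivation.map_one_eq_zero, Derivation.map_one_eq_zero]
      add_mem' := fun {a b} ha hb => by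
        show D₁ (a + b) = D₂ (a + b)
        have ha' : D₁ a = D₂ a := ha
        have hb' : D₁ b = D₂ b := hb
        rw [map_add, map_add, ha', hb']
      zero_mem' := by
        show D₁ 0 = D₂ 0
        rw [map_zero, map_zero]
      algebraMap_mem' := fun r => hA r }
  have hT : T = ⊤ := h2_pgen_top p x hx T (fun b => by
    obtain ⟨a, ha⟩ := hpow b
    rw [← ha]
    exact hA a) hxi
  refine Derivation.ext (fun b => ?_)
  have hb : b ∈ T := by rw [hT]; trivial
  exact hb

end
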