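import Mathlib
import Groth.Prelude.Def_EGA41
import Groth.Agent.Lib.helper2.PField2
import Groth.Agent.S2466

/-! Descent of linear independence along a filtered decreasing family of subfields, and the
carrier of `L[K^p]`. -/

universe u

open EGA41

theorem h2_linIndep_transfer {K : Type*} [Field K] {R₁ R₂ : Type*} [CommRing R₁] [CommRing R₂]
    [Algebra R₁ K] [Algebra R₂ K] (hinj : Function.Injective (algebraMap R₁ K))
    (hsub : Set.range (algebraMap R₁ K) ⊆ Set.range (algebraMap R₂ K))
    {σ : Type*} (v : σ → K) (h : LinearIndependent R₂ v) : LinearIndependent R₁ v := by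
  classical
  rw [linearIndependent_iff'] at h ⊢
  intro s g hg i hi
  choose g' hg' using fun j => hsub ⟨g j, rfl⟩
  have h1 : ∑ j ∈ s, g' j • v j = 0 := by
    rw [← hg]
    refine Finset.sum_congr rfl (fun j _ => ?_)
    rw [Algebra.smul_def, Algebra.smul_def, hg']
  have h2 := h s g' h1 i hi
  apply hinj
  rw [← hg', h2, map_zero, map_zero]

theorem h2_linIndep_descend {k₀ K : Type*} [Field k₀] [Field K] [Algebra k₀ K] {ι : Type*}
    [Preorder ι] [IsDirected ι (· ≤ ·)] [Nonempty ι]
    (E : ι → IntermediateField k₀ K) (hE : Antitone E) :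
    ∀ (n : ℕ) (v : Fin n → K), LinearIndependent ↥(⨅ i, E i) v →
      ∃ i, LinearIndependent ↥(E i) v := by
  classical
  have hsm : ∀ (L : IntermediateField k₀ K) (a : ↥L) (y : K), a • y = (a : K) * y :=
    fun L a y => rfl
  intro n
  induction n with
  | zero =>
    intro v _
    exact ⟨Classical.arbitrary ι, linearIndependent_empty_type⟩
  | succ n ih =>
    intro v hv
    have hv' : LinearIndependent ↥(⨅ i, E i) (Fin.tail v) :=
      hv.comp Fin.succ (Fin.succ_injective n)
    obtain ⟨i₀, hi₀⟩ := ih (Fin.tail v) hv'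
    by_contra hcon
    push_neg at hcon
    have hmono : ∀ j, i₀ ≤ j → LinearIndependent ↥(E j) (Fin.tail v) := fun j hj =>
      h2_linIndep_transfer (R₁ := ↥(E j)) (R₂ := ↥(E i₀)) Subtype.val_injective (by
        rintro _ ⟨c, rfl⟩
        exact ⟨⟨c.1, hE hj c.2⟩, rfl⟩) _ hi₀
    have hspan : ∀ j, i₀ ≤ j → v 0 ∈ Submodule.span ↥(E j) (Set.range (Fin.tail v)) := by
      intro j hj
      by_contra hns
      apply hcon j
      have h1 := (linearIndependent_finCons (K := ↥(E j)) (x := v 0) (v := Fin.tail v)).mpr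
        ⟨hmono j hj, hns⟩
      rwa [Fin.cons_self_tail] at h1
    obtain ⟨c, hc⟩ := (Submodule.mem_span_range_iff_exists_fun _).mp (hspan i₀ le_rfl)
    have hcmem : ∀ m j, (c m : K) ∈ E j := by
      intro m j
      obtain ⟨j', hj'0, hj'j⟩ := exists_ge_ge i₀ j
      obtain ⟨c', hc'⟩ := (Submodule.mem_span_range_iff_exists_fun _).mp (hspan j' hj'0)
      have hE' : ∀ m, (c' m : K) ∈ E i₀ := fun m => hE hj'0 (c' m).2
      have hdiff : ∑ m, ((c m) - ⟨(c' m : K), hE' m⟩ : ↥(E i₀)) • Fin.tail v m = 0 := by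
        simp only [sub_smul, Finset.sum_sub_distrib]
        rw [hc]
        have h1 : ∑ m, (⟨(c' m : K), hE' m⟩ : ↥(E i₀)) • Fin.tail v m = v 0 := by
          rw [← hc']
          exact Finset.sum_congr rfl (fun m _ => rfl)
        rw [h1, sub_self]
      have h2 := (Fintype.linearIndependent_iff.mp hi₀) _ hdiff m
      have hcm : (c m : K) = (c' m : K) := congrArg Subtype.val (sub_eq_zero.mp h2)
      rw [hcm]
      exact hE hj'j (c' m).2
    have hcinf : ∀ m, (c m : K) ∈ (⨅ i, E i : IntermediateField k₀ K) := by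
      intro m
      have h1 : (c m : K) ∈ ((⨅ i, E i : IntermediateField k₀ K) : Set K) := by
        rw [IntermediateField.coe_iInf]
        exact Set.mem_iInter.mpr (hcmem m)
      exact h1
    have hmem : v 0 ∈ Submodule.span ↥(⨅ i, E i) (Set.range (Fin.tail v)) := by
      rw [Submodule.mem_span_range_iff_exists_fun]
      refine ⟨fun m => ⟨(c m : K), hcinf m⟩, ?_⟩
      rw [← hc]
      exact Finset.sum_congr rfl (fun m _ => rfl)
    have hv2 : LinearIndependent ↥(⨅ i, E i) (Fin.cons (v 0) (Fin.tail v) : Fin (n + 1) → K) := by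
      rw [Fin.cons_self_tail]
      exact hv
    exact (linearIndependent_finCons.mp hv2).2 hmem

theorem h2_linIndep_descend' {k₀ K : Type*} [Field k₀] [Field K] [Algebra k₀ K] {ι : Type*}
    [Preorder ι] [IsDirected ι (· ≤ ·)] [Nonempty ι]
    (E : ι → IntermediateField k₀ K) (hE : Antitone E) {σ : Type*} [Finite σ] (v : σ → K)
    (hv : LinearIndependent ↥(⨅ i, E i) v) : ∃ i, LinearIndependent ↥(E i) v := by
  obtain ⟨n, ⟨e⟩⟩ := Finite.exists_equiv_fin σ
  have h1 : LinearIndependent ↥(⨅ i, E i) (v ∘ e.symm) := (linearIndependent_equiv e.symm).mpr hv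
  obtain ⟨i, hi⟩ := h2_linIndep_descend E hE n _ h1
  exact ⟨i, (linearIndependent_equiv e.symm).mp hi⟩

theorem h2_jt_finite (p : ℕ) {K : Type u} [Field K] (F : Set K) (hF : F.Finite) :
    Finite ↥(h2JT p F) := by
  classical
  haveI : Finite ↥F := hF
  refine Finite.of_injective
    (fun e : ↥(h2JT p F) => fun β : ↥F => (⟨e.1.1 β, e.1.2 β⟩ : Fin p)) ?_
  intro e e' h
  apply Subtype.ext
  apply Subtype.ext
  ext b
  by_cases hb : b ∈ F
  · exact congrArg Fin.val (congrFun h ⟨b, hb⟩)
  · have h1 : e.1.1 b = 0 := by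
      by_contra hne
      exact hb (e.2 (Finset.mem_coe.mpr (Finsupp.mem_support_iff.mpr hne)))
    have h2 : e'.1.1 b = 0 := by
      by_contra hne
      exact hb (e'.2 (Finset.mem_coe.mpr (Finsupp.mem_support_iff.mpr hne)))
    rw [h1, h2]

section
variable (p : ℕ) [Fact p.Prime] {k₀ K : Type u} [Field k₀] [Field K] [Algebra k₀ K]

theorem h2_ppow_inv_mem {k' : Type u} [Field k'] [Algebra k' K] (x : K)
    (hx : x ∈ pPowerSubalgebra p k' K) : x⁻¹ ∈ pPowerSubalgebra p k' K := by
  have hp : p.Prime := Fact.out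
  by_cases h0 : x = 0
  · rw [h0, inv_zero]
    exact Subalgebra.zero_mem _
  · have h1 : x⁻¹ = x ^ (p - 1) * (x⁻¹) ^ p := by
      have h2 : x * (x ^ (p - 1) * (x⁻¹) ^ p) = 1 := by
        rw [← mul_assoc, ← pow_succ', Nat.sub_add_cancel hp.one_le, ← mul_pow,
          mul_inv_cancel₀ h0, one_pow]
      exact (eq_inv_of_mul_eq_one_right h2).symm ▸ rfl
    rw [h1]
    exact Subalgebra.mul_mem _ (Subalgebra.pow_mem _ hx _) (h2_ppow_mem p _)

theorem h2_ppow_carrier₀ :
    ((pPowerSubalgebra p k₀ K : Subalgebra k₀ K) : Set K) =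
      ((IntermediateField.adjoin k₀ (Set.range fun y : K => y ^ p) : IntermediateField k₀ K) :
        Set K) := by
  apply Set.Subset.antisymm
  · intro y hy
    have h1 : pPowerSubalgebra p k₀ K ≤
        (IntermediateField.adjoin k₀ (Set.range fun y : K => y ^ p)).toSubalgebra :=
      Algebra.adjoin_le (fun z hz => IntermediateField.subset_adjoin k₀ _ hz)
    exact h1 hy
  · intro y hy
    let Z : IntermediateField k₀ K :=
      Subalgebra.toIntermediateField (pPowerSubalgebra p k₀ K) (fun x hx => h2_ppow_inv_mem p x hx)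
    have h1 : IntermediateField.adjoin k₀ (Set.range fun y : K => y ^ p) ≤ Z := by
      rw [IntermediateField.adjoin_le_iff]
      rintro _ ⟨b, rfl⟩
      exact h2_ppow_mem p b
    exact h1 hy

theorem h2_ppow_carrier (L : IntermediateField k₀ K) :
    ((pPowerSubalgebra p ↥L K : Subalgebra ↥L K) : Set K) =
      ((L ⊔ IntermediateField.adjoin k₀ (Set.range fun y : K => y ^ p) : IntermediateField k₀ K) :
        Set K) := by
  apply Set.Subset.antisymm
  · intro y hy
    have hy' : y ∈ Algebra.adjoin ↥L (Set.range fun b : K => b ^ p) := hy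
    refine Algebra.adjoin_induction ?_ ?_ ?_ ?_ hy'
    · intro z hz
      exact (le_sup_right : _ ≤ L ⊔ IntermediateField.adjoin k₀ (Set.range fun y : K => y ^ p))
        (IntermediateField.subset_adjoin k₀ _ hz)
    · intro c
      exact (le_sup_left : L ≤ L ⊔ IntermediateField.adjoin k₀ (Set.range fun y : K => y ^ p)) c.2
    · intro a b _ _ ha hb
      exact add_mem ha hb
    · intro a b _ _ ha hb
      exact mul_mem ha hb
  · intro y hy
    let Z : IntermediateField k₀ K :=
      Subalgebra.toIntermediateField ((pPowerSubalgebra p ↥L K).restrictScalars k₀)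
        (fun x hx => h2_ppow_inv_mem p x hx)
    have h1 : IntermediateField.adjoin k₀ (Set.range fun y : K => y ^ p) ≤ Z := by
      rw [IntermediateField.adjoin_le_iff]
      rintro _ ⟨b, rfl⟩
      exact h2_ppow_mem p b
    have h2 : L ≤ Z := by
      intro c hc
      exact Subalgebra.algebraMap_mem (pPowerSubalgebra p ↥L K) (⟨c, hc⟩ : ↥L)
    exact (sup_le h2 h1) hy

/-- the differentials of a `p`-basis (as a subset) are linearly independent -/
theorem h2_pbasis_kaehler_li [CharP K p] (B : Set K) (hB : h2PInd p (pPowerSubalgebra p k₀ K) B)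
    (hgen : Set.univ ⊆ (Algebra.adjoin (pPowerSubalgebra p k₀ K) B : Set K)) :
    LinearIndependent K (fun β : B => KaehlerDifferential.D k₀ K (β : K)) := by
  obtain ⟨b, hb⟩ := Groth.Agent.S2466.result p (Subtype.val : B → K)
    (h2_pbasis_of_pind_gen p B hB hgen)
  have h1 : (fun β : B => KaehlerDifferential.D k₀ K (β : K)) = ⇑b :=
    funext (fun β => (hb β).symm)
  rw [h1]
  exact b.linearIndependent

end
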