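import Mathlib
import Groth.Prelude.Def_PP16

/-! Base change of principal parts (helper2). -/

set_option autoImplicit false

universe u

namespace Groth.Agent.Lib.helper2

open PP16

open scoped TensorProduct

section

variable (n : ℕ) (A B A' B' : Type u) [CommRing A] [CommRing B] [Algebra A B]
  [CommRing A'] [CommRing B'] [Algebra A' B'] [Algebra A A'] [Algebra B B'] [Algebra A B']
  [IsScalarTower A A' B'] [IsScalarTower A B B']

theorem h2_augIdeal_pow : (augIdeal n A B) ^ (n + 1) = ⊥ := by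
  rw [augIdeal, ← Ideal.map_pow, Ideal.map_quotient_self]

theorem h2_dn_sub_mem (b : B) :
    dn n A B b - algebraMap B (P n A B) b ∈ augIdeal n A B := by
  have : dn n A B b - algebraMap B (P n A B) b =
      Ideal.Quotient.mk _ ((1 : B) ⊗ₜ[A] b - b ⊗ₜ[A] (1 : B)) := by
    rw [map_sub]
    rfl
  rw [this]
  exact Ideal.mem_map_of_mem _ (KaehlerDifferential.one_smul_sub_smul_one_mem_ideal A b)

theorem h2_mk_tmul_eq (b c : B) :
    (Ideal.Quotient.mk ((KaehlerDifferential.ideal A B) ^ (n + 1)) (b ⊗ₜ[A] c) : P n A B) =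
      algebraMap B (P n A B) b * dn n A B c := by
  have : (b ⊗ₜ[A] c : B ⊗[A] B) = (b ⊗ₜ[A] (1 : B)) * ((1 : B) ⊗ₜ[A] c) := by
    rw [Algebra.TensorProduct.tmul_mul_tmul, mul_one, one_mul]
  rw [this, map_mul]
  rfl

end


section Exist

variable (n : ℕ) (A B A' B' : Type u) [CommRing A] [CommRing B] [Algebra A B]
  [CommRing A'] [CommRing B'] [Algebra A' B'] [Algebra A A'] [Algebra B B'] [Algebra A B']
  [IsScalarTower A A' B'] [IsScalarTower A B B'] [Algebra.IsPushout A B A' B']

theorem h2_exists_desc (T : Type u) [CommRing T] (j : P n A B →+* T) (k : B' →+* T)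
    (hjk : ∀ b : B, j (algebraMap B (P n A B) b) = k (algebraMap B B' b)) :
    ∃ ψ : P n A' B' →+* T, (∀ p, ψ (PP16.map n A B A' B' p) = j p) ∧
      ∀ x : B', ψ (algebraMap B' (P n A' B') x) = k x := by
  classical
  letI algA'T : Algebra A' T := (k.comp (algebraMap A' B')).toAlgebra
  letI algAT : Algebra A T := (j.comp (algebraMap A (P n A B))).toAlgebra
  have hAT : ∀ a : A, algebraMap A T a = k (algebraMap A B' a) := by
    intro a
    change j (algebraMap A (P n A B) a) = _
    rw [IsScalarTower.algebraMap_apply A B (P n A B), hjk, ← IsScalarTower.algebraMap_apply]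
  let χ₁ : B' →ₐ[A'] T := { k with commutes' := fun a' => rfl }
  have hfc : ∀ a : A, j (dn n A B (algebraMap A B a)) = algebraMap A T a := by
    intro a
    change j (dn n A B (algebraMap A B a)) = j (algebraMap A (P n A B) a)
    rw [AlgHom.commutes]
  have hgc : ∀ a : A, k (algebraMap A' B' (algebraMap A A' a)) = algebraMap A T a := by
    intro a
    rw [hAT, ← IsScalarTower.algebraMap_apply]
  let f : B →ₐ[A] T := { j.comp (dn n A B).toRingHom with commutes' := hfc }
  let g : A' →ₐ[A] T := { k.comp (algebraMap A' B') with commutes' := hgc }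
  let χ₂' : B' →ₐ[A] T := Algebra.pushoutDesc B' f g (fun _ _ => mul_comm _ _)
  have hχ₂'r : ∀ a' : A', χ₂' (algebraMap A' B' a') = k (algebraMap A' B' a') := fun a' =>
    Algebra.pushoutDesc_right B' f g _ a'
  have hχ₂'l : ∀ b : B, χ₂' (algebraMap B B' b) = j (dn n A B b) := fun b =>
    Algebra.pushoutDesc_left B' f g _ b
  let χ₂ : B' →ₐ[A'] T := { χ₂'.toRingHom with commutes' := fun a' => hχ₂'r a' }
  have hχ₂ : ∀ x, χ₂ x = χ₂' x := fun _ => rfl
  let χ : B' ⊗[A'] B' →ₐ[A'] T := Algebra.TensorProduct.lift χ₁ χ₂ (fun _ _ => Commute.all _ _)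
  have hχ : ∀ x y : B', χ (x ⊗ₜ[A'] y) = k x * χ₂' y := fun x y => by
    simp only [χ, Algebra.TensorProduct.lift_tmul]
    rfl
  -- the key ideal
  set 𝔞 : Ideal T := (augIdeal n A B).map j with h𝔞
  have h𝔞pow : 𝔞 ^ (n + 1) = ⊥ := by
    rw [h𝔞, ← Ideal.map_pow, h2_augIdeal_pow, Ideal.map_bot]
  have hmem : ∀ x : B', χ₂' x - k x ∈ 𝔞 := by
    intro x
    have hbc := (Algebra.IsPushout.out : IsBaseChange B (IsScalarTower.toAlgHom A A' B').toLinearMap)
    refine hbc.inductionOn x (fun x => χ₂' x - k x ∈ 𝔞) ?_ ?_ ?_ ?_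
    · simp
    · intro a'
      change χ₂' (algebraMap A' B' a') - k (algebraMap A' B' a') ∈ 𝔞
      rw [hχ₂'r, sub_self]
      exact Ideal.zero_mem _
    · intro b y hy
      have e1 : b • y = algebraMap B B' b * y := Algebra.smul_def b y
      have e2 : χ₂' (b • y) - k (b • y) = j (dn n A B b) * (χ₂' y - k y) +
          j (dn n A B b - algebraMap B (P n A B) b) * k y := by
        rw [e1, map_mul, map_mul, hχ₂'l, map_sub, hjk]
        ring
      rw [e2]
      exact Ideal.add_mem _ (Ideal.mul_mem_left _ _ hy)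
        (Ideal.mul_mem_right _ _ (Ideal.mem_map_of_mem _ (h2_dn_sub_mem n A B b)))
    · intro x y hx hy
      have : χ₂' (x + y) - k (x + y) = (χ₂' x - k x) + (χ₂' y - k y) := by
        rw [map_add, map_add]
        ring
      rw [this]
      exact Ideal.add_mem _ hx hy
  have hImap : (KaehlerDifferential.ideal A' B').map χ.toRingHom ≤ 𝔞 := by
    rw [← KaehlerDifferential.span_range_eq_ideal, Ideal.map_span, Ideal.span_le]
    rintro _ ⟨_, ⟨x, rfl⟩, rfl⟩
    change χ ((1 : B') ⊗ₜ[A'] x - x ⊗ₜ[A'] (1 : B')) ∈ 𝔞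
    rw [map_sub, hχ, hχ, map_one, map_one, one_mul, mul_one]
    exact hmem x
  have hkill : ∀ y ∈ (KaehlerDifferential.ideal A' B') ^ (n + 1), χ.toRingHom y = 0 := by
    intro y hy
    have h1 : χ.toRingHom y ∈ ((KaehlerDifferential.ideal A' B') ^ (n + 1)).map χ.toRingHom :=
      Ideal.mem_map_of_mem _ hy
    rw [Ideal.map_pow] at h1
    have h2 := Ideal.pow_right_mono hImap (n + 1) h1
    rw [h𝔞pow] at h2
    exact h2
  refine ⟨Ideal.Quotient.lift _ χ.toRingHom hkill, ?_, ?_⟩
  · intro p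
    obtain ⟨y, rfl⟩ := Ideal.Quotient.mk_surjective p
    induction y using TensorProduct.induction_on with
    | zero => simp
    | tmul b c =>
      rw [PP16.map_mk, PP16.tensorMap_tmul, Ideal.Quotient.lift_mk]
      change χ _ = _
      rw [hχ, hχ₂'l, h2_mk_tmul_eq, map_mul, hjk]
    | add x y hx hy =>
      rw [map_add, map_add, map_add, hx, hy, map_add]
  · intro x
    change Ideal.Quotient.lift _ χ.toRingHom hkill (Ideal.Quotient.mk _ (x ⊗ₜ[A'] (1 : B'))) = _
    rw [Ideal.Quotient.lift_mk]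
    change χ _ = _
    rw [hχ, map_one, mul_one]


theorem h2_desc_unique (T : Type u) [CommRing T] (ψ₁ ψ₂ : P n A' B' →+* T)
    (h1 : ∀ p, ψ₁ (PP16.map n A B A' B' p) = ψ₂ (PP16.map n A B A' B' p))
    (h2 : ∀ x : B', ψ₁ (algebraMap B' (P n A' B') x) = ψ₂ (algebraMap B' (P n A' B') x)) :
    ψ₁ = ψ₂ := by
  have hdn : ∀ z : B', ψ₁ (dn n A' B' z) = ψ₂ (dn n A' B' z) := by
    intro z
    have hbc := (Algebra.IsPushout.out : IsBaseChange B (IsScalarTower.toAlgHom A A' B').toLinearMap)
    refine hbc.inductionOn z (fun z => ψ₁ (dn n A' B' z) = ψ₂ (dn n A' B' z)) ?_ ?_ ?_ ?_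
    · simp
    · intro a'
      change ψ₁ (dn n A' B' (algebraMap A' B' a')) = ψ₂ (dn n A' B' (algebraMap A' B' a'))
      rw [AlgHom.commutes, IsScalarTower.algebraMap_apply A' B' (P n A' B'), h2]
    · intro b y hy
      have e1 : b • y = algebraMap B B' b * y := Algebra.smul_def b y
      rw [e1, map_mul, map_mul, map_mul, hy, ← PP16.map_dn n A B A' B' b, h1]
    · intro x y hx hy
      rw [map_add, map_add, map_add, hx, hy]
  apply Ideal.Quotient.ringHom_ext
  apply RingHom.ext
  intro y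
  simp only [RingHom.comp_apply]
  induction y using TensorProduct.induction_on with
  | zero => simp
  | tmul x z =>
    rw [h2_mk_tmul_eq, map_mul, map_mul, h2, hdn]
  | add x y hx hy => rw [map_add, map_add, map_add, hx, hy]

end Exist

section Final

variable (n : ℕ) (A B A' B' : Type u) [CommRing A] [CommRing B] [Algebra A B]
  [CommRing A'] [CommRing B'] [Algebra A' B'] [Algebra A A'] [Algebra B B'] [Algebra A B']
  [IsScalarTower A A' B'] [IsScalarTower A B B'] [Algebra.IsPushout A B A' B']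

attribute [local instance] PP16.mapAlgebra PP16.isScalarTower_mapAlgebra

theorem h2_isPushout_P : Algebra.IsPushout B (P n A B) B' (P n A' B') := by
  classical
  let φ : (P n A B) ⊗[B] B' →ₐ[P n A B] (P n A' B') :=
    Algebra.TensorProduct.lift (Algebra.ofId _ _) (IsScalarTower.toAlgHom B B' (P n A' B'))
      (fun _ _ => Commute.all _ _)
  have hφ : ∀ (p : P n A B) (x : B'), φ (p ⊗ₜ[B] x) =
      PP16.map n A B A' B' p * algebraMap B' (P n A' B') x := by
    intro p x
    simp only [φ, Algebra.TensorProduct.lift_tmul]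
    rfl
  let j : P n A B →+* (P n A B) ⊗[B] B' :=
    (Algebra.TensorProduct.includeLeft : P n A B →ₐ[B] (P n A B) ⊗[B] B').toRingHom
  let k : B' →+* (P n A B) ⊗[B] B' :=
    (Algebra.TensorProduct.includeRight : B' →ₐ[B] (P n A B) ⊗[B] B').toRingHom
  have hj : ∀ p, j p = p ⊗ₜ[B] (1 : B') := fun _ => rfl
  have hk : ∀ x, k x = (1 : P n A B) ⊗ₜ[B] x := fun _ => rfl
  have hjk : ∀ b : B, j (algebraMap B (P n A B) b) = k (algebraMap B B' b) := by
    intro b
    rw [hj, hk, Algebra.algebraMap_eq_smul_one, Algebra.algebraMap_eq_smul_one,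
      TensorProduct.smul_tmul]
  obtain ⟨ψ, hψ1, hψ2⟩ := h2_exists_desc n A B A' B' ((P n A B) ⊗[B] B') j k hjk
  have hleft : ∀ t, ψ (φ t) = t := by
    intro t
    induction t using TensorProduct.induction_on with
    | zero => simp
    | tmul p x =>
      rw [hφ, map_mul, hψ1, hψ2, hj, hk, Algebra.TensorProduct.tmul_mul_tmul, mul_one, one_mul]
    | add x y hx hy => rw [map_add, map_add, hx, hy]
  have hright : ∀ y, φ (ψ y) = y := by
    have := h2_desc_unique n A B A' B' (P n A' B') (φ.toRingHom.comp ψ) (RingHom.id _) ?_ ?_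
    · intro y
      exact congrArg (fun F : P n A' B' →+* P n A' B' => F y) this
    · intro p
      change φ (ψ _) = _
      rw [hψ1, hj, hφ, map_one, mul_one]
      rfl
    · intro x
      change φ (ψ _) = _
      rw [hψ2, hk, hφ, map_one, one_mul]
      rfl
  let e : (P n A B) ⊗[B] B' ≃ₗ[P n A B] (P n A' B') :=
    LinearEquiv.ofBijective φ.toLinearMap
      ⟨Function.LeftInverse.injective hleft, Function.RightInverse.surjective hright⟩
  refine ⟨IsBaseChange.of_equiv e ?_⟩
  intro x
  change φ ((1 : P n A B) ⊗ₜ[B] x) = algebraMap B' (P n A' B') x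
  rw [hφ, map_one, one_mul]

end Final

end Groth.Agent.Lib.helper2
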