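import Mathlib
import Groth.Prelude.Def_PP16
import Groth.Agent.Lib.helper2.PPush

/-! Localization of principal parts (helper2). -/

set_option autoImplicit false

universe u

namespace Groth.Agent.Lib.helper2

open PP16

open scoped TensorProduct

section Loc

variable (n : ℕ) (A B B' : Type u) [CommRing A] [CommRing B] [Algebra A B]
  [CommRing B'] [Algebra B B'] [Algebra A B'] [IsScalarTower A B B'] (S : Submonoid B)
  [IsLocalization S B']

include S in
theorem h2_exists_desc_loc (T : Type u) [CommRing T] (j : P n A B →+* T) (k : B' →+* T)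
    (hjk : ∀ b : B, j (algebraMap B (P n A B) b) = k (algebraMap B B' b)) :
    ∃ ψ : P n A B' →+* T, (∀ p, ψ (PP16.map n A B A B' p) = j p) ∧
      ∀ x : B', ψ (algebraMap B' (P n A B') x) = k x := by
  classical
  letI algAT : Algebra A T := (j.comp (algebraMap A (P n A B))).toAlgebra
  have hAT : ∀ a : A, algebraMap A T a = k (algebraMap A B' a) := by
    intro a
    change j (algebraMap A (P n A B) a) = _
    rw [IsScalarTower.algebraMap_apply A B (P n A B), hjk, ← IsScalarTower.algebraMap_apply]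
  have hχ₁c : ∀ a : A, k (algebraMap A B' a) = algebraMap A T a := fun a => (hAT a).symm
  let χ₁ : B' →ₐ[A] T := { k with commutes' := hχ₁c }
  set 𝔞 : Ideal T := (augIdeal n A B).map j with h𝔞
  have h𝔞pow : 𝔞 ^ (n + 1) = ⊥ := by
    rw [h𝔞, ← Ideal.map_pow, h2_augIdeal_pow, Ideal.map_bot]
  let f : B →+* T := j.comp (dn n A B).toRingHom
  have hf : ∀ b, f b = j (dn n A B b) := fun _ => rfl
  have hfk : ∀ b : B, f b - k (algebraMap B B' b) ∈ 𝔞 := by
    intro b
    rw [hf, ← hjk, ← map_sub]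
    exact Ideal.mem_map_of_mem _ (h2_dn_sub_mem n A B b)
  have hnil : ∀ y ∈ 𝔞, IsNilpotent y := by
    intro y hy
    refine ⟨n + 1, ?_⟩
    have := Ideal.pow_mem_pow hy (n + 1)
    rw [h𝔞pow] at this
    exact this
  have hunit : ∀ s : S, IsUnit (f s) := by
    intro s
    have h1 : f s = k (algebraMap B B' s) + (f s - k (algebraMap B B' s)) := by ring
    rw [h1]
    exact (hnil _ (hfk s)).isUnit_add_left_of_commute
      ((IsLocalization.map_units B' s).map k) (Commute.all _ _)
  let χ₂r : B' →+* T := IsLocalization.lift (M := S) (g := f) hunit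
  have hχ₂l : ∀ b : B, χ₂r (algebraMap B B' b) = f b := fun b => IsLocalization.lift_eq hunit b
  have hχ₂c : ∀ a : A, χ₂r (algebraMap A B' a) = algebraMap A T a := by
    intro a
    rw [IsScalarTower.algebraMap_apply A B B', hχ₂l, hf, AlgHom.commutes]
    rfl
  let χ₂ : B' →ₐ[A] T := { χ₂r with commutes' := hχ₂c }
  let χ : B' ⊗[A] B' →ₐ[A] T := Algebra.TensorProduct.lift χ₁ χ₂ (fun _ _ => Commute.all _ _)
  have hχ : ∀ x y : B', χ (x ⊗ₜ[A] y) = k x * χ₂r y := fun x y => by
    simp only [χ, Algebra.TensorProduct.lift_tmul]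
    rfl
  have hmem : ∀ x : B', χ₂r x - k x ∈ 𝔞 := by
    intro x
    obtain ⟨⟨b, s⟩, hx⟩ := IsLocalization.surj S x
    simp only at hx
    have e1 : χ₂r x * f s = f b := by
      rw [← hχ₂l, ← hχ₂l, ← map_mul, hx]
    have e2 : k x * k (algebraMap B B' s) = k (algebraMap B B' b) := by
      rw [← map_mul, hx]
    have e3 : (χ₂r x - k x) * f s = (f b - k (algebraMap B B' b)) -
        k x * (f s - k (algebraMap B B' s)) := by
      rw [sub_mul, e1, mul_sub, e2]
      ring
    have e4 : (χ₂r x - k x) * f s ∈ 𝔞 := by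
      rw [e3]
      exact Ideal.sub_mem _ (hfk b) (Ideal.mul_mem_left _ _ (hfk s))
    exact (Ideal.mul_unit_mem_iff_mem 𝔞 (hunit s)).mp e4
  have hImap : (KaehlerDifferential.ideal A B').map χ.toRingHom ≤ 𝔞 := by
    rw [← KaehlerDifferential.span_range_eq_ideal, Ideal.map_span, Ideal.span_le]
    rintro _ ⟨_, ⟨x, rfl⟩, rfl⟩
    change χ ((1 : B') ⊗ₜ[A] x - x ⊗ₜ[A] (1 : B')) ∈ 𝔞
    rw [map_sub, hχ, hχ, map_one, map_one, one_mul, mul_one]
    exact hmem x
  have hkill : ∀ y ∈ (KaehlerDifferential.ideal A B') ^ (n + 1), χ.toRingHom y = 0 := by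
    intro y hy
    have h1 : χ.toRingHom y ∈ ((KaehlerDifferential.ideal A B') ^ (n + 1)).map χ.toRingHom :=
      Ideal.mem_map_of_mem _ hy
    rw [Ideal.map_pow] at h1
    have h2 := Ideal.pow_right_mono hImap (n + 1) h1
    rw [h𝔞pow] at h2
    exact h2
  refine ⟨Ideal.Quotient.lift _ χ.toRingHom hkill, ?_, ?_⟩
  · intro p
    obtain ⟨y, rfl⟩ := Ideal.Quotient.mk_surjective p
    induction y using TensorProduct.induction_on with
    | zero => simp
    | tmul b c =>
      rw [PP16.map_mk, PP16.tensorMap_tmul, Ideal.Quotient.lift_mk]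
      change χ _ = _
      rw [hχ, hχ₂l, hf, h2_mk_tmul_eq, map_mul, hjk]
    | add x y hx hy =>
      rw [map_add, map_add, map_add, hx, hy, map_add]
  · intro x
    change Ideal.Quotient.lift _ χ.toRingHom hkill (Ideal.Quotient.mk _ (x ⊗ₜ[A] (1 : B'))) = _
    rw [Ideal.Quotient.lift_mk]
    change χ _ = _
    rw [hχ, map_one, mul_one]

include S in
theorem h2_desc_unique_loc (T : Type u) [CommRing T] (ψ₁ ψ₂ : P n A B' →+* T)
    (h1 : ∀ p, ψ₁ (PP16.map n A B A B' p) = ψ₂ (PP16.map n A B A B' p))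
    (h2 : ∀ x : B', ψ₁ (algebraMap B' (P n A B') x) = ψ₂ (algebraMap B' (P n A B') x)) :
    ψ₁ = ψ₂ := by
  have hdnB : ∀ b : B, ψ₁ (dn n A B' (algebraMap B B' b)) = ψ₂ (dn n A B' (algebraMap B B' b)) := by
    intro b
    rw [← PP16.map_dn n A B A B' b, h1]
  have hdn : ∀ z : B', ψ₁ (dn n A B' z) = ψ₂ (dn n A B' z) := by
    intro z
    obtain ⟨⟨b, s⟩, hz⟩ := IsLocalization.surj S z
    simp only at hz
    have hu : IsUnit (ψ₂ (dn n A B' (algebraMap B B' s))) :=
      ((IsLocalization.map_units B' s).map (dn n A B')).map ψ₂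
    have e1 : ψ₁ (dn n A B' z) * ψ₂ (dn n A B' (algebraMap B B' s)) =
        ψ₂ (dn n A B' z) * ψ₂ (dn n A B' (algebraMap B B' s)) := by
      calc ψ₁ (dn n A B' z) * ψ₂ (dn n A B' (algebraMap B B' s))
          = ψ₁ (dn n A B' z) * ψ₁ (dn n A B' (algebraMap B B' s)) := by rw [hdnB s]
        _ = ψ₁ (dn n A B' (z * algebraMap B B' s)) := by rw [map_mul, map_mul]
        _ = ψ₂ (dn n A B' (z * algebraMap B B' s)) := by rw [hz, hdnB]
        _ = ψ₂ (dn n A B' z) * ψ₂ (dn n A B' (algebraMap B B' s)) := by rw [map_mul, map_mul]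
    exact hu.mul_left_injective e1
  apply Ideal.Quotient.ringHom_ext
  apply RingHom.ext
  intro y
  simp only [RingHom.comp_apply]
  induction y using TensorProduct.induction_on with
  | zero => simp
  | tmul x z =>
    rw [h2_mk_tmul_eq, map_mul, map_mul, h2, hdn]
  | add x y hx hy => rw [map_add, map_add, map_add, hx, hy]

attribute [local instance] PP16.mapAlgebra PP16.isScalarTower_mapAlgebra

include S in
theorem h2_isPushout_P_loc : Algebra.IsPushout B (P n A B) B' (P n A B') := by
  classical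
  let φ : (P n A B) ⊗[B] B' →ₐ[P n A B] (P n A B') :=
    Algebra.TensorProduct.lift (Algebra.ofId _ _) (IsScalarTower.toAlgHom B B' (P n A B'))
      (fun _ _ => Commute.all _ _)
  have hφ : ∀ (p : P n A B) (x : B'), φ (p ⊗ₜ[B] x) =
      PP16.map n A B A B' p * algebraMap B' (P n A B') x := by
    intro p x
    simp only [φ, Algebra.TensorProduct.lift_tmul]
    rfl
  let j : P n A B →+* (P n A B) ⊗[B] B' :=
    (Algebra.TensorProduct.includeLeft : P n A B →ₐ[B] (P n A B) ⊗[B] B').toRingHom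
  let k : B' →+* (P n A B) ⊗[B] B' :=
    (Algebra.TensorProduct.includeRight : B' →ₐ[B] (P n A B) ⊗[B] B').toRingHom
  have hj : ∀ p, j p = p ⊗ₜ[B] (1 : B') := fun _ => rfl
  have hk : ∀ x, k x = (1 : P n A B) ⊗ₜ[B] x := fun _ => rfl
  have hjk : ∀ b : B, j (algebraMap B (P n A B) b) = k (algebraMap B B' b) := by
    intro b
    rw [hj, hk, Algebra.algebraMap_eq_smul_one, Algebra.algebraMap_eq_smul_one,
      TensorProduct.smul_tmul]
  obtain ⟨ψ, hψ1, hψ2⟩ := h2_exists_desc_loc n A B B' S ((P n A B) ⊗[B] B') j k hjk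
  have hleft : ∀ t, ψ (φ t) = t := by
    intro t
    induction t using TensorProduct.induction_on with
    | zero => simp
    | tmul p x =>
      rw [hφ, map_mul, hψ1, hψ2, hj, hk, Algebra.TensorProduct.tmul_mul_tmul, mul_one, one_mul]
    | add x y hx hy => rw [map_add, map_add, hx, hy]
  have hright : ∀ y, φ (ψ y) = y := by
    have := h2_desc_unique_loc n A B B' S (P n A B') (φ.toRingHom.comp ψ) (RingHom.id _) ?_ ?_
    · intro y
      exact congrArg (fun F : P n A B' →+* P n A B' => F y) this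
    · intro p
      change φ (ψ _) = _
      rw [hψ1, hj, hφ, map_one, mul_one]
      rfl
    · intro x
      change φ (ψ _) = _
      rw [hψ2, hk, hφ, map_one, one_mul]
      rfl
  let e : (P n A B) ⊗[B] B' ≃ₗ[P n A B] (P n A B') :=
    LinearEquiv.ofBijective φ.toLinearMap
      ⟨Function.LeftInverse.injective hleft, Function.RightInverse.surjective hright⟩
  refine ⟨IsBaseChange.of_equiv e ?_⟩
  intro x
  change φ ((1 : P n A B) ⊗ₜ[B] x) = algebraMap B' (P n A B') x
  rw [hφ, map_one, one_mul]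

include S in
theorem h2_isLocalization_P :
    IsLocalization (S.map (algebraMap B (P n A B))) (P n A B') := by
  have hpo : Algebra.IsPushout B B' (P n A B) (P n A B') := (h2_isPushout_P_loc n A B B' S).symm
  have hbc : IsBaseChange B' (IsScalarTower.toAlgHom B (P n A B) (P n A B')).toLinearMap := hpo.out
  have hlm : IsLocalizedModule S (IsScalarTower.toAlgHom B (P n A B) (P n A B')).toLinearMap :=
    (isLocalizedModule_iff_isBaseChange S B' _).mpr hbc
  exact isLocalizedModule_iff_isLocalization.mp hlm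

end Loc

end Groth.Agent.Lib.helper2
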