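import Mathlib
import Groth.Prelude.Def_PP16
import Groth.Prelude.Def_DiffOp
import Groth.Agent.Lib.helper2.DiffOp

/-! Principal parts of a module and differential operators (helper2). -/

set_option autoImplicit false

universe u

namespace Groth.Agent.Lib.helper2

open Diff16 PP16

open scoped TensorProduct

variable {A B : Type u} [CommRing A] [CommRing B] [Algebra A B]
variable {M N : Type u} [AddCommGroup M] [Module A M] [Module B M] [IsScalarTower A B M]
  [AddCommGroup N] [Module A N] [Module B N] [IsScalarTower A B N]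

/-- `g (b ⊗ c) = (b • ·) ∘ D ∘ (c • ·)` -/
noncomputable def h2g (D : M →ₗ[A] N) : B ⊗[A] B →ₗ[A] (M →ₗ[A] N) :=
  TensorProduct.lift (LinearMap.mk₂ A (fun b c => h2mulB A N b ∘ₗ D ∘ₗ h2mulB A M c)
    (by intro b b' c; ext m; simp [add_smul])
    (by intro a b c; ext m; simp [smul_assoc])
    (by intro b c c'; ext m; simp [add_smul, smul_add])
    (by intro a b c; ext m; simp [smul_assoc, smul_comm b a]))

theorem h2g_tmul (D : M →ₗ[A] N) (b c : B) (m : M) : h2g D (b ⊗ₜ[A] c) m = b • D (c • m) := by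
  simp [h2g]

/-- `D_m (b) = D (b • m)` -/
noncomputable def h2Dm (D : M →ₗ[A] N) (m : M) : B →ₗ[A] N :=
  D ∘ₗ ((LinearMap.toSpanSingleton B M m).restrictScalars A)

theorem h2Dm_apply (D : M →ₗ[A] N) (m : M) (b : B) : h2Dm D m b = D (b • m) := rfl

theorem h2Dm_order (n : ℕ) (D : M →ₗ[A] N) (hD : IsDiffOpLE A B M N n D) (m : M) :
    IsDiffOpLE A B B N n (h2Dm D m) := by
  have h0 : IsDiffOpLE A B B M 0 ((LinearMap.toSpanSingleton B M m).restrictScalars A) := by
    intro b x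
    simp [mul_smul]
  have := h2_isDiffOpLE_comp 0 n _ D h0 hD
  rwa [zero_add] at this

theorem h2g_eq_linearize (D : M →ₗ[A] N) (x : B ⊗[A] B) (m : M) :
    h2g D x m = linearize A B B N (h2Dm D m) x := by
  induction x using TensorProduct.induction_on with
  | zero => simp
  | tmul b c => rw [h2g_tmul, h2_linearize_tmul, h2Dm_apply]
  | add x y hx hy => rw [map_add, map_add, LinearMap.add_apply, hx, hy]

theorem h2g_eq_zero (n : ℕ) (D : M →ₗ[A] N) (hD : IsDiffOpLE A B M N n D)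
    (x : B ⊗[A] B) (hx : x ∈ (KaehlerDifferential.ideal A B) ^ (n + 1)) : h2g D x = 0 := by
  ext m
  rw [h2g_eq_linearize]
  exact h2_linearize_eq_zero_of_isDiffOpLE n _ (h2Dm_order n D hD m) x hx

theorem h2g_left_mul (D : M →ₗ[A] N) (b : B) (y : B ⊗[A] B) (m : M) :
    h2g D ((b ⊗ₜ[A] (1 : B)) * y) m = b • h2g D y m := by
  induction y using TensorProduct.induction_on with
  | zero => simp
  | tmul c c' =>
    rw [Algebra.TensorProduct.tmul_mul_tmul, h2g_tmul, h2g_tmul, one_mul, mul_smul]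
  | add x y hx hy =>
    rw [mul_add, map_add, map_add, LinearMap.add_apply, LinearMap.add_apply, hx, hy, smul_add]

theorem h2g_right_mul (D : M →ₗ[A] N) (b : B) (y : B ⊗[A] B) (m : M) :
    h2g D (((1 : B) ⊗ₜ[A] b) * y) m = h2g D y (b • m) := by
  induction y using TensorProduct.induction_on with
  | zero => simp
  | tmul c c' =>
    rw [Algebra.TensorProduct.tmul_mul_tmul, h2g_tmul, h2g_tmul, one_mul, mul_comm, mul_smul]
  | add x y hx hy =>
    rw [mul_add, map_add, map_add, LinearMap.add_apply, LinearMap.add_apply, hx, hy]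

/-- the quotient map as a linear map -/
noncomputable def h2pi (n : ℕ) (A B : Type u) [CommRing A] [CommRing B] [Algebra A B] :
    B ⊗[A] B →ₗ[A] P n A B :=
  (Ideal.Quotient.mkₐ A ((KaehlerDifferential.ideal A B) ^ (n + 1))).toLinearMap

theorem h2pi_apply (n : ℕ) (x : B ⊗[A] B) : h2pi n A B x = Ideal.Quotient.mk _ x := rfl

theorem h2pi_surjective (n : ℕ) : Function.Surjective (h2pi n A B) :=
  Ideal.Quotient.mk_surjective

theorem h2_mem_ker_pi (n : ℕ) (x : B ⊗[A] B) :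
    x ∈ LinearMap.ker (h2pi n A B) ↔ x ∈ (KaehlerDifferential.ideal A B) ^ (n + 1) := by
  rw [LinearMap.mem_ker, h2pi_apply, Ideal.Quotient.eq_zero_iff_mem]

/-- the map induced by `g` on the quotient -/
noncomputable def h2gbar (n : ℕ) (D : M →ₗ[A] N)
    (h : ∀ x ∈ (KaehlerDifferential.ideal A B) ^ (n + 1), h2g D x = 0) :
    P n A B →ₗ[A] (M →ₗ[A] N) :=
  ((LinearMap.ker (h2pi n A B)).liftQ (h2g D)
      (fun x hx => LinearMap.mem_ker.mpr (h x ((h2_mem_ker_pi n x).mp hx)))) ∘ₗ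
    ((h2pi n A B).quotKerEquivOfSurjective (h2pi_surjective n)).symm.toLinearMap

theorem h2gbar_mk (n : ℕ) (D : M →ₗ[A] N)
    (h : ∀ x ∈ (KaehlerDifferential.ideal A B) ^ (n + 1), h2g D x = 0) (x : B ⊗[A] B) :
    h2gbar n D h (Ideal.Quotient.mk _ x) = h2g D x := by
  have : ((h2pi n A B).quotKerEquivOfSurjective (h2pi_surjective n)).symm
      (Ideal.Quotient.mk _ x) = Submodule.Quotient.mk x := by
    rw [LinearEquiv.symm_apply_eq]
    rfl
  simp only [h2gbar, LinearMap.comp_apply, LinearEquiv.coe_coe]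
  rw [this, Submodule.liftQ_apply]


/-- the biadditive map `Pr → M → N` -/
noncomputable def h2f (n : ℕ) (D : M →ₗ[A] N)
    (h : ∀ x ∈ (KaehlerDifferential.ideal A B) ^ (n + 1), h2g D x = 0) :
    Pr n A B →+ M →+ N where
  toFun x := (h2gbar n D h x).toAddMonoidHom
  map_zero' := by
    ext m
    exact congrArg (fun L : M →ₗ[A] N => L m) (map_zero (h2gbar n D h))
  map_add' x y := by
    ext m
    exact congrArg (fun L : M →ₗ[A] N => L m) (map_add (h2gbar n D h) x y)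

/-- the class of `y` in the synonym `Pr` -/
noncomputable def h2mkPr (n : ℕ) (y : B ⊗[A] B) : Pr n A B :=
  (Ideal.Quotient.mk ((KaehlerDifferential.ideal A B) ^ (n + 1)) y : P n A B)

theorem h2mkPr_surjective (n : ℕ) : Function.Surjective (h2mkPr (A := A) (B := B) n) :=
  Ideal.Quotient.mk_surjective (I := (KaehlerDifferential.ideal A B) ^ (n + 1))

theorem h2mkPr_add (n : ℕ) (x y : B ⊗[A] B) : h2mkPr n (x + y) = h2mkPr n x + h2mkPr n y := rfl

theorem h2mkPr_zero (n : ℕ) : h2mkPr n (0 : B ⊗[A] B) = 0 := rfl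

theorem h2mkPr_one (n : ℕ) : h2mkPr n (1 : B ⊗[A] B) = 1 := rfl

theorem h2f_mk (n : ℕ) (D : M →ₗ[A] N)
    (h : ∀ x ∈ (KaehlerDifferential.ideal A B) ^ (n + 1), h2g D x = 0) (x : B ⊗[A] B) (m : M) :
    h2f n D h (h2mkPr n x) m = h2g D x m := by
  change h2gbar n D h (Ideal.Quotient.mk _ x) m = _
  rw [h2gbar_mk]

theorem h2_smul_Pr (n : ℕ) (b : B) (y : B ⊗[A] B) :
    b • h2mkPr n y = h2mkPr n (((1 : B) ⊗ₜ[A] b) * y) := by
  rw [Algebra.smul_def]
  rfl

theorem h2f_balanced (n : ℕ) (D : M →ₗ[A] N)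
    (h : ∀ x ∈ (KaehlerDifferential.ideal A B) ^ (n + 1), h2g D x = 0) (b : B) (x : Pr n A B)
    (m : M) : h2f n D h (b • x) m = h2f n D h x (b • m) := by
  obtain ⟨y, rfl⟩ := h2mkPr_surjective n x
  rw [h2_smul_Pr, h2f_mk, h2f_mk, h2g_right_mul]

/-- the universal factorization of a differential operator -/
noncomputable def h2u (n : ℕ) (D : M →ₗ[A] N)
    (h : ∀ x ∈ (KaehlerDifferential.ideal A B) ^ (n + 1), h2g D x = 0) : PM n A B M →+ N :=
  TensorProduct.liftAddHom (h2f n D h) (h2f_balanced n D h)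

theorem h2u_mk_tmul (n : ℕ) (D : M →ₗ[A] N)
    (h : ∀ x ∈ (KaehlerDifferential.ideal A B) ^ (n + 1), h2g D x = 0) (y : B ⊗[A] B) (m : M) :
    h2u n D h (h2mkPr n y ⊗ₜ[B] m) = h2g D y m := by
  rw [h2u, TensorProduct.liftAddHom_tmul, h2f_mk]

theorem h2_algebraMap_smul_tmul (n : ℕ) (b : B) (y : B ⊗[A] B) (m : M) :
    (algebraMap B (P n A B) b • (h2mkPr n y ⊗ₜ[B] m) : PM n A B M) =
      h2mkPr n ((b ⊗ₜ[A] (1 : B)) * y) ⊗ₜ[B] m := by
  rw [TensorProduct.smul_tmul']
  rfl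

theorem h2_tmul_eq (n : ℕ) (c c' : B) (m : M) :
    (h2mkPr n (c ⊗ₜ[A] c') ⊗ₜ[B] m : PM n A B M) =
      algebraMap B (P n A B) c • ((1 : Pr n A B) ⊗ₜ[B] (c' • m)) := by
  have h1 : ((1 : Pr n A B) ⊗ₜ[B] (c' • m) : PM n A B M) = (c' • (1 : Pr n A B)) ⊗ₜ[B] m :=
    (TensorProduct.smul_tmul c' (1 : Pr n A B) m).symm
  have h2 : (c' • (1 : Pr n A B)) = h2mkPr n ((1 : B) ⊗ₜ[A] c') := by
    rw [← h2mkPr_one, h2_smul_Pr, mul_one]
  rw [h1, h2, h2_algebraMap_smul_tmul, Algebra.TensorProduct.tmul_mul_tmul, mul_one, one_mul]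

theorem h2u_smul (n : ℕ) (D : M →ₗ[A] N)
    (h : ∀ x ∈ (KaehlerDifferential.ideal A B) ^ (n + 1), h2g D x = 0) (b : B)
    (t : PM n A B M) : h2u n D h (algebraMap B (P n A B) b • t) = b • h2u n D h t := by
  induction t using TensorProduct.induction_on with
  | zero => rw [smul_zero, map_zero, smul_zero]
  | tmul x m =>
    obtain ⟨y, rfl⟩ := h2mkPr_surjective n x
    rw [h2_algebraMap_smul_tmul, h2u_mk_tmul, h2u_mk_tmul, h2g_left_mul]
  | add x y hx hy => rw [smul_add, map_add, map_add, hx, hy, smul_add]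

theorem h2u_dM (n : ℕ) (D : M →ₗ[A] N)
    (h : ∀ x ∈ (KaehlerDifferential.ideal A B) ^ (n + 1), h2g D x = 0) (m : M) :
    h2u n D h (dM n A B M m) = D m := by
  have : dM n A B M m = h2mkPr n ((1 : B) ⊗ₜ[A] (1 : B)) ⊗ₜ[B] m := rfl
  rw [this, h2u_mk_tmul, h2g_tmul, one_smul, one_smul]

/-- uniqueness: the values on pure tensors are forced -/
theorem h2u_unique (n : ℕ) (D : M →ₗ[A] N) (u : PM n A B M →+ N)
    (h1 : ∀ (b : B) (t : PM n A B M), u (algebraMap B (P n A B) b • t) = b • u t)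
    (h2 : ∀ m : M, u (dM n A B M m) = D m) (y : B ⊗[A] B) (m : M) :
    u (h2mkPr n y ⊗ₜ[B] m) = h2g D y m := by
  induction y using TensorProduct.induction_on with
  | zero =>
    rw [map_zero, LinearMap.zero_apply, h2mkPr_zero, TensorProduct.zero_tmul, map_zero]
  | tmul c c' =>
    rw [h2_tmul_eq, h1, h2g_tmul]
    congr 1
    exact h2 _
  | add x y hx hy =>
    rw [h2mkPr_add, TensorProduct.add_tmul, map_add, hx, hy, map_add, LinearMap.add_apply]


theorem h2mkPr_eq_zero (n : ℕ) (y : B ⊗[A] B)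
    (hy : y ∈ (KaehlerDifferential.ideal A B) ^ (n + 1)) : h2mkPr n y = 0 :=
  Ideal.Quotient.eq_zero_iff_mem.mpr hy

theorem h2_prod_delta {ι : Type*} [DecidableEq ι] (s : Finset ι) (b : ι → B) :
    ∏ i ∈ s, h2delta A (b i) = ∑ H ∈ s.powerset,
      ((-1 : ℤ) ^ H.card) • ((∏ i ∈ H, b i) ⊗ₜ[A] (∏ i ∈ s \ H, b i)) := by
  have h1 : ∀ i, h2delta A (b i) = -((b i) ⊗ₜ[A] (1 : B)) + (1 : B) ⊗ₜ[A] (b i) := by
    intro i
    rw [h2delta]
    abel
  simp only [h1]
  rw [Finset.prod_add]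
  apply Finset.sum_congr rfl
  intro H _
  rw [Finset.prod_neg]
  have h2 : ∏ i ∈ H, (b i) ⊗ₜ[A] (1 : B) = (∏ i ∈ H, b i) ⊗ₜ[A] (1 : B) := by
    have := map_prod (Algebra.TensorProduct.includeLeft : B →ₐ[A] B ⊗[A] B) b H
    simp only [Algebra.TensorProduct.includeLeft_apply] at this
    exact this.symm
  have h3 : ∏ i ∈ s \ H, (1 : B) ⊗ₜ[A] (b i) = (1 : B) ⊗ₜ[A] (∏ i ∈ s \ H, b i) := by
    have := map_prod (Algebra.TensorProduct.includeRight : B →ₐ[A] B ⊗[A] B) b (s \ H)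
    simp only [Algebra.TensorProduct.includeRight_apply] at this
    exact this.symm
  rw [h2, h3, mul_assoc, Algebra.TensorProduct.tmul_mul_tmul, mul_one, one_mul]
  rw [zsmul_eq_mul]
  push_cast
  rfl

theorem h2_prod_delta_mem {ι : Type*} (s : Finset ι) (b : ι → B) :
    ∏ i ∈ s, h2delta A (b i) ∈ (KaehlerDifferential.ideal A B) ^ s.card := by
  have := Ideal.prod_mem_prod (s := s) (I := fun _ => KaehlerDifferential.ideal A B)
    (x := fun i => h2delta A (b i)) (fun i _ => h2_delta_mem (b i))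
  rwa [Finset.prod_const] at this

/-- the main equivalence -/
theorem h2_isDiffOpLE_iff_existsUnique (n : ℕ) (D : M →ₗ[A] N) :
    IsDiffOpLE A B M N n D ↔
      ∃! u : PM n A B M →+ N,
        (∀ (b : B) (t : PM n A B M), u (algebraMap B (P n A B) b • t) = b • u t) ∧
          ∀ m : M, u (dM n A B M m) = D m := by
  constructor
  · intro hD
    have h := fun x hx => h2g_eq_zero n D hD x hx
    refine ⟨h2u n D h, ⟨h2u_smul n D h, h2u_dM n D h⟩, ?_⟩
    rintro u' ⟨h1, h2⟩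
    apply DFunLike.ext
    intro t
    induction t using TensorProduct.induction_on with
    | zero => rw [map_zero, map_zero]
    | tmul x m =>
      obtain ⟨y, rfl⟩ := h2mkPr_surjective n x
      rw [h2u_unique n D u' h1 h2, h2u_mk_tmul]
    | add x y hx hy => rw [map_add, map_add, hx, hy]
  · rintro ⟨u, ⟨h1, h2⟩, -⟩
    classical
    apply h2_isDiffOpLE_of_alt_eq_zero n D (Finset.univ : Finset (Fin (n + 1))) (by simp)
    intro b t
    have key : ∀ y : B ⊗[A] B, u (h2mkPr n y ⊗ₜ[B] t) = h2g D y t := fun y =>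
      h2u_unique n D u h1 h2 y t
    have hterm : ∀ H : Finset (Fin (n + 1)),
        (∏ i ∈ H, b i) • D ((∏ i ∈ Finset.univ \ H, b i) • t) =
          h2g D ((∏ i ∈ H, b i) ⊗ₜ[A] (∏ i ∈ Finset.univ \ H, b i)) t := by
      intro H
      rw [h2g_tmul]
    unfold h2alt
    simp only [hterm]
    have hsum : ∑ H ∈ (Finset.univ : Finset (Fin (n + 1))).powerset, ((-1 : ℤ) ^ H.card) •
        h2g D ((∏ i ∈ H, b i) ⊗ₜ[A] (∏ i ∈ Finset.univ \ H, b i)) t =
        h2g D (∏ i ∈ (Finset.univ : Finset (Fin (n + 1))), h2delta A (b i)) t := by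
      rw [h2_prod_delta, map_sum, LinearMap.sum_apply]
      apply Finset.sum_congr rfl
      intro H _
      rw [map_zsmul, LinearMap.smul_apply]
    rw [hsum, ← key, h2mkPr_eq_zero, TensorProduct.zero_tmul, map_zero]
    have := h2_prod_delta_mem (A := A) (Finset.univ : Finset (Fin (n + 1))) b
    simpa using this

end Groth.Agent.Lib.helper2
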