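import Groth.Agent.Lib.helper2.PField2
import Groth.Agent.Lib.helper2.PBasis
import Mathlib

/-!
# Fields are formally smooth over perfect subfields (via `p`-bases), and over `ℚ`
-/

open EGA41

universe u

/-- Every field extension in characteristic `p` has a `p`-basis. -/
theorem h2_exists_pbasis (p : ℕ) [Fact p.Prime] {k K : Type u} [Field k] [Field K] [Algebra k K]
    [CharP K p] : ∃ B : Set K, IsPBasis p k (Subtype.val : B → K) := by
  have hp : p.Prime := Fact.out
  have hCf := h2_ppow_isField p (k := k) (K := K)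
  have hpowC : ∀ b : K, b ^ p ∈ Set.range (algebraMap (pPowerSubalgebra p k K) K) :=
    fun b => ⟨⟨b ^ p, h2_ppow_mem p b⟩, rfl⟩
  obtain ⟨B, -, -, hB, hSB⟩ := h2_pind_exists_max p hCf hpowC Set.univ ∅ (Set.empty_subset _)
    (h2_pind_empty p hp.pos (C₀ := pPowerSubalgebra p k K) Subtype.val_injective)
  exact ⟨B, h2_pbasis_of_pind_gen p B hB hSB⟩

/-- In characteristic `p`, if `I ^ 2 = 0` then `a - b ∈ I` implies `a ^ p = b ^ p`. -/
theorem h2_pow_eq_of_sub_mem (p : ℕ) [Fact p.Prime] {B : Type*} [CommRing B] [CharP B p]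
    (I : Ideal B) (hI : I ^ 2 = ⊥) (a b : B) (h : a - b ∈ I) : a ^ p = b ^ p := by
  have hp : p.Prime := Fact.out
  have h1 : a = b + (a - b) := by ring
  have h2 : (a - b) ^ p = 0 := by
    have h3 : (a - b) ^ 2 ∈ I ^ 2 := Ideal.pow_mem_pow h 2
    rw [hI, Ideal.mem_bot] at h3
    have h4 : p = 2 + (p - 2) := by have := hp.two_le; omega
    rw [h4, pow_add, h3, zero_mul]
  rw [h1, add_pow_char, h2, add_zero]

/-- A field of characteristic `p` is formally smooth over any perfect subfield. -/
theorem h2_formallySmooth_of_perfect (p : ℕ) [Fact p.Prime] {k K : Type u} [Field k] [Field K]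
    [Algebra k K] [CharP K p] [CharP k p] [PerfectRing k p] : Algebra.FormallySmooth k K := by
  classical
  have hp : p.Prime := Fact.out
  obtain ⟨Bs, hBs⟩ := h2_exists_pbasis p (k := k) (K := K)
  refine Algebra.FormallySmooth.of_comp_surjective ?_
  intro B _ _ I hI f
  by_cases hB : Subsingleton B
  · have hBI : Subsingleton (B ⧸ I) := Function.Surjective.subsingleton Ideal.Quotient.mk_surjective
    let g : K →ₐ[k] B :=
      { toFun := fun _ => 0
        map_one' := Subsingleton.elim _ _
        map_mul' := fun _ _ => Subsingleton.elim _ _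
        map_zero' := rfl
        map_add' := fun _ _ => Subsingleton.elim _ _
        commutes' := fun _ => Subsingleton.elim _ _ }
    refine ⟨g, ?_⟩
    ext x
    exact Subsingleton.elim _ _
  rw [not_subsingleton_iff_nontrivial] at hB
  haveI : CharP B p := charP_of_injective_algebraMap (algebraMap k B).injective p
  have hinjp : ∀ a b : K, a ^ p = b ^ p → a = b := by
    intro a b h
    exact frobenius_inj K p (by simpa [frobenius_def] using h)
  let mk := Ideal.Quotient.mk I
  let σ : B ⧸ I → B := Function.surjInv Ideal.Quotient.mk_surjective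
  have hσ : ∀ y, mk (σ y) = y := Function.surjInv_eq Ideal.Quotient.mk_surjective
  have key : ∀ a b : B, mk a = mk b → a ^ p = b ^ p := fun a b h =>
    h2_pow_eq_of_sub_mem p I hI a b (Ideal.Quotient.eq.mp h)
  let φ : B ⧸ I →+* B :=
    { toFun := fun y => σ y ^ p
      map_one' := by
        have h := key (σ 1) 1 (by rw [hσ, map_one])
        rw [h, one_pow]
      map_mul' := fun x y => by
        have h := key (σ (x * y)) (σ x * σ y) (by rw [hσ, map_mul, hσ, hσ])
        rw [h, mul_pow]
      map_zero' := by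
        have h := key (σ 0) 0 (by rw [hσ, map_zero])
        rw [h, zero_pow hp.ne_zero]
      map_add' := fun x y => by
        have h := key (σ (x + y)) (σ x + σ y) (by rw [hσ, map_add, hσ, hσ])
        rw [h, add_pow_char] }
  have hφ : ∀ a : B, φ (mk a) = a ^ p := fun a => key _ _ (hσ _)
  have hφmk : ∀ y, mk (φ y) = y ^ p := fun y => by
    show mk (σ y ^ p) = y ^ p
    rw [map_pow, hσ]
  -- every element of `k[K^p]` is a `p`-th power
  let T : Subalgebra k K :=
    { (frobenius K p).range.toSubsemiring with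
      algebraMap_mem' := fun c => by
        obtain ⟨e, he⟩ := surjective_frobenius k p c
        refine ⟨algebraMap k K e, ?_⟩
        rw [frobenius_def, ← map_pow, ← frobenius_def, he] }
  have hT : pPowerSubalgebra p k K ≤ T := h2_ppow_le p T (fun b => ⟨b, rfl⟩)
  have hroot : ∀ r : pPowerSubalgebra p k K, ∃ y : K, y ^ p = (r : K) := fun r => by
    obtain ⟨y, hy⟩ := hT r.2
    exact ⟨y, hy⟩
  let ρf : pPowerSubalgebra p k K → K := fun r => Classical.choose (hroot r)
  have hρf : ∀ r, ρf r ^ p = (r : K) := fun r => Classical.choose_spec (hroot r)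
  let ρ : pPowerSubalgebra p k K →+* K :=
    { toFun := ρf
      map_one' := hinjp _ _ (by rw [hρf, one_pow]; rfl)
      map_mul' := fun r s => hinjp _ _ (by rw [hρf, mul_pow, hρf, hρf]; rfl)
      map_zero' := hinjp _ _ (by rw [hρf, zero_pow hp.ne_zero]; rfl)
      map_add' := fun r s => hinjp _ _ (by rw [hρf, add_pow_char, hρf, hρf]; rfl) }
  have hρ : ∀ (r : pPowerSubalgebra p k K) (y : K), y ^ p = (r : K) → ρ r = y := fun r y hy =>
    hinjp _ _ ((hρf r).trans hy.symm)
  let g₀ : pPowerSubalgebra p k K →+* B := φ.comp (f.toRingHom.comp ρ)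
  letI : Algebra (pPowerSubalgebra p k K) B := g₀.toAlgebra
  let x : Bs → K := Subtype.val
  let c : Bs → pPowerSubalgebra p k K := fun i => ⟨x i ^ p, h2_ppow_mem p (x i)⟩
  have hc : ∀ i, x i ^ p = algebraMap (pPowerSubalgebra p k K) K (c i) := fun i => rfl
  let z : Bs → B := fun i => σ (f (x i))
  have hz : ∀ i, z i ^ p = algebraMap (pPowerSubalgebra p k K) B (c i) := by
    intro i
    show σ (f (x i)) ^ p = φ (f (ρ (c i)))
    rw [hρ (c i) (x i) rfl]
    rfl
  obtain ⟨v, hv⟩ := h2_plift p hp.pos x c hc hBs.1 hBs.2 z hz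
  have hvk : ∀ a : k, v (algebraMap k K a) = algebraMap k B a := by
    intro a
    obtain ⟨e, he⟩ := surjective_frobenius k p a
    rw [frobenius_def] at he
    have h1 : algebraMap k K a =
        algebraMap (pPowerSubalgebra p k K) K (algebraMap k (pPowerSubalgebra p k K) a) := rfl
    rw [h1, v.commutes]
    show φ (f (ρ (algebraMap k (pPowerSubalgebra p k K) a))) = algebraMap k B a
    have h2 : ρ (algebraMap k (pPowerSubalgebra p k K) a) = algebraMap k K e := by
      apply hρ
      rw [← map_pow, he]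
      rfl
    rw [h2, f.commutes]
    have h3 : algebraMap k (B ⧸ I) e = mk (algebraMap k B e) := rfl
    rw [h3, hφ, ← map_pow, he]
  let v' : K →ₐ[k] B := { v.toRingHom with commutes' := hvk }
  refine ⟨v', ?_⟩
  letI : Algebra (pPowerSubalgebra p k K) (B ⧸ I) := ((Ideal.Quotient.mk I).comp g₀).toAlgebra
  let v₁ : K →ₐ[pPowerSubalgebra p k K] (B ⧸ I) :=
    { (Ideal.Quotient.mk I).comp v.toRingHom with
      commutes' := fun r => by
        show mk (v (algebraMap (pPowerSubalgebra p k K) K r)) = mk (g₀ r)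
        rw [v.commutes]
        rfl }
  let f₁ : K →ₐ[pPowerSubalgebra p k K] (B ⧸ I) :=
    { f.toRingHom with
      commutes' := fun r => by
        show f (r : K) = mk (φ (f (ρ r)))
        rw [hφmk, ← map_pow]
        congr 1
        exact (hρf r).symm }
  have h12 : v₁ = f₁ := by
    refine h2_plift_unique p x hBs.2 v₁ f₁ (fun i => ?_)
    show mk (v (x i)) = f (x i)
    rw [hv]
    exact hσ _
  ext y
  exact congrArg (fun w : K →ₐ[pPowerSubalgebra p k K] (B ⧸ I) => w y) h12

/-- A field of characteristic zero is formally smooth over `ℚ`. -/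
theorem h2_formallySmooth_rat {K : Type u} [Field K] [CharZero K] : Algebra.FormallySmooth ℚ K := by
  obtain ⟨s, hs⟩ := exists_isTranscendenceBasis ℚ K
  haveI : Algebra.IsAlgebraic (IntermediateField.adjoin ℚ (Set.range ((↑) : s → K))) K :=
    hs.isAlgebraic_field
  exact Algebra.FormallySmooth.of_algebraicIndependent_of_isSeparable hs.1

/-- A field of characteristic `p` is formally smooth over `ZMod p`. -/
theorem h2_formallySmooth_zmod (p : ℕ) [Fact p.Prime] {K : Type u} [Field K] [CharP K p]
    [Algebra (ZMod p) K] : Algebra.FormallySmooth (ZMod p) K := by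
  letI : Algebra (ULift.{u} (ZMod p)) K := ULift.algebra' (ZMod p) K
  haveI : IsScalarTower (ZMod p) (ULift.{u} (ZMod p)) K :=
    IsScalarTower.of_algebraMap_eq (fun x => rfl)
  haveI : Algebra.FormallySmooth (ULift.{u} (ZMod p)) K := h2_formallySmooth_of_perfect p
  haveI : Algebra.FormallySmooth (ZMod p) (ULift.{u} (ZMod p)) :=
    .of_equiv (ULift.algEquiv (R := ZMod p) (A := ZMod p)).symm
  exact Algebra.FormallySmooth.comp (ZMod p) (ULift.{u} (ZMod p)) K

theorem h2_isAdicComplete_pow {S : Type*} [CommRing S] (I : Ideal S) [IsAdicComplete I S]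
    (k : ℕ) (hk : 0 < k) : IsAdicComplete (I ^ k) S := by
  have hle : ∀ n, (I ^ k) ^ n ≤ I ^ n := fun n => by
    rw [← pow_mul]; exact Ideal.pow_le_pow_right (Nat.le_mul_of_pos_left n hk)
  have e : ∀ (J : Ideal S) (n : ℕ) (a b : S),
      a ≡ b [SMOD (J ^ n • ⊤ : Submodule S S)] ↔ a - b ∈ J ^ n := by
    intro J n a b
    rw [SModEq.sub_mem, smul_eq_mul, Ideal.mul_top]
  haveI : IsHausdorff (I ^ k) S := ⟨fun x hx => by
    refine IsHausdorff.haus (inferInstance : IsHausdorff I S) x (fun n => ?_)
    rw [e]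
    exact hle n ((e _ _ _ _).mp (hx n))⟩
  haveI : IsPrecomplete (I ^ k) S := ⟨fun f hf => by
    have hf' : ∀ {m n}, m ≤ n → f m ≡ f n [SMOD (I ^ m • ⊤ : Submodule S S)] := by
      intro m n hmn
      rw [e]
      exact hle m ((e _ _ _ _).mp (hf hmn))
    obtain ⟨L, hL⟩ := IsPrecomplete.prec (inferInstance : IsPrecomplete I S) hf'
    refine ⟨L, fun n => ?_⟩
    rw [e, ← pow_mul]
    have h1 : f n - f (k * n) ∈ (I ^ k) ^ n := (e _ _ _ _).mp (hf (Nat.le_mul_of_pos_left n hk))
    have h2 : f (k * n) - L ∈ I ^ (k * n) := (e _ _ _ _).mp (hL (k * n))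
    rw [← pow_mul] at h1
    have h3 : f n - L = (f n - f (k * n)) + (f (k * n) - L) := by ring
    rw [h3]
    exact add_mem h1 h2⟩
  exact {}

theorem h2_field_lift_aux {k₀ : Type*} [Field k₀] {K S : Type u} [Field K] [CommRing S]
    [Algebra k₀ K] [Algebra.FormallySmooth k₀ K] (u : K →+* S) (I : Ideal S) [IsAdicComplete I S]
    (f : K →+* S ⧸ I) (hsub : Subsingleton (k₀ →+* S ⧸ I)) :
    ∃ g : K →+* S, ∀ x, Ideal.Quotient.mk I (g x) = f x := by
  letI : Algebra k₀ S := (u.comp (algebraMap k₀ K)).toAlgebra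
  let f' : K →ₐ[k₀] S ⧸ I :=
    { f with
      commutes' := fun c => by
        have h := hsub.elim (f.comp (algebraMap k₀ K)) (algebraMap k₀ (S ⧸ I))
        exact congrFun (congrArg DFunLike.coe h) c }
  obtain ⟨g, hg⟩ := Algebra.FormallySmooth.exists_mkₐ_comp_eq_of_isAdicComplete f'
  exact ⟨g.toRingHom, fun x => congrArg (fun w : K →ₐ[k₀] S ⧸ I => w x) hg⟩

/-- Lifting ring homomorphisms out of a field through a complete ideal, for rings containing
the field. -/
theorem h2_field_lift_complete {K S : Type u} [Field K] [CommRing S] (u : K →+* S) (I : Ideal S)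
    [IsAdicComplete I S] (f : K →+* S ⧸ I) :
    ∃ g : K →+* S, ∀ x, Ideal.Quotient.mk I (g x) = f x := by
  obtain ⟨q, hq⟩ := CharP.exists K
  rcases CharP.char_is_prime_or_zero K q with hq' | hq'
  · haveI : Fact q.Prime := ⟨hq'⟩
    letI : Algebra (ZMod q) K := ZMod.algebra K q
    haveI := h2_formallySmooth_zmod q (K := K)
    exact h2_field_lift_aux (k₀ := ZMod q) u I f inferInstance
  · subst hq'
    haveI : CharZero K := CharP.charP_to_charZero K
    haveI := h2_formallySmooth_rat (K := K)
    exact h2_field_lift_aux (k₀ := ℚ) u I f inferInstance
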