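import Mathlib

set_option autoImplicit false
universe u

namespace Groth.Agent.Lib.helper2

open HomogeneousIdeal

variable {R A : Type u} [CommRing R] [CommRing A] [Algebra R A] (𝒜 : ℕ → Submodule R A) [GradedAlgebra 𝒜]

/-- From a prime ideal of `A` missing a homogeneous element `f` of positive degree, we get a point
of `Proj` missing `f`. -/
theorem h2_exists_proj_point_of_prime {d : ℕ} (hd : 0 < d) {f : A} (hf : f ∈ 𝒜 d)
    (q : Ideal A) [hq : q.IsPrime] (hfq : f ∉ q) :
    ∃ x : ProjectiveSpectrum 𝒜, f ∉ x.asHomogeneousIdeal ∧ x.asHomogeneousIdeal.toIdeal ≤ q ∧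
      x.asHomogeneousIdeal = q.homogeneousCore 𝒜 := by
  have hcore : (q.homogeneousCore 𝒜).toIdeal.IsPrime := Ideal.IsPrime.homogeneousCore hq
  have hle : (q.homogeneousCore 𝒜).toIdeal ≤ q := Ideal.toIdeal_homogeneousCore_le 𝒜 q
  have hfcore : f ∉ (q.homogeneousCore 𝒜).toIdeal := fun h => hfq (hle h)
  refine ⟨⟨q.homogeneousCore 𝒜, hcore, ?_⟩, hfcore, hle, rfl⟩
  intro hirr
  exact hfcore (hirr (HomogeneousIdeal.mem_irrelevant_of_mem 𝒜 hd hf))

/-- A non-nilpotent homogeneous element of positive degree is nonzero at some point of `Proj`. -/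
theorem h2_exists_proj_point_not_mem {d : ℕ} (hd : 0 < d) {f : A} (hf : f ∈ 𝒜 d)
    (hnil : ¬ IsNilpotent f) : ∃ x : ProjectiveSpectrum 𝒜, f ∉ x.asHomogeneousIdeal := by
  have : f ∉ nilradical A := by rwa [mem_nilradical]
  rw [nilradical_eq_sInf, Ideal.mem_sInf] at this
  push Not at this
  obtain ⟨q, hq, hfq⟩ := this
  have : q.IsPrime := hq
  obtain ⟨x, hx, -, -⟩ := h2_exists_proj_point_of_prime 𝒜 hd hf q hfq
  exact ⟨x, hx⟩

/-- An element of the irrelevant ideal lying in every point of `Proj` is nilpotent. -/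
theorem h2_isNilpotent_of_forall_mem {e : A} (he : e ∈ (HomogeneousIdeal.irrelevant 𝒜).toIdeal)
    (h : ∀ x : ProjectiveSpectrum 𝒜, e ∈ x.asHomogeneousIdeal) : IsNilpotent e := by
  classical
  have hsum : e = ∑ i ∈ (DirectSum.decompose 𝒜 e).support, (DirectSum.decompose 𝒜 e i : A) :=
    (DirectSum.sum_support_decompose 𝒜 e).symm
  rw [hsum]
  apply isNilpotent_sum
  intro i _
  by_cases hi : i = 0
  · subst hi
    have : (DirectSum.decompose 𝒜 e 0 : A) = 0 := by
      have := (HomogeneousIdeal.mem_irrelevant_iff 𝒜 e).1 he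
      simpa [GradedRing.proj_apply] using this
    rw [this]
    exact IsNilpotent.zero
  · by_contra hnil
    obtain ⟨x, hx⟩ := h2_exists_proj_point_not_mem 𝒜 (Nat.pos_of_ne_zero hi)
      (SetLike.coe_mem (DirectSum.decompose 𝒜 e i)) hnil
    exact hx (x.asHomogeneousIdeal.isHomogeneous i (h x))

end Groth.Agent.Lib.helper2

namespace Groth.Agent.Lib.helper2

open HomogeneousLocalization

variable {R A : Type u} [CommRing R] [CommRing A] [Algebra R A] (𝒜 : ℕ → Submodule R A) [GradedAlgebra 𝒜]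

/-- If the irrelevant ideal has no nonzero nilpotent element, the degree-zero localizations at
homogeneous elements of positive degree are reduced. -/
theorem h2_isReduced_away {d : ℕ} (hd : 0 < d) {f : A} (hf : f ∈ 𝒜 d)
    (hred : ∀ g ∈ (HomogeneousIdeal.irrelevant 𝒜).toIdeal, IsNilpotent g → g = 0) :
    IsReduced (HomogeneousLocalization.Away 𝒜 f) := by
  refine ⟨fun z hz => ?_⟩
  obtain ⟨n, a, ha, rfl⟩ := HomogeneousLocalization.Away.mk_surjective 𝒜 hf z
  obtain ⟨m, hm⟩ := hz
  have h1 : (HomogeneousLocalization.Away.mk 𝒜 hf n a ha).val ^ m = 0 := by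
    rw [← HomogeneousLocalization.val_pow, hm, HomogeneousLocalization.val_zero]
  rw [HomogeneousLocalization.Away.val_mk, Localization.mk_pow, Localization.mk_eq_mk',
    IsLocalization.mk'_eq_zero_iff] at h1
  obtain ⟨⟨_, k, rfl⟩, hk⟩ := h1
  have hk' : f ^ k * a ^ m = 0 := hk
  have hnil : IsNilpotent (f * a) := by
    refine ⟨max k m, ?_⟩
    rw [mul_pow]
    have e1 : f ^ max k m = f ^ (max k m - k) * f ^ k := by
      rw [← pow_add, Nat.sub_add_cancel (le_max_left k m)]
    have e2 : a ^ max k m = a ^ m * a ^ (max k m - m) := by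
      rw [← pow_add, Nat.add_sub_cancel' (le_max_right k m)]
    rw [e1, e2]
    calc f ^ (max k m - k) * f ^ k * (a ^ m * a ^ (max k m - m))
        = f ^ (max k m - k) * (f ^ k * a ^ m) * a ^ (max k m - m) := by ring
      _ = 0 := by rw [hk']; ring
  have hfa : f * a = 0 := by
    apply hred _ _ hnil
    exact Ideal.mul_mem_right _ _ (HomogeneousIdeal.mem_irrelevant_of_mem 𝒜 hd hf)
  apply HomogeneousLocalization.val_injective
  rw [HomogeneousLocalization.Away.val_mk, HomogeneousLocalization.val_zero, Localization.mk_eq_mk',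
    IsLocalization.mk'_eq_zero_iff]
  exact ⟨⟨f, 1, pow_one f⟩, hfa⟩

end Groth.Agent.Lib.helper2

namespace Groth.Agent.Lib.helper2

variable {R A : Type u} [CommRing R] [CommRing A] [Algebra R A] (𝒜 : ℕ → Submodule R A) [GradedAlgebra 𝒜]

/-- Every point of `Proj` misses some homogeneous element of positive degree. -/
theorem h2_exists_homogeneous_notMem (x : ProjectiveSpectrum 𝒜) :
    ∃ d : ℕ, 0 < d ∧ ∃ s : A, s ∈ 𝒜 d ∧ s ∉ x.asHomogeneousIdeal := by
  classical
  by_contra hcon
  push Not at hcon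
  apply x.not_irrelevant_le
  intro g hg
  have hsum : g = ∑ i ∈ (DirectSum.decompose 𝒜 g).support, (DirectSum.decompose 𝒜 g i : A) :=
    (DirectSum.sum_support_decompose 𝒜 g).symm
  rw [hsum]
  refine Ideal.sum_mem _ (fun i _ => ?_)
  by_cases hi : i = 0
  · subst hi
    have : (DirectSum.decompose 𝒜 g 0 : A) = 0 := by
      have := (HomogeneousIdeal.mem_irrelevant_iff 𝒜 g).1 hg
      simpa [GradedRing.proj_apply] using this
    rw [this]; exact Ideal.zero_mem _
  · exact hcon i (Nat.pos_of_ne_zero hi) _ (SetLike.coe_mem _)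

end Groth.Agent.Lib.helper2
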