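import Mathlib
import Groth.Prelude.Def_FSch3
import Groth.Agent.Lib.helper2.AdicHomLib

/-! Levelwise fibre products of adic morphisms of systems (helper2). -/

namespace H2ComapMul
open AlgebraicGeometry CategoryTheory CategoryTheory.Limits
universe u

theorem pullbackSnd_adic {𝔛 𝔖 𝔖' : FSch.Sys.{u}} (f : 𝔛 ⟶ 𝔖) (g : 𝔖' ⟶ 𝔖)
    (hf : FSch.IsAdicHom f) : FSch.IsAdicHom (FSch.pullbackSnd f g) := by
  intro n
  have L : IsPullback (pullback.fst ((f : FSch.Hom _ _).app n) ((g : FSch.Hom _ _).app n))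
      (pullback.snd _ _) ((f : FSch.Hom _ _).app n) ((g : FSch.Hom _ _).app n) :=
    IsPullback.of_hasPullback _ _
  have R := hf n
  have outer := L.paste_horiz R
  have R' : IsPullback
      (pullback.fst ((f : FSch.Hom _ _).app (n + 1)) ((g : FSch.Hom _ _).app (n + 1)))
      (pullback.snd _ _) ((f : FSch.Hom _ _).app (n + 1)) ((g : FSch.Hom _ _).app (n + 1)) :=
    IsPullback.of_hasPullback _ _
  have e1 : pullback.fst ((f : FSch.Hom _ _).app n) ((g : FSch.Hom _ _).app n) ≫ 𝔛.ι n =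
      (FSch.pullbackSys f g).ι n ≫
        pullback.fst ((f : FSch.Hom _ _).app (n + 1)) ((g : FSch.Hom _ _).app (n + 1)) :=
    (FSch.pullbackFst f g : FSch.Hom _ _).comm n
  have e2 : (g : FSch.Hom _ _).app n ≫ 𝔖.ι n = 𝔖'.ι n ≫ (g : FSch.Hom _ _).app (n + 1) :=
    (g : FSch.Hom _ _).comm n
  have outer' : IsPullback ((FSch.pullbackSys f g).ι n ≫
        pullback.fst ((f : FSch.Hom _ _).app (n + 1)) ((g : FSch.Hom _ _).app (n + 1)))
      (pullback.snd ((f : FSch.Hom _ _).app n) ((g : FSch.Hom _ _).app n))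
      ((f : FSch.Hom _ _).app (n + 1)) (𝔖'.ι n ≫ (g : FSch.Hom _ _).app (n + 1)) := by
    rw [← e1, ← e2]; exact outer
  have p : (FSch.pullbackSys f g).ι n ≫
      pullback.snd ((f : FSch.Hom _ _).app (n + 1)) ((g : FSch.Hom _ _).app (n + 1)) =
      pullback.snd ((f : FSch.Hom _ _).app n) ((g : FSch.Hom _ _).app n) ≫ 𝔖'.ι n :=
    ((FSch.pullbackSnd f g : FSch.Hom _ _).comm n).symm
  exact IsPullback.of_right outer' p R'

theorem pullbackSys_main {𝔛 𝔖 𝔖' : FSch.Sys.{u}} (f : 𝔛 ⟶ 𝔖) (g : 𝔖' ⟶ 𝔖)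
    (h𝔖' : 𝔖'.IsLocNoethFormal) (hf : FSch.IsAdicHom f)
    [LocallyOfFiniteType ((f : FSch.Hom 𝔛 𝔖).app 0)] :
    (FSch.pullbackSys f g).IsLocNoethFormal ∧ FSch.IsAdicHom (FSch.pullbackSnd f g) ∧
      LocallyOfFiniteType ((FSch.pullbackSnd f g : FSch.Hom _ _).app 0) := by
  have hb := pullbackSnd_adic f g hf
  have hc : LocallyOfFiniteType
      (pullback.snd ((f : FSch.Hom _ _).app 0) ((g : FSch.Hom _ _).app 0)) := inferInstance
  haveI : IsLocallyNoetherian (𝔖'.X 0) := h𝔖'.2.2 0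
  haveI : IsLocallyNoetherian ((FSch.pullbackSys f g).X 0) := by
    show IsLocallyNoetherian (pullback ((f : FSch.Hom _ _).app 0) ((g : FSch.Hom _ _).app 0))
    exact LocallyOfFiniteType.isLocallyNoetherian (pullback.snd _ _)
  exact ⟨adic_main (FSch.pullbackSnd f g) hb h𝔖', hb, hc⟩

end H2ComapMul
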