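import Mathlib
import Groth.Prelude.Def_CAlgX
import Groth.Agent.Lib.helper2.QReg2

/-! `J ∩ Rⁿ = J Rⁿ + J ∩ R^N` for `R` generated by an `A/J`-regular sequence. -/

universe u

theorem h2_inf_pow_le_succ {A : Type u} [CommRing A] (J : Ideal A) {r : ℕ} (f : Fin r → A)
    (hf : RingTheory.Sequence.IsWeaklyRegular (A ⧸ J) (List.ofFn f)) (k : ℕ) :
    J ⊓ Ideal.span (Set.range f) ^ k ≤
      J * Ideal.span (Set.range f) ^ k ⊔ J ⊓ Ideal.span (Set.range f) ^ (k + 1) := by
  classical
  let gA : Fin r → A := fun i => f (Fin.rev i)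
  have hrange : Set.range gA = Set.range f := by
    ext y; constructor
    · rintro ⟨i, rfl⟩; exact ⟨Fin.rev i, rfl⟩
    · rintro ⟨i, rfl⟩; exact ⟨Fin.rev i, by simp [gA]⟩
  let mk := Ideal.Quotient.mk J
  let gq : Fin r → A ⧸ J := fun i => mk (gA i)
  have hqr : CAlgX.IsQuasiRegular gq := by
    apply h2_qreg_of_regular
    have h0 : (List.ofFn fun i => gq (Fin.rev i)) = (List.ofFn f).map (algebraMap A (A ⧸ J)) := by
      rw [List.map_ofFn]
      congr 1
      funext i
      simp [gq, gA, mk]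
    rw [h0]
    exact (RingTheory.Sequence.isWeaklyRegular_map_algebraMap_iff (A ⧸ J) (A ⧸ J)
      (List.ofFn f)).mpr hf
  rintro x ⟨hxJ, hxR⟩
  obtain ⟨P, hP1, -, hP3⟩ := h2_hom_repr gA ⊤ k x (by rw [Ideal.top_mul, hrange]; exact hxR)
  have hPq : (MvPolynomial.map mk P).IsHomogeneous k := hP1.map mk
  have hevq : MvPolynomial.eval gq (MvPolynomial.map mk P) = 0 := by
    have h1 : MvPolynomial.eval gq (MvPolynomial.map mk P) = mk (MvPolynomial.eval gA P) := by
      rw [MvPolynomial.eval_map]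
      exact (MvPolynomial.eval₂_comp_left mk (RingHom.id A) gA P).symm
    rw [h1, hP3]; exact Ideal.Quotient.eq_zero_iff_mem.mpr hxJ
  have hspan : Ideal.span (Set.range gq) = (Ideal.span (Set.range f)).map mk := by
    rw [Ideal.map_span, ← hrange, ← Set.range_comp]
    rfl
  have hcoef : ∀ m, P.coeff m ∈ J ⊔ Ideal.span (Set.range f) := by
    intro m
    have h1 := hqr k (MvPolynomial.map mk P) hPq (by rw [hevq]; exact zero_mem _) m
    rw [MvPolynomial.coeff_map, hspan] at h1
    have h2 : P.coeff m ∈ ((Ideal.span (Set.range f)).map mk).comap mk := h1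
    rw [Ideal.comap_map_of_surjective mk Ideal.Quotient.mk_surjective,
      ← RingHom.ker_eq_comap_bot, Ideal.mk_ker, sup_comm] at h2
    exact h2
  have hx2 := h2_eval_mem gA (J ⊔ Ideal.span (Set.range f)) k P hP1 hcoef
  rw [hP3, hrange, Ideal.sup_mul, ← pow_succ'] at hx2
  obtain ⟨y, hy, z, hz, rfl⟩ := Submodule.mem_sup.mp hx2
  have hyJ : y ∈ J := Ideal.mul_le_left hy
  have hzJ : z ∈ J := by
    have h3 := J.sub_mem hxJ hyJ
    rwa [add_sub_cancel_left] at h3
  exact Submodule.add_mem_sup hy (Submodule.mem_inf.mpr ⟨hzJ, hz⟩)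

theorem h2_inf_pow_le {A : Type u} [CommRing A] (J : Ideal A) {r : ℕ} (f : Fin r → A)
    (hf : RingTheory.Sequence.IsWeaklyRegular (A ⧸ J) (List.ofFn f)) (n N : ℕ) (hnN : n ≤ N) :
    J ⊓ Ideal.span (Set.range f) ^ n ≤
      J * Ideal.span (Set.range f) ^ n ⊔ J ⊓ Ideal.span (Set.range f) ^ N := by
  induction N, hnN using Nat.le_induction with
  | base => exact le_sup_right
  | succ N hN ih =>
    refine ih.trans (sup_le le_sup_left ?_)
    refine (h2_inf_pow_le_succ J f hf N).trans (sup_le ?_ le_sup_right)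
    exact le_sup_of_le_left (Ideal.mul_mono_right (Ideal.pow_le_pow_right hN))
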