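import Mathlib

/-! Conjugation of reflections in the automorphism group of a root pairing. -/

open RootPairing

section
variable {ι R M N : Type*} [CommRing R] [AddCommGroup M] [Module R M] [AddCommGroup N]
  [Module R N] (P : RootPairing ι R M N)

theorem h2_coroot'_smul (g : P.Aut) (i : ι) (x : M) :
    P.coroot' (g • i) (g • x) = P.coroot' i x := by
  have h1 := Hom.weight_coweight_transpose_apply P P (P.coroot (g • i)) g.toHom
  have h2 := Hom.coroot_coweightMap_apply P P (g • i) g.toHom
  have h3 := congrArg (fun φ => φ x) h1
  simp at h3
  have h4 : (g.toHom : Hom P P).indexEquiv.symm (g • i) = i := Equiv.symm_apply_apply _ i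
  rw [h2, h4] at h3
  exact h3

theorem h2_smul_root (g : P.Aut) (i : ι) : g • P.root i = P.root (g • i) :=
  (Equiv.root_indexEquiv_eq_smul P i g).symm

theorem h2_smul_reflection (g : P.Aut) (i : ι) (x : M) :
    g • (P.reflection i x) = P.reflection (g • i) (g • x) := by
  rw [P.reflection_apply, P.reflection_apply, smul_sub, smul_comm, h2_smul_root,
    h2_coroot'_smul]

theorem h2_conj_reflection (g : P.Aut) (i : ι) :
    g * Equiv.reflection P i * g⁻¹ = Equiv.reflection P (g • i) := by
  apply Equiv.weightHom_injective P
  apply LinearEquiv.ext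
  intro x
  show (g * Equiv.reflection P i * g⁻¹) • x = Equiv.reflection P (g • i) • x
  rw [mul_smul, mul_smul, Equiv.reflection_smul, Equiv.reflection_smul, h2_smul_reflection,
    smul_inv_smul]

end
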