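import Mathlib
import Groth.Agent.Lib.helper2.RootW

/-! Positive systems and automorphisms of root pairings. -/

open RootPairing

section
variable {ι R M N : Type*} [CommRing R] [AddCommGroup M] [Module R M] [AddCommGroup N]
  [Module R N] (P : RootPairing ι R M N)

theorem h2_smul_neg (g : P.Aut) (i : ι) :
    g • (P.reflectionPerm i i) = P.reflectionPerm (g • i) (g • i) := by
  have h2 : P.reflectionPerm (g • i) (g • i) = Equiv.reflection P (g • i) • (g • i) := rfl
  have h3 : g • (P.reflectionPerm i i) = (g * Equiv.reflection P i) • i := by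
    rw [mul_smul]
    rfl
  rw [h2, h3, ← h2_conj_reflection P g i, mul_smul, mul_smul, inv_smul_smul, mul_smul]

theorem h2_root_smul_add (g : P.Aut) {i j k : ι} (h : P.root k = P.root i + P.root j) :
    P.root (g • k) = P.root (g • i) + P.root (g • j) := by
  rw [← h2_smul_root, ← h2_smul_root, ← h2_smul_root, h, smul_add]

end

section
variable {ι R M N : Type*} [CommRing R] [CharZero R] [IsDomain R] [AddCommGroup M] [Module R M]
  [AddCommGroup N] [Module R N] {P : RootPairing ι R M N} [Finite ι] [P.IsCrystallographic]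
  [P.IsReduced]

theorem h2_isPos_neg (b : P.Base) (i : ι) : b.IsPos (P.reflectionPerm i i) ↔ ¬ b.IsPos i :=
  RootPairing.Base.IsPos.neg_iff_not b i

theorem h2_pos_decomp (b : P.Base) {i : ι} (hi : b.IsPos i) (hns : i ∉ b.support) :
    ∃ k a, a ∈ b.support ∧ b.IsPos k ∧ P.root i = P.root k + P.root a := by
  obtain ⟨j, hj, hj'⟩ := hi.exists_mem_support_pos_pairingIn
  rw [P.zero_lt_pairingIn_iff'] at hj'
  have hij : i ≠ j := fun h => hns (h ▸ hj)
  obtain ⟨k, hk⟩ := P.root_sub_root_mem_of_pairingIn_pos hj' hij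
  exact ⟨k, j, hj, hi.sub hj hk, by rw [hk]; abel⟩

theorem h2_pos_of_simple_pos (b b' : P.Base) (g : P.Aut)
    (h : ∀ j ∈ b.support, b'.IsPos (g • j)) {i : ι} (hi : b.IsPos i) : b'.IsPos (g • i) := by
  refine hi.induction_on_add (p := fun i => b'.IsPos (g • i)) h ?_
  intro i j k hk hpi hj
  exact RootPairing.Base.IsPos.add hpi (h j hj) (h2_root_smul_add P g hk)

theorem h2_simple_of_pos_iff (b b' : P.Base) (g : P.Aut)
    (h : ∀ i, b.IsPos i ↔ b'.IsPos (g • i)) {j : ι} (hj : j ∈ b.support) :
    g • j ∈ b'.support := by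
  by_contra hns
  have hpos : b'.IsPos (g • j) := (h j).mp (RootPairing.Base.isPos_of_mem_support hj)
  obtain ⟨k, a, ha, hk, hsum⟩ := h2_pos_decomp b' hpos hns
  have hk' : b.IsPos (g⁻¹ • k) := (h _).mpr (by rw [smul_inv_smul]; exact hk)
  have ha' : b.IsPos (g⁻¹ • a) :=
    (h _).mpr (by rw [smul_inv_smul]; exact RootPairing.Base.isPos_of_mem_support ha)
  have hsum' : P.root j = P.root (g⁻¹ • k) + P.root (g⁻¹ • a) := by
    have h1 := h2_root_smul_add P g⁻¹ hsum
    rwa [inv_smul_smul] at h1
  have hh := b.height_add hsum'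
  rw [RootPairing.Base.height_one_of_mem_support hj] at hh
  have h1 := (RootPairing.Base.isPos_iff b).mp hk'
  have h2 := (RootPairing.Base.isPos_iff b).mp ha'
  omega

end
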