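import Mathlib

/-! Dimension of the support of a finite module over a Noetherian semi-local ring via systems of
parameters in the Jacobson radical. -/

universe u
open Module Pointwise

theorem h2_nonempty_quotConsEquiv {A : Type u} [CommRing A] (M : Type u) [AddCommGroup M]
    [Module A M] {n : ℕ} (x0 : A) (x' : Fin n → A) :
    Nonempty ((QuotSMulTop x0 M ⧸
        (Ideal.span (Set.range x') • (⊤ : Submodule A (QuotSMulTop x0 M)))) ≃ₗ[A]
      (M ⧸ (Ideal.span (Set.range (Fin.cons x0 x' : Fin (n + 1) → A)) •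
        (⊤ : Submodule A M)))) := by
  have h1 : (Ideal.span (Set.range x') • (⊤ : Submodule A M)).map
      (Submodule.mkQ (x0 • (⊤ : Submodule A M))) =
      Ideal.span (Set.range x') • (⊤ : Submodule A (QuotSMulTop x0 M)) := by
    rw [Submodule.map_smul'', Submodule.map_top, Submodule.range_mkQ]
  have h2 : x0 • (⊤ : Submodule A M) ⊔ Ideal.span (Set.range x') • (⊤ : Submodule A M) =
      Ideal.span (Set.range (Fin.cons x0 x' : Fin (n + 1) → A)) • (⊤ : Submodule A M) := by
    rw [Fin.range_cons, Ideal.span_insert, Submodule.sup_smul,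
      Submodule.ideal_span_singleton_smul]
  exact ⟨(Submodule.quotEquivOfEq _ _ h1.symm).trans
    ((Submodule.quotientQuotientEquivQuotientSup _ _).trans (Submodule.quotEquivOfEq _ _ h2))⟩

theorem h2_supportDim_le_add {A : Type u} [CommRing A] [IsNoetherianRing A] :
    ∀ (n : ℕ) (M : Type u) [AddCommGroup M] [Module A M] [Module.Finite A M] (x : Fin n → A),
      (∀ i, x i ∈ Ring.jacobson A) →
      supportDim A M ≤
        supportDim A (M ⧸ (Ideal.span (Set.range x) • (⊤ : Submodule A M))) + n := by
  intro n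
  induction n with
  | zero =>
    intro M _ _ _ x _
    have h0 : Ideal.span (Set.range x) • (⊤ : Submodule A M) = ⊥ := by
      have h1 : Set.range x = ∅ := Set.range_eq_empty x
      rw [h1, Ideal.span_empty, Submodule.bot_smul]
    rw [supportDim_eq_of_equiv (Submodule.quotEquivOfEqBot _ h0)]
    simp
  | succ n ih =>
    intro M _ _ _ x hx
    have hx0 : x 0 ∈ (annihilator A M).jacobson :=
      (annihilator A M).ringJacobson_le_jacobson (hx 0)
    have h1 := supportDim_le_supportDim_quotSMulTop_succ_of_mem_jacobson (M := M) hx0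
    have h2 := ih (QuotSMulTop (x 0) M) (Fin.tail x) (fun i => hx _)
    obtain ⟨e⟩ := h2_nonempty_quotConsEquiv M (x 0) (Fin.tail x)
    rw [Fin.cons_self_tail] at e
    rw [supportDim_eq_of_equiv e] at h2
    calc supportDim A M ≤ supportDim A (QuotSMulTop (x 0) M) + 1 := h1
      _ ≤ (supportDim A (M ⧸ (Ideal.span (Set.range x) • (⊤ : Submodule A M))) + n) + 1 :=
        add_le_add_left h2 1
      _ = supportDim A (M ⧸ (Ideal.span (Set.range x) • (⊤ : Submodule A M))) + (n + 1 : ℕ) := by
        rw [add_assoc]; norm_cast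

theorem h2_supportDim_quotSMulTop_le {A : Type u} [CommRing A] {M : Type u} [AddCommGroup M]
    [Module A M] [Module.Finite A M] (x : A)
    (hx : ∀ p ∈ (annihilator A M).minimalPrimes, ¬ p.IsMaximal → x ∉ p) (k : ℕ)
    (hk : supportDim A M ≤ (k + 1 : ℕ)) : supportDim A (QuotSMulTop x M) ≤ k := by
  refine iSup_le_iff.mpr (fun p => ?_)
  have hp := p.head.2
  simp only [support_quotSMulTop, Set.mem_inter_iff, PrimeSpectrum.mem_zeroLocus,
    Set.singleton_subset_iff] at hp
  have le : support A (QuotSMulTop x M) ⊆ support A M := by simp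
  let q : LTSeries (support A M) :=
    p.map (Set.MapsTo.restrict id (support A (QuotSMulTop x M)) (support A M) le)
      (fun _ _ h ↦ h)
  obtain ⟨r, hrm, hr⟩ := Ideal.exists_minimalPrimes_le (mem_support_iff_of_finite.mp q.head.2)
  by_cases hrmax : r.IsMaximal
  · have hlen : p.length = 0 := by
      by_contra hne
      have hlt : p 0 < p (Fin.last p.length) :=
        p.strictMono (by rw [Fin.lt_def]; simp; omega)
      have h1 : r = (p 0).1.asIdeal :=
        hrmax.eq_of_le (p 0).1.2.ne_top hr
      have h2 : (p 0).1.asIdeal < (p (Fin.last p.length)).1.asIdeal := hlt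
      rw [← h1] at h2
      exact h2.ne (hrmax.eq_of_le (p (Fin.last p.length)).1.2.ne_top h2.le)
    rw [hlen]
    exact_mod_cast Nat.zero_le k
  · let r' : support A M := ⟨⟨r, hrm.1.1⟩, mem_support_iff_of_finite.mpr hrm.1.2⟩
    have hr' : r' < q.head := lt_of_le_of_ne hr
      (fun h ↦ hx r hrm hrmax (by
        have h1 : r = q.head.1.asIdeal := congrArg (fun z : support A M => z.1.asIdeal) h
        rw [h1]; exact hp.2))
    have h3 : ((q.cons r' hr').length : WithBot ℕ∞) ≤ supportDim A M :=
      Order.LTSeries.length_le_krullDim _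
    have h4 : (q.cons r' hr').length = p.length + 1 := by simp [q]
    rw [h4] at h3
    have h5 := h3.trans hk
    have h6 : p.length + 1 ≤ k + 1 := by exact_mod_cast h5
    exact_mod_cast (by omega : p.length ≤ k)

theorem h2_isFiniteLength_of_supportDim_le_zero {A : Type u} [CommRing A] [IsNoetherianRing A]
    (M : Type u) [AddCommGroup M] [Module A M] [Module.Finite A M] (h : supportDim A M ≤ 0) :
    IsFiniteLength A M := by
  rw [isFiniteLength_iff_isNoetherian_isArtinian]
  refine ⟨inferInstance, ?_⟩
  rw [supportDim_eq_ringKrullDim_quotient_annihilator] at h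
  haveI : IsArtinianRing (A ⧸ annihilator A M) := by
    rw [isArtinianRing_iff_krullDimLE_zero, Ring.krullDimLE_iff]
    exact_mod_cast h
  letI : Module (A ⧸ annihilator A M) M := Module.quotientAnnihilator
  haveI : IsScalarTower A (A ⧸ annihilator A M) M := inferInstance
  haveI : Module.Finite (A ⧸ annihilator A M) M := Module.Finite.of_restrictScalars_finite A _ M
  haveI : IsArtinian (A ⧸ annihilator A M) M := inferInstance
  exact isArtinian_of_surjective_algebraMap (R := A ⧸ annihilator A M)
    Ideal.Quotient.mk_surjective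

theorem h2_supportDim_le_zero_of_isFiniteLength {A : Type u} [CommRing A] [IsNoetherianRing A]
    (M : Type u) [AddCommGroup M] [Module A M] [Module.Finite A M] (h : IsFiniteLength A M) :
    supportDim A M ≤ 0 := by
  rw [isFiniteLength_iff_isNoetherian_isArtinian] at h
  obtain ⟨_, hart⟩ := h
  obtain ⟨k, m, hm⟩ := Module.Finite.exists_fin (R := A) (M := M)
  let φ : A →ₗ[A] (Fin k → M) := LinearMap.pi (fun i => LinearMap.toSpanSingleton A M (m i))
  have hker : LinearMap.ker φ = annihilator A M := by
    ext a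
    rw [LinearMap.mem_ker, Module.mem_annihilator]
    constructor
    · intro ha x
      have hx : x ∈ Submodule.span A (Set.range m) := by rw [hm]; trivial
      induction hx using Submodule.span_induction with
      | mem y hy =>
        obtain ⟨i, rfl⟩ := hy
        have h0 := congrFun ha i
        simpa [φ] using h0
      | zero => simp
      | add y z _ _ hy hz => rw [smul_add, hy, hz, add_zero]
      | smul c y _ hy => rw [smul_comm, hy, smul_zero]
    · intro ha
      funext i
      simp [φ, ha (m i)]
  haveI : IsArtinian A (Fin k → M) := inferInstance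
  haveI : IsArtinian A (LinearMap.range φ) := inferInstance
  haveI : IsArtinian A (A ⧸ LinearMap.ker φ) :=
    isArtinian_of_linearEquiv (LinearMap.quotKerEquivRange φ).symm
  have hA : IsArtinian A (A ⧸ annihilator A M) := hker ▸ this
  haveI : IsArtinianRing (A ⧸ annihilator A M) := isArtinian_of_tower A hA
  have h1 : Ring.KrullDimLE 0 (A ⧸ annihilator A M) := inferInstance
  rw [Ring.krullDimLE_iff] at h1
  rw [supportDim_eq_ringKrullDim_quotient_annihilator]
  exact_mod_cast h1

theorem h2_exists_mem_jacobson_notMem {A : Type u} [CommRing A] [IsNoetherianRing A]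
    [Finite (MaximalSpectrum A)] (I : Ideal A) :
    ∃ x ∈ Ring.jacobson A, ∀ p ∈ I.minimalPrimes, ¬ p.IsMaximal → x ∉ p := by
  classical
  by_contra hcon
  push_neg at hcon
  have hfin : (I.minimalPrimes).Finite := Ideal.finite_minimalPrimes_of_isNoetherianRing A I
  let P : Finset (Ideal A) := hfin.toFinset.filter (fun p => ¬ p.IsMaximal)
  have hP : ∀ p, p ∈ P ↔ p ∈ I.minimalPrimes ∧ ¬ p.IsMaximal := fun p => by
    simp [P]
  have hsub : (Ring.jacobson A : Set A) ⊆ ⋃ p ∈ (P : Set (Ideal A)), (p : Set A) := by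
    intro x hx
    obtain ⟨p, hp, hpm, hxp⟩ := hcon x hx
    exact Set.mem_biUnion (show p ∈ (P : Set (Ideal A)) from (hP p).mpr ⟨hp, hpm⟩) hxp
  obtain ⟨p, hpP, hle⟩ := (Ideal.subset_union_prime (f := fun p : Ideal A => p) ⊥ ⊥
    (fun p hp _ _ => ((hP p).mp hp).1.1.1)).mp hsub
  obtain ⟨hpmin, hpmax⟩ := (hP p).mp hpP
  haveI : Fintype (MaximalSpectrum A) := Fintype.ofFinite _
  have h1 : Finset.univ.inf (fun m : MaximalSpectrum A => m.asIdeal) ≤ p := by
    refine le_trans ?_ hle
    rw [Finset.inf_univ_eq_iInf, Ring.jacobson_eq_sInf_isMaximal]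
    exact le_sInf fun J hJ => iInf_le_of_le ⟨J, hJ⟩ le_rfl
  obtain ⟨m, -, hm⟩ := (Ideal.IsPrime.inf_le' hpmin.1.1).mp h1
  exact hpmax (m.isMaximal.eq_of_le hpmin.1.1.ne_top hm ▸ m.isMaximal)

theorem h2_exists_params {A : Type u} [CommRing A] [IsNoetherianRing A]
    [Finite (MaximalSpectrum A)] :
    ∀ (d : ℕ) (M : Type u) [AddCommGroup M] [Module A M] [Module.Finite A M],
      supportDim A M ≤ d → ∃ (n : ℕ) (x : Fin n → A), n ≤ d ∧ (∀ i, x i ∈ Ring.jacobson A) ∧
        IsFiniteLength A (M ⧸ (Ideal.span (Set.range x) • (⊤ : Submodule A M))) := by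
  intro d
  induction d with
  | zero =>
    intro M _ _ _ h
    refine ⟨0, Fin.elim0, le_rfl, fun i => i.elim0, ?_⟩
    have h0 : Ideal.span (Set.range (Fin.elim0 : Fin 0 → A)) • (⊤ : Submodule A M) = ⊥ := by
      have h1 : Set.range (Fin.elim0 : Fin 0 → A) = ∅ := Set.range_eq_empty _
      rw [h1, Ideal.span_empty, Submodule.bot_smul]
    have hfl := h2_isFiniteLength_of_supportDim_le_zero M (by exact_mod_cast h)
    exact hfl.of_surjective (f := (Submodule.quotEquivOfEqBot _ h0).symm.toLinearMap)
      (Submodule.quotEquivOfEqBot _ h0).symm.surjective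
  | succ d ih =>
    intro M _ _ _ h
    obtain ⟨x0, hx0, hx0p⟩ := h2_exists_mem_jacobson_notMem (annihilator A M)
    have h1 := h2_supportDim_quotSMulTop_le (M := M) x0 hx0p d h
    obtain ⟨n, x', hn, hx', hfl⟩ := ih (QuotSMulTop x0 M) h1
    obtain ⟨e⟩ := h2_nonempty_quotConsEquiv M x0 x'
    refine ⟨n + 1, Fin.cons x0 x', Nat.succ_le_succ hn, ?_,
      hfl.of_surjective (f := e.toLinearMap) e.surjective⟩
    intro i
    refine Fin.cases ?_ (fun j => ?_) i
    · simpa using hx0
    · simpa using hx' j
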