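import Mathlib
import Groth.Prelude.Def_PP16

/-! Principal parts of a symmetric algebra (helper2). -/

set_option autoImplicit false

universe u

namespace Groth.Agent.Lib.helper2

open PP16

open scoped TensorProduct

section

variable (n : ℕ) (A : Type u) [CommRing A] (E : Type u) [AddCommGroup E] [Module A E]

local notation "S" => SymmetricAlgebra A E
local notation "ι" => SymmetricAlgebra.ι A E

/-- the augmentation -/
noncomputable def h2eps : S →ₐ[A] A := SymmetricAlgebra.lift (0 : E →ₗ[A] A)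

theorem h2eps_ι (t : E) : h2eps A E (ι t) = 0 := by
  rw [h2eps, SymmetricAlgebra.lift_ι_apply]
  rfl

theorem h2eps_surjective : Function.Surjective (h2eps A E) := by
  intro a
  exact ⟨algebraMap A S a, by simp⟩

noncomputable def h2phir : S →ₐ[A] S ⊗[A] S := SymmetricAlgebra.lift
  ((Algebra.TensorProduct.includeLeft : S →ₐ[A] S ⊗[A] S).toLinearMap ∘ₗ ι +
    (Algebra.TensorProduct.includeRight : S →ₐ[A] S ⊗[A] S).toLinearMap ∘ₗ ι)

noncomputable def h2psir : S →ₐ[A] S ⊗[A] S := SymmetricAlgebra.lift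
  ((Algebra.TensorProduct.includeRight : S →ₐ[A] S ⊗[A] S).toLinearMap ∘ₗ ι -
    (Algebra.TensorProduct.includeLeft : S →ₐ[A] S ⊗[A] S).toLinearMap ∘ₗ ι)

theorem h2phir_ι (t : E) : h2phir A E (ι t) = (ι t) ⊗ₜ[A] (1 : S) + (1 : S) ⊗ₜ[A] (ι t) := by
  rw [h2phir, SymmetricAlgebra.lift_ι_apply]
  rfl

theorem h2psir_ι (t : E) : h2psir A E (ι t) = (1 : S) ⊗ₜ[A] (ι t) - (ι t) ⊗ₜ[A] (1 : S) := by
  rw [h2psir, SymmetricAlgebra.lift_ι_apply]
  rfl

noncomputable def h2Phi : S ⊗[A] S →ₐ[S] S ⊗[A] S :=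
  Algebra.TensorProduct.lift (Algebra.ofId S (S ⊗[A] S)) (h2phir A E) (fun _ _ => Commute.all _ _)

noncomputable def h2Psi : S ⊗[A] S →ₐ[S] S ⊗[A] S :=
  Algebra.TensorProduct.lift (Algebra.ofId S (S ⊗[A] S)) (h2psir A E) (fun _ _ => Commute.all _ _)

theorem h2Phi_right (b : S) : h2Phi A E ((1 : S) ⊗ₜ[A] b) = h2phir A E b := by
  simp only [h2Phi, Algebra.TensorProduct.lift_tmul]
  rw [map_one, one_mul]

theorem h2Phi_left (a : S) : h2Phi A E (a ⊗ₜ[A] (1 : S)) = a ⊗ₜ[A] (1 : S) := by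
  simp only [h2Phi, Algebra.TensorProduct.lift_tmul, map_one, mul_one]
  rfl

theorem h2Psi_right (b : S) : h2Psi A E ((1 : S) ⊗ₜ[A] b) = h2psir A E b := by
  simp only [h2Psi, Algebra.TensorProduct.lift_tmul]
  rw [map_one, one_mul]

theorem h2Psi_left (a : S) : h2Psi A E (a ⊗ₜ[A] (1 : S)) = a ⊗ₜ[A] (1 : S) := by
  simp only [h2Psi, Algebra.TensorProduct.lift_tmul, map_one, mul_one]
  rfl

theorem h2Phi_comp_Psi : (h2Phi A E).comp (h2Psi A E) = AlgHom.id S _ := by
  apply Algebra.TensorProduct.ext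
  · ext
  · apply SymmetricAlgebra.algHom_ext
    apply LinearMap.ext
    intro t
    change h2Phi A E (h2Psi A E ((1 : S) ⊗ₜ[A] (ι t))) = (1 : S) ⊗ₜ[A] (ι t)
    rw [h2Psi_right, h2psir_ι, map_sub, h2Phi_right, h2Phi_left, h2phir_ι]
    abel

theorem h2Psi_comp_Phi : (h2Psi A E).comp (h2Phi A E) = AlgHom.id S _ := by
  apply Algebra.TensorProduct.ext
  · ext
  · apply SymmetricAlgebra.algHom_ext
    apply LinearMap.ext
    intro t
    change h2Psi A E (h2Phi A E ((1 : S) ⊗ₜ[A] (ι t))) = (1 : S) ⊗ₜ[A] (ι t)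
    rw [h2Phi_right, h2phir_ι, map_add, h2Psi_right, h2Psi_left, h2psir_ι]
    abel

noncomputable def h2SymEq : (S ⊗[A] S) ≃ₐ[S] (S ⊗[A] S) :=
  AlgEquiv.ofAlgHom (h2Phi A E) (h2Psi A E) (h2Phi_comp_Psi A E) (h2Psi_comp_Phi A E)

theorem h2SymEq_apply (x : S ⊗[A] S) : h2SymEq A E x = h2Phi A E x := rfl

theorem h2Phi_Psi (x : S ⊗[A] S) : h2Phi A E (h2Psi A E x) = x :=
  congrArg (fun F : S ⊗[A] S →ₐ[S] S ⊗[A] S => F x) (h2Phi_comp_Psi A E)

theorem h2_ker_eps_map :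
    RingHom.ker (Algebra.TensorProduct.map (AlgHom.id A S) (h2eps A E)) =
      (RingHom.ker (h2eps A E)).map (Algebra.TensorProduct.includeRight : S →ₐ[A] S ⊗[A] S) :=
  Algebra.TensorProduct.lTensor_ker (h2eps A E) (h2eps_surjective A E)

theorem h2_ideal_map_SymEq :
    (KaehlerDifferential.ideal A S).map (h2SymEq A E : S ⊗[A] S →+* S ⊗[A] S) =
      (RingHom.ker (h2eps A E)).map (Algebra.TensorProduct.includeRight : S →ₐ[A] S ⊗[A] S) := by
  apply le_antisymm
  · rw [← KaehlerDifferential.span_range_eq_ideal, Ideal.map_span, Ideal.span_le]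
    rintro _ ⟨_, ⟨s, rfl⟩, rfl⟩
    rw [SetLike.mem_coe, ← h2_ker_eps_map, RingHom.mem_ker]
    change Algebra.TensorProduct.map (AlgHom.id A S) (h2eps A E) (h2Phi A E _) = 0
    rw [map_sub, h2Phi_right, h2Phi_left, map_sub, sub_eq_zero]
    have hc : (Algebra.TensorProduct.map (AlgHom.id A S) (h2eps A E)).comp (h2phir A E) =
        (Algebra.TensorProduct.includeLeft : S →ₐ[A] S ⊗[A] A) := by
      apply SymmetricAlgebra.algHom_ext
      apply LinearMap.ext
      intro t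
      change Algebra.TensorProduct.map (AlgHom.id A S) (h2eps A E) (h2phir A E (ι t)) =
        (ι t) ⊗ₜ[A] (1 : A)
      rw [h2phir_ι, map_add, Algebra.TensorProduct.map_tmul, Algebra.TensorProduct.map_tmul,
        h2eps_ι, map_one, TensorProduct.tmul_zero, add_zero]
      rfl
    have := congrArg (fun F : S →ₐ[A] S ⊗[A] A => F s) hc
    simp only [AlgHom.comp_apply] at this
    rw [this, Algebra.TensorProduct.map_tmul, map_one]
    rfl
  · rw [Ideal.map_le_iff_le_comap]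
    intro κ hκ
    rw [Ideal.mem_comap]
    have hmem : h2Psi A E ((1 : S) ⊗ₜ[A] κ) ∈ KaehlerDifferential.ideal A S := by
      rw [h2Psi_right, KaehlerDifferential.ideal, RingHom.mem_ker]
      have hc : (Algebra.TensorProduct.lmul' A : S ⊗[A] S →ₐ[A] S).comp (h2psir A E) =
          (Algebra.ofId A S).comp (h2eps A E) := by
        apply SymmetricAlgebra.algHom_ext
        apply LinearMap.ext
        intro t
        change Algebra.TensorProduct.lmul' A (h2psir A E (ι t)) =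
          Algebra.ofId A S (h2eps A E (ι t))
        rw [h2psir_ι, h2eps_ι, map_sub, map_zero]
        simp
      have := congrArg (fun F : S →ₐ[A] S => F κ) hc
      simp only [AlgHom.comp_apply] at this
      change Algebra.TensorProduct.lmul' A (h2psir A E κ) = 0
      rw [this]
      have : h2eps A E κ = 0 := hκ
      rw [this, map_zero]
    have := Ideal.mem_map_of_mem (h2SymEq A E : S ⊗[A] S →+* S ⊗[A] S) hmem
    change h2Phi A E (h2Psi A E ((1 : S) ⊗ₜ[A] κ)) ∈ _ at this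
    rwa [h2Phi_Psi] at this


local notation "K" => RingHom.ker (SymmetricAlgebra.lift (0 : E →ₗ[A] A))

/-- the quotient map `S ⊗ S → S ⊗ (S / K^(n+1))` -/
noncomputable def h2q : S ⊗[A] S →ₐ[S] S ⊗[A] (S ⧸ K ^ (n + 1)) :=
  Algebra.TensorProduct.map (AlgHom.id S S) (Ideal.Quotient.mkₐ A (K ^ (n + 1)))

theorem h2q_tmul (a b : S) :
    h2q n A E (a ⊗ₜ[A] b) = a ⊗ₜ[A] (Ideal.Quotient.mk (K ^ (n + 1)) b) := by
  simp [h2q]

theorem h2q_surjective : Function.Surjective (h2q n A E) :=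
  Algebra.TensorProduct.map_surjective (AlgHom.id S S)
    (Ideal.Quotient.mkₐ A (K ^ (n + 1))) Function.surjective_id
    (Ideal.Quotient.mkₐ_surjective A _)

theorem h2_ker_q : RingHom.ker (h2q n A E) =
    (K ^ (n + 1)).map (Algebra.TensorProduct.includeRight : S →ₐ[A] S ⊗[A] S) := by
  have h := Algebra.TensorProduct.lTensor_ker (A := S) (Ideal.Quotient.mkₐ A (K ^ (n + 1)))
    (Ideal.Quotient.mkₐ_surjective A _)
  have hk : RingHom.ker (Ideal.Quotient.mkₐ A (K ^ (n + 1))) = K ^ (n + 1) := by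
    ext x
    exact Ideal.Quotient.eq_zero_iff_mem
  rw [hk] at h
  rw [← h]
  rfl

theorem h2_ker_q_eq : RingHom.ker (h2q n A E) =
    ((KaehlerDifferential.ideal A S) ^ (n + 1)).map (h2SymEq A E : S ⊗[A] S →+* S ⊗[A] S) := by
  rw [Ideal.map_pow, h2_ideal_map_SymEq, ← Ideal.map_pow]
  exact h2_ker_q n A E

theorem h2_exists_symEquiv :
    ∃ e : PP16.P n A S ≃ₐ[S] (S ⊗[A] (S ⧸ K ^ (n + 1))),
      ∀ t : E, e (PP16.dn n A S (ι t)) =
        (ι t) ⊗ₜ 1 + 1 ⊗ₜ Ideal.Quotient.mk _ (ι t) := by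
  let e₁ := Ideal.quotientEquivAlg ((KaehlerDifferential.ideal A S) ^ (n + 1))
    (RingHom.ker (h2q n A E)) (h2SymEq A E) (h2_ker_q_eq n A E)
  let e₂ := Ideal.quotientKerAlgEquivOfSurjective (h2q_surjective n A E)
  refine ⟨e₁.trans e₂, ?_⟩
  intro t
  change e₂ (e₁ (Ideal.Quotient.mk _ ((1 : S) ⊗ₜ[A] (ι t)))) = _
  rw [Ideal.quotientEquivAlg_mk, h2SymEq_apply, h2Phi_right, h2phir_ι]
  rw [Ideal.quotientKerAlgEquivOfSurjective_mk, map_add, h2q_tmul, h2q_tmul, map_one]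

end

end Groth.Agent.Lib.helper2
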