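import Mathlib

set_option autoImplicit false
universe u

namespace Groth.Agent.Lib.helper2

open TopologicalSpace

/-- In a space where every point has a Noetherian open neighbourhood, every subset of a compact
set is compact. -/
theorem h2_isCompact_of_subset_of_locallyNoetherian {X : Type u} [TopologicalSpace X]
    (hX : ∀ x : X, ∃ U : Set X, IsOpen U ∧ x ∈ U ∧ NoetherianSpace U) {K t : Set X}
    (hK : IsCompact K) (ht : t ⊆ K) : IsCompact t := by
  choose U hUo hxU hUN using hX
  obtain ⟨s, hs⟩ := hK.elim_finite_subcover (fun x => U x) hUo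
    (fun x _ => Set.mem_iUnion.2 ⟨x, hxU x⟩)
  have : t = ⋃ x ∈ s, (t ∩ U x) := by
    ext y
    simp only [Set.mem_iUnion, Set.mem_inter_iff, exists_and_left, exists_prop]
    constructor
    · intro hy
      obtain ⟨x, hx, hyx⟩ := Set.mem_iUnion₂.1 (hs (ht hy))
      exact ⟨hy, x, hx, hyx⟩
    · rintro ⟨hy, -⟩
      exact hy
  rw [this]
  refine s.isCompact_biUnion (fun x _ => ?_)
  exact (noetherianSpace_set_iff (U x)).1 (hUN x) _ Set.inter_subset_right

end Groth.Agent.Lib.helper2
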