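import Groth.Prelude.Def_SGA4c
import Mathlib.CategoryTheory.MorphismProperty.Limits
import Mathlib.CategoryTheory.Sites.Subsheaf
import Mathlib.CategoryTheory.Sites.LocallySurjective
import Mathlib.CategoryTheory.Limits.Types.Pullbacks
import Mathlib.CategoryTheory.Limits.Shapes.Pullback.Pasting
import Mathlib.Data.Finset.Union
import Mathlib.Data.Fintype.EquivFin

/-!
# helper2: jointly epimorphic families in a sheaf topos, quasi-compactness (SGA4 VI)
-/

universe u w w' w''

open CategoryTheory CategoryTheory.Limits Opposite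

namespace H2Topos

open ToposFin

section General

variable {D : Type*} [Category D]

/-- jointly epimorphic family -/
def JE {X : D} {ι : Type w} {F : ι → D} (π : ∀ i, F i ⟶ X) : Prop :=
  ∀ ⦃T : D⦄ (a b : X ⟶ T), (∀ i, π i ≫ a = π i ≫ b) → a = b

lemma je_iff_epi {X : D} {ι : Type w} {F : ι → D} [HasCoproduct F] (π : ∀ i, F i ⟶ X) :
    Epi (Sigma.desc π) ↔ JE π := by
  constructor
  · intro h T a b hab
    rw [← cancel_epi (Sigma.desc π)]
    apply Sigma.hom_ext
    intro i
    simpa using hab i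
  · intro h
    constructor
    intro T a b hab
    apply h
    intro i
    have := congrArg (fun m => Sigma.ι F i ≫ m) hab
    simpa using this

lemma je_refine {X : D} {ι : Type w} {F : ι → D} (π : ∀ i, F i ⟶ X) (hπ : JE π)
    {κ : Type w'} {G : κ → D} (ρ : ∀ k, G k ⟶ X)
    (h : ∀ i, ∃ (l : Type w'') (H : l → D) (σ : ∀ j, H j ⟶ F i), JE σ ∧
      ∀ j, ∃ (k : κ) (τ : H j ⟶ G k), τ ≫ ρ k = σ j ≫ π i) : JE ρ := by
  intro T a b hab
  apply hπ
  intro i
  obtain ⟨l, H, σ, hσ, hfac⟩ := h i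
  apply hσ
  intro j
  obtain ⟨k, τ, hτ⟩ := hfac j
  rw [← Category.assoc, ← Category.assoc, ← hτ, Category.assoc, Category.assoc, hab k]

lemma je_of_factor {X : D} {ι : Type w} {F : ι → D} (π : ∀ i, F i ⟶ X) (hπ : JE π)
    {κ : Type w'} {G : κ → D} (ρ : ∀ k, G k ⟶ X)
    (h : ∀ i, ∃ (k : κ) (τ : F i ⟶ G k), τ ≫ ρ k = π i) : JE ρ := by
  intro T a b hab
  apply hπ
  intro i
  obtain ⟨k, τ, hτ⟩ := h i
  rw [← hτ, Category.assoc, Category.assoc, hab k]

lemma je_of_epi {X Y : D} (f : X ⟶ Y) [Epi f] : JE (fun _ : Unit => f) := by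
  intro T a b hab
  exact (cancel_epi f).1 (hab ())

lemma epi_of_je_unit {X Y : D} (f : X ⟶ Y) (h : JE (fun _ : Unit => f)) : Epi f :=
  ⟨fun a b hab => h a b (fun _ => hab)⟩

end General

section Sheaf

variable {C : Type u} [SmallCategory C] {J : GrothendieckTopology C}

/-- the union of the images of a family of morphisms of sheaves -/
def imgSub {X : Sh J} {ι : Type w} {F : ι → Sh J} (π : ∀ i, F i ⟶ X) : Subfunctor X.obj where
  obj U := {s | ∃ i, ∃ t : (F i).obj.obj U, (π i).hom.app U t = s}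
  map := by
    rintro U V f s ⟨i, t, rfl⟩
    exact ⟨i, (F i).obj.map f t, NatTrans.naturality_apply (π i).hom f t⟩

/-- jointly locally surjective family -/
def JLS {X : Sh J} {ι : Type w} {F : ι → Sh J} (π : ∀ i, F i ⟶ X) : Prop :=
  ∀ (U : Cᵒᵖ) (s : X.obj.obj U), (imgSub π).sieveOfSection s ∈ J U.unop

lemma je_of_jls {X : Sh J} {ι : Type w} {F : ι → Sh J} (π : ∀ i, F i ⟶ X) (h : JLS π) :
    JE π := by
  intro T a b hab
  ext U s
  apply (((isSheaf_iff_isSheaf_of_type _ _).1 T.2).isSeparated _ (h U s)).ext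
  rintro V f ⟨i, t, ht⟩
  have h₁ := NatTrans.naturality_apply a.hom f.op s
  have h₂ := NatTrans.naturality_apply b.hom f.op s
  refine h₁.symm.trans (Eq.trans ?_ h₂)
  rw [← ht]
  exact ConcreteCategory.congr_hom (congr_app ((sheafToPresheaf J _).congr_map (hab i)) (op V)) t

lemma jls_of_je {X : Sh J} {ι : Type w} {F : ι → Sh J} (π : ∀ i, F i ⟶ X) (h : JE π) :
    JLS π := by
  have hX : Presieve.IsSheaf J X.obj := (isSheaf_iff_isSheaf_of_type _ _).1 X.2
  let G := imgSub π
  let XI : Sh J := ⟨(G.sheafify J).toFunctor,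
    (isSheaf_iff_isSheaf_of_type _ _).2 (G.sheafify_isSheaf hX)⟩
  let ι' : XI ⟶ X := ObjectProperty.homMk (G.sheafify J).ι
  let π' : ∀ i, F i ⟶ XI := fun i => ObjectProperty.homMk (Subfunctor.lift (π i).hom (by
     rintro U _ ⟨t, rfl⟩
     exact G.le_sheafify J U ⟨i, t, rfl⟩))
  have hfac : ∀ i, π' i ≫ ι' = π i := fun i => by
    apply ObjectProperty.hom_ext
    rfl
  have hepi : Epi ι' := by
    constructor
    intro T a b hab
    apply h
    intro i
    rw [← hfac i, Category.assoc, Category.assoc, hab]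
  have hls := (Sheaf.isLocallySurjective_iff_epi ι').2 hepi
  intro U s
  have h1 := Presheaf.imageSieve_mem J ι'.hom s
  have h2 : (G.sheafify J).sieveOfSection s ∈ J U.unop := by
    refine J.superset_covering ?_ h1
    rintro V f ⟨t, ht⟩
    change X.obj.map f.op s ∈ (G.sheafify J).obj (op V)
    rw [← ht]
    exact t.2
  have h3 : s ∈ ((G.sheafify J).sheafify J).obj U := h2
  rw [Subfunctor.sheafify_sheafify _ hX] at h3
  exact h3

lemma jls_iff_je {X : Sh J} {ι : Type w} {F : ι → Sh J} (π : ∀ i, F i ⟶ X) :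
    JLS π ↔ JE π := ⟨je_of_jls π, jls_of_je π⟩

/-- the sections functor -/
noncomputable abbrev secF (J : GrothendieckTopology C) (V : Cᵒᵖ) : Sh J ⥤ Type u :=
  sheafToPresheaf J (Type u) ⋙ (evaluation _ _).obj V

lemma jls_of_isPullback {X Y' : Sh J} (g : Y' ⟶ X) {ι : Type w} {F P : ι → Sh J}
    (π : ∀ i, F i ⟶ X) (q : ∀ i, P i ⟶ F i) (p : ∀ i, P i ⟶ Y')
    (hpb : ∀ i, IsPullback (q i) (p i) (π i) g) (h : JLS π) : JLS p := by
  intro U s
  refine J.superset_covering ?_ (h U (g.hom.app U s))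
  rintro V f ⟨i, t, ht⟩
  have hsq := (hpb i).map (secF J (op V))
  have hx : ((secF J (op V)).map (π i)) t = ((secF J (op V)).map g) (Y'.obj.map f.op s) := by
    change (π i).hom.app (op V) t = g.hom.app (op V) (Y'.obj.map f.op s)
    rw [ht]
    exact (NatTrans.naturality_apply g.hom f.op s).symm
  obtain ⟨w, -, hw⟩ := Types.exists_of_isPullback hsq t (Y'.obj.map f.op s) hx
  exact ⟨i, w, hw⟩

lemma je_of_isPullback {X Y' : Sh J} (g : Y' ⟶ X) {ι : Type w} {F P : ι → Sh J}
    (π : ∀ i, F i ⟶ X) (q : ∀ i, P i ⟶ F i) (p : ∀ i, P i ⟶ Y')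
    (hpb : ∀ i, IsPullback (q i) (p i) (π i) g) (h : JE π) : JE p :=
  je_of_jls p (jls_of_isPullback g π q p hpb (jls_of_je π h))

end Sheaf

section Pb

variable {D : Type*} [Category D] [HasPullbacks D]

/-- base change of `c` along the first projection of `pullback a β` -/
lemma isPullback_lift_left {A Y' Y B : D} (c : A ⟶ Y') (a : Y' ⟶ Y) (β : B ⟶ Y) :
    IsPullback (pullback.fst (c ≫ a) β)
      (pullback.lift (pullback.fst (c ≫ a) β ≫ c) (pullback.snd (c ≫ a) β)
        (by simp [pullback.condition]) : pullback (c ≫ a) β ⟶ pullback a β)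
      c (pullback.fst a β) := by
  have outer : IsPullback ((pullback.lift (pullback.fst (c ≫ a) β ≫ c) (pullback.snd (c ≫ a) β)
        (by simp [pullback.condition]) : pullback (c ≫ a) β ⟶ pullback a β) ≫ pullback.snd a β)
      (pullback.fst (c ≫ a) β) β (c ≫ a) := by
    rw [pullback.lift_snd]
    exact (IsPullback.of_hasPullback (c ≫ a) β).flip
  exact (IsPullback.of_right outer (pullback.lift_fst _ _ _)
    (IsPullback.of_hasPullback a β).flip).flip

/-- base change of `c` along the second projection of `pullback a β` -/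
lemma isPullback_lift_right {A Y' Y B : D} (a : Y' ⟶ Y) (c : A ⟶ B) (β : B ⟶ Y) :
    IsPullback (pullback.snd a (c ≫ β))
      (pullback.lift (pullback.fst a (c ≫ β)) (pullback.snd a (c ≫ β) ≫ c)
        (by simp [pullback.condition]) : pullback a (c ≫ β) ⟶ pullback a β)
      c (pullback.snd a β) := by
  have outer : IsPullback ((pullback.lift (pullback.fst a (c ≫ β)) (pullback.snd a (c ≫ β) ≫ c)
        (by simp [pullback.condition]) : pullback a (c ≫ β) ⟶ pullback a β) ≫ pullback.fst a β)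
      (pullback.snd a (c ≫ β)) a (c ≫ β) := by
    rw [pullback.lift_fst]
    exact IsPullback.of_hasPullback a (c ≫ β)
  exact (IsPullback.of_right outer (pullback.lift_snd _ _ _)
    (IsPullback.of_hasPullback a β)).flip

/-- sections of a pullback square form a pullback square -/
lemma isPullback_of_section {A B A' B' : D} {m : A' ⟶ A} {r' : A' ⟶ B'} {r : A ⟶ B} {p : B' ⟶ B}
    (h : IsPullback m r' r p) (s' : B' ⟶ A') (s : B ⟶ A) (hs' : s' ≫ r' = 𝟙 _) (hs : s ≫ r = 𝟙 _)
    (comm : s' ≫ m = p ≫ s) : IsPullback s' p m s := by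
  have outer : IsPullback (s' ≫ r') p p (s ≫ r) := by
    rw [hs', hs]
    exact IsPullback.of_horiz_isIso ⟨by simp⟩
  exact IsPullback.of_right outer comm h.flip

/-- pullback of a composite along a pullback square -/
noncomputable def isoPullbackComp {P X Y' Z A : D} {t : P ⟶ X} {l : P ⟶ Y'} {r : X ⟶ Z}
    {b : Y' ⟶ Z} (h : IsPullback t l r b) (α : A ⟶ Y') : pullback l α ≅ pullback r (α ≫ b) :=
  ((IsPullback.of_hasPullback l α).paste_horiz h).isoPullback

set_option backward.isDefEq.respectTransparency false in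
/-- pullbacks over a mono -/
noncomputable def isoPullbackMono {X Y Y' Z' : D} (a : Y' ⟶ X) (b : Z' ⟶ X) (i : X ⟶ Y) [Mono i] :
    pullback a b ≅ pullback (a ≫ i) (b ≫ i) where
  hom := pullback.mapDesc a b i
  inv := pullback.lift (pullback.fst _ _) (pullback.snd _ _) (by
    rw [← cancel_mono i]
    simp [pullback.condition])
  hom_inv_id := by ext <;> simp
  inv_hom_id := by ext <;> simp

set_option backward.isDefEq.respectTransparency false in
lemma graph_comm {X Y Z : D} (f : X ⟶ Y) (g : Y ⟶ Z) :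
    (pullback.lift (𝟙 X) f (by simp) : X ⟶ pullback (f ≫ g) g) ≫
      (pullback.lift (pullback.fst (f ≫ g) g ≫ f) (pullback.snd (f ≫ g) g)
        (by simp [pullback.condition]) : pullback (f ≫ g) g ⟶ pullback g g) =
      f ≫ pullback.diagonal g := by
  ext
  · simp
    try exact Category.id_comp _
  · simp
    try exact Category.id_comp _

set_option backward.isDefEq.respectTransparency false in
lemma graph_eq {X Y Z : D} (f : X ⟶ Y) (g : Y ⟶ Z) :
    (pullback.lift (𝟙 X) f (by simp) : X ⟶ pullback (f ≫ g) g) =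
      pullback.diagonal (f ≫ g) ≫
        (pullback.lift (pullback.fst (f ≫ g) (f ≫ g)) (pullback.snd (f ≫ g) (f ≫ g) ≫ f)
          (by simp [pullback.condition]) : pullback (f ≫ g) (f ≫ g) ⟶ pullback (f ≫ g) g) := by
  ext <;> simp

set_option backward.isDefEq.respectTransparency false in
lemma diag_map_comm {X Y Y' : D} (f : X ⟶ Y) (g : Y' ⟶ Y) :
    pullback.diagonal (pullback.snd f g) ≫
      pullback.map (pullback.snd f g) (pullback.snd f g) f f (pullback.fst f g)
        (pullback.fst f g) g pullback.condition.symm pullback.condition.symm =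
      pullback.fst f g ≫ pullback.diagonal f := by
  ext <;> simp

lemma mono_prod_lift_pullback {X Y Z : D} (a : X ⟶ Z) (b : Y ⟶ Z) [HasBinaryProduct X Y] :
    Mono (prod.lift (pullback.fst a b) (pullback.snd a b)) := ⟨fun u v huv => by
  apply pullback.hom_ext
  · have h1 := congrArg (fun m => m ≫ prod.fst) huv
    simp only [Category.assoc] at h1
    rw [prod.lift_fst] at h1
    exact h1
  · have h1 := congrArg (fun m => m ≫ prod.snd) huv
    simp only [Category.assoc] at h1
    rw [prod.lift_snd] at h1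
    exact h1⟩

end Pb

section QC

variable {C : Type u} [SmallCategory C] {J : GrothendieckTopology C}

lemma je_iff_epi' {X : Sh J} {ι : Type u} {F : ι → Sh J} (π : ∀ i, F i ⟶ X) :
    Epi (Limits.Sigma.desc π) ↔ JE π := je_iff_epi (D := Sh J) π

lemma isQC_iff (X : Sh J) : IsQC X ↔ ∀ (ι : Type u) (F : ι → Sh J) (π : ∀ i, F i ⟶ X), JE π →
    ∃ s : Finset ι, JE (fun i : s => π i) := by
  constructor
  · intro h ι F π hπ
    obtain ⟨s, hs⟩ := h ι F π ((je_iff_epi' π).2 hπ)
    exact ⟨s, (je_iff_epi' (fun i : s => π i)).1 hs⟩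
  · intro h ι F π hπ
    obtain ⟨s, hs⟩ := h ι F π ((je_iff_epi' π).1 hπ)
    exact ⟨s, (je_iff_epi' (fun i : s => π i)).2 hs⟩

/-- a finite jointly epimorphic family of quasi-compact objects has quasi-compact target -/
lemma isQC_of_finite_je {X : Sh J} {κ : Type w} [Finite κ] (F : κ → Sh J) (π : ∀ k, F k ⟶ X)
    (hπ : JE π) (hF : ∀ k, IsQC (F k)) : IsQC X := by
  classical
  haveI := Fintype.ofFinite κ
  rw [isQC_iff]
  intro ι G ρ hρ
  have key : ∀ k, ∃ s : Finset ι, JE (fun i : s => pullback.snd (ρ i) (π k)) := by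
    intro k
    have hje : JE (fun i => pullback.snd (ρ i) (π k)) :=
      je_of_isPullback (π k) ρ (fun i => pullback.fst (ρ i) (π k)) _
        (fun i => IsPullback.of_hasPullback _ _) hρ
    exact (isQC_iff _).1 (hF k) ι _ _ hje
  choose s hs using key
  refine ⟨Finset.univ.biUnion s, ?_⟩
  intro T a b hab
  apply hπ
  intro k
  apply hs k
  intro i
  have hi : (i : ι) ∈ Finset.univ.biUnion s := Finset.mem_biUnion.2 ⟨k, Finset.mem_univ _, i.2⟩
  have h1 : ρ i ≫ a = ρ i ≫ b := hab ⟨i, hi⟩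
  change pullback.snd (ρ i) (π k) ≫ π k ≫ a = pullback.snd (ρ i) (π k) ≫ π k ≫ b
  rw [← Category.assoc, ← Category.assoc, ← pullback.condition, Category.assoc, Category.assoc, h1]

lemma isQC_of_epi {X Y : Sh J} (f : X ⟶ Y) [Epi f] (h : IsQC X) : IsQC Y :=
  isQC_of_finite_je (fun _ : Unit => X) (fun _ => f) (je_of_epi f) (fun _ => h)

lemma isQC_of_iso {X Y : Sh J} (e : X ≅ Y) (h : IsQC X) : IsQC Y := isQC_of_epi e.hom h

/-- quasi-compactness of a fibre product can be checked on a finite cover of the left factor -/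
lemma isQC_pullback_of_cover_left {Y' Y B : Sh J} (a : Y' ⟶ Y) (β : B ⟶ Y) {κ : Type w} [Finite κ]
    (A : κ → Sh J) (c : ∀ k, A k ⟶ Y') (hc : JE c) (h : ∀ k, IsQC (pullback (c k ≫ a) β)) :
    IsQC (pullback a β) :=
  isQC_of_finite_je (fun k => pullback (c k ≫ a) β) _
    (je_of_isPullback (pullback.fst a β) c _ _ (fun k => isPullback_lift_left (c k) a β) hc) h

lemma isQC_pullback_of_cover_right {Y' Y B : Sh J} (a : Y' ⟶ Y) (β : B ⟶ Y) {κ : Type w} [Finite κ]
    (A : κ → Sh J) (c : ∀ k, A k ⟶ B) (hc : JE c) (h : ∀ k, IsQC (pullback a (c k ≫ β))) :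
    IsQC (pullback a β) :=
  isQC_of_finite_je (fun k => pullback a (c k ≫ β)) _
    (je_of_isPullback (pullback.snd a β) c _ _ (fun k => isPullback_lift_right a (c k) β) hc) h

/-- the underlying property of the universal property `qcMP` -/
def P0 (J : GrothendieckTopology C) : MorphismProperty (Sh J) := fun X Y _ => IsQC Y → IsQC X

/-- quasi-compact morphisms as a morphism property -/
def qcMP (J : GrothendieckTopology C) : MorphismProperty (Sh J) := (P0 J).universally

lemma isQCHom_iff {X Y : Sh J} (f : X ⟶ Y) : IsQCHom f ↔ qcMP J f := by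
  constructor
  · intro h X' Y' i₁ i₂ f' hpb hY'
    exact isQC_of_iso hpb.flip.isoPullback.symm (h Y' i₂ hY')
  · intro h Y' g hY'
    exact h (pullback.fst f g) g (pullback.snd f g) (IsPullback.of_hasPullback f g).flip hY'

lemma isQSHom_iff {X Y : Sh J} (f : X ⟶ Y) : IsQSHom f ↔ (qcMP J).diagonal f :=
  isQCHom_iff _

instance : (qcMP J).RespectsIso := by unfold qcMP; infer_instance

instance : (qcMP J).IsStableUnderBaseChange := by unfold qcMP; infer_instance

instance : (P0 J).IsStableUnderComposition := ⟨fun _ _ hf hg h => hf (hg h)⟩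

instance : (qcMP J).IsStableUnderComposition := by unfold qcMP; infer_instance

instance : (qcMP J).ContainsIdentities := ⟨fun X X' Y' i₁ i₂ f' hpb hY' => by
  haveI : IsIso f' := hpb.isIso_fst_of_isIso
  exact isQC_of_iso (asIso f').symm hY'⟩

instance : (qcMP J).IsMultiplicative where

instance : (qcMP J).HasOfPostcompProperty (qcMP J).diagonal :=
  MorphismProperty.hasOfPostcompProperty_iff_le_diagonal.2 le_rfl

lemma isQC_of_qcMP {X Y : Sh J} (f : X ⟶ Y) (hf : qcMP J f) (hY : IsQC Y) : IsQC X :=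
  hf (𝟙 X) (𝟙 Y) f (IsPullback.id_vert f) hY

lemma isQCHom_of_isQC_of_isQS {X Y : Sh J} (f : X ⟶ Y) (hX : IsQC X) (hY : IsQS Y) :
    IsQCHom f := fun Y' g hY' => hY X Y' f g hX hY'

/-- a morphism of a quasi-compact morphism's base change: `IsQC` of `pullback r (α ≫ b)` -/
lemma isQC_pullback_comp_of_isPullback {P X Y' Z A : Sh J} {t : P ⟶ X} {l : P ⟶ Y'} {r : X ⟶ Z}
    {b : Y' ⟶ Z} (h : IsPullback t l r b) (α : A ⟶ Y') (hq : IsQC (pullback l α)) :
    IsQC (pullback r (α ≫ b)) :=
  isQC_of_iso (isoPullbackComp h α) hq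

/-- a subobject of a quasi-separated object is quasi-separated -/
lemma isQS_of_mono {X Y : Sh J} (i : X ⟶ Y) [Mono i] (hY : IsQS Y) : IsQS X :=
  fun Y' Z' a b hY' hZ' => isQC_of_iso (isoPullbackMono a b i).symm (hY Y' Z' _ _ hY' hZ')

/-- generation by objects satisfying `Q` -/
def GenBy (J : GrothendieckTopology C) (Q : Sh J → Prop) : Prop :=
  ∀ X : Sh J, ∃ (ι : Type u) (F : ι → Sh J) (π : ∀ i, F i ⟶ X), (∀ i, Q (F i)) ∧ JE π

lemma genBy_of_hasQCGenerators (hE : HasQCGenerators J) : GenBy J IsQC := fun X => by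
  obtain ⟨ι, F, π, hF, hπ⟩ := hE X
  exact ⟨ι, F, π, hF, (je_iff_epi' π).1 hπ⟩

lemma genBy_of_family {α : Type u} (G : α → Sh J)
    (hgen : ∀ X : Sh J, ∃ (ι : Type u) (a : ι → α) (π : ∀ i, G (a i) ⟶ X), Epi (Sigma.desc π))
    (Q : Sh J → Prop) (hQ : ∀ a, Q (G a)) : GenBy J Q := fun X => by
  obtain ⟨ι, a, π, hπ⟩ := hgen X
  exact ⟨ι, fun i => G (a i), π, fun i => hQ (a i), (je_iff_epi' π).1 hπ⟩

lemma exists_finite_refinement {Q : Sh J → Prop} (hE : GenBy J Q) {Y' : Sh J} (hY' : IsQC Y')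
    {ι : Type u} (F : ι → Sh J) (π : ∀ i, F i ⟶ Y') (hπ : JE π) :
    ∃ (κ : Type u) (_ : Finite κ) (A : κ → Sh J) (c : ∀ k, A k ⟶ Y'), (∀ k, Q (A k)) ∧ JE c ∧
      ∀ k, ∃ (i : ι) (τ : A k ⟶ F i), τ ≫ π i = c k := by
  choose ιG G ρ hG hρ using fun i => hE (F i)
  let σ : ∀ x : (Σ i, ιG i), G x.1 x.2 ⟶ Y' := fun x => ρ x.1 x.2 ≫ π x.1
  have hσ : JE σ := je_refine π hπ σ (fun i => ⟨ιG i, G i, ρ i, hρ i,
    fun j => ⟨⟨i, j⟩, 𝟙 _, by simp [σ]⟩⟩)
  obtain ⟨s, hs⟩ := (isQC_iff _).1 hY' _ _ σ hσ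
  exact ⟨s, inferInstance, fun x => G x.1.1 x.1.2, fun x => σ x, fun x => hG _ _, hs,
    fun x => ⟨x.1.1, ρ _ _, rfl⟩⟩

lemma exists_finite_cover {Q : Sh J → Prop} (hE : GenBy J Q) {Y' : Sh J} (hY' : IsQC Y') :
    ∃ (κ : Type u) (_ : Finite κ) (A : κ → Sh J) (c : ∀ k, A k ⟶ Y'), (∀ k, Q (A k)) ∧ JE c := by
  obtain ⟨κ, hκ, A, c, hA, hc, -⟩ := exists_finite_refinement hE hY' (fun _ : PUnit.{u+1} => Y')
    (fun _ => 𝟙 Y') (fun T a b hab => by simpa using hab PUnit.unit)
  exact ⟨κ, hκ, A, c, hA, hc⟩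

lemma isQSHom_of_comp {X Y Z : Sh J} (f : X ⟶ Y) (g : Y ⟶ Z) (h : IsQSHom (f ≫ g)) :
    IsQSHom f := by
  rw [isQSHom_iff] at h ⊢
  rw [MorphismProperty.diagonal_iff, pullback.diagonal_comp] at h
  rw [MorphismProperty.diagonal_iff]
  exact MorphismProperty.of_postcomp (W := qcMP J) (W' := MorphismProperty.monomorphisms _) _ _
    (MorphismProperty.monomorphisms.infer_property _) h

lemma isQCHom_of_comp {X Y Z : Sh J} (f : X ⟶ Y) (g : Y ⟶ Z) (hg : IsQSHom g)
    (h : IsQCHom (f ≫ g)) : IsQCHom f :=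
  (isQCHom_iff f).2 (MorphismProperty.of_postcomp (W := qcMP J) (W' := (qcMP J).diagonal) f g
    ((isQSHom_iff g).1 hg) ((isQCHom_iff _).1 h))

/-- quasi-compactness of a morphism is local on the target (given enough quasi-compact objects) -/
lemma isQCHom_of_local {Q : Sh J → Prop} (hE : GenBy J Q) {X Y : Sh J} (f : X ⟶ Y)
    {ι : Type u} (Yi : ι → Sh J) (g : ∀ i, Yi i ⟶ Y) (hg : JE g)
    (h : ∀ i (A : Sh J) (α : A ⟶ Yi i), Q A → IsQC (pullback f (α ≫ g i))) : IsQCHom f := by
  intro Y' y hY'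
  have hje : JE (fun i => pullback.snd (g i) y) :=
    je_of_isPullback y g (fun i => pullback.fst (g i) y) _
      (fun i => IsPullback.of_hasPullback _ _) hg
  obtain ⟨κ, hκ, A, c, hA, hc, hfac⟩ := exists_finite_refinement hE hY' _ _ hje
  haveI := hκ
  refine isQC_pullback_of_cover_right f y A c hc (fun k => ?_)
  obtain ⟨i, τ, hτ⟩ := hfac k
  have e : c k ≫ y = (τ ≫ pullback.fst (g i) y) ≫ g i := by
    rw [← hτ, Category.assoc, Category.assoc, pullback.condition]
  exact isQC_of_iso (pullback.congrHom rfl e.symm) (h i (A k) _ (hA k))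

/-- quasi-separatedness of a morphism is local on the target -/
lemma isQSHom_of_local (hE : GenBy J IsQC) {X Y : Sh J} (f : X ⟶ Y) {ι : Type u}
    (Yi : ι → Sh J) (g : ∀ i, Yi i ⟶ Y) (hg : JE g)
    (h : ∀ i, IsQSHom (pullback.snd f (g i))) : IsQSHom f := by
  let m : ∀ i, pullback (pullback.snd f (g i)) (pullback.snd f (g i)) ⟶ pullback f f := fun i =>
    pullback.map (pullback.snd f (g i)) (pullback.snd f (g i)) f f (pullback.fst f (g i))
      (pullback.fst f (g i)) (g i) pullback.condition.symm pullback.condition.symm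
  have R : ∀ i, IsPullback (m i) (pullback.fst (pullback.snd f (g i)) (pullback.snd f (g i)))
      (pullback.fst f f) (pullback.fst f (g i)) := by
    intro i
    have O1 : IsPullback (pullback.snd (pullback.snd f (g i)) (pullback.snd f (g i)) ≫
        pullback.fst f (g i)) (pullback.fst (pullback.snd f (g i)) (pullback.snd f (g i))) f
        (pullback.snd f (g i) ≫ g i) :=
      (IsPullback.of_hasPullback (pullback.snd f (g i)) (pullback.snd f (g i))).flip.paste_horiz
        (IsPullback.of_hasPullback f (g i))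
    have O2 : IsPullback (m i ≫ pullback.snd f f)
        (pullback.fst (pullback.snd f (g i)) (pullback.snd f (g i))) f
        (pullback.fst f (g i) ≫ f) := by
      have e1 : m i ≫ pullback.snd f f = pullback.snd (pullback.snd f (g i))
        (pullback.snd f (g i)) ≫ pullback.fst f (g i) := pullback.lift_snd _ _ _
      have e2 : pullback.fst f (g i) ≫ f = pullback.snd f (g i) ≫ g i := pullback.condition
      rw [e1, e2]
      exact O1
    exact IsPullback.of_right O2 (pullback.lift_fst _ _ _) (IsPullback.of_hasPullback f f).flip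
  have hp : JE (fun i => pullback.fst f (g i)) :=
    je_of_isPullback f g (fun i => pullback.snd f (g i)) _
      (fun i => (IsPullback.of_hasPullback f (g i)).flip) hg
  have hm : JE m := je_of_isPullback (pullback.fst f f) _ _ m (fun i => (R i).flip) hp
  refine isQCHom_of_local hE (pullback.diagonal f) _ m hm (fun i A α hA => ?_)
  have S : IsPullback (pullback.diagonal (pullback.snd f (g i))) (pullback.fst f (g i)) (m i)
      (pullback.diagonal f) :=
    isPullback_of_section (R i) _ _ (pullback.diagonal_fst _) (pullback.diagonal_fst _)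
      (diag_map_comm f (g i))
  exact isQC_pullback_comp_of_isPullback S.flip α (h i A α hA)

/-- an object covered by quasi-separated objects via quasi-compact morphisms is quasi-separated -/
lemma isQS_of_cover {Y : Sh J} {ι : Type u} (Yi : ι → Sh J) (g : ∀ i, Yi i ⟶ Y) (hg : JE g)
    (hqs : ∀ i, IsQS (Yi i)) (hqc : ∀ i, IsQCHom (g i)) : IsQS Y := by
  have claim1 : ∀ i (A : Sh J) (α : A ⟶ Yi i) (B : Sh J) (β : B ⟶ Y), IsQC A → IsQC B →
      IsQC (pullback (α ≫ g i) β) := by
    intro i A α B β hA hB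
    have h1 : IsQC (pullback (g i) β) := hqc i B β hB
    have h2 : IsQC (pullback α (pullback.fst (g i) β)) := hqs i _ _ _ _ hA h1
    exact isQC_of_iso (pullbackRightPullbackFstIso (g i) β α) h2
  intro Y' B a β hY' hB
  have hje : JE (fun i => pullback.snd (g i) a) :=
    je_of_isPullback a g (fun i => pullback.fst (g i) a) _
      (fun i => IsPullback.of_hasPullback _ _) hg
  obtain ⟨s, hs⟩ := (isQC_iff Y').1 hY' _ _ _ hje
  refine isQC_pullback_of_cover_left a β (fun i : s => pullback (g i) a)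
    (fun i => pullback.snd (g i) a) hs (fun i => ?_)
  have e : pullback.snd (g i) a ≫ a = pullback.fst (g i) a ≫ g i := pullback.condition.symm
  exact isQC_of_iso (pullback.congrHom e.symm rfl) (claim1 i _ _ B β (hqc i Y' a hY') hB)

set_option backward.isDefEq.respectTransparency false in
lemma je_pullback_map {X X' Y : Sh J} (f : X ⟶ Y) (f' : X' ⟶ Y) {ι κ : Type w} {A : ι → Sh J}
    {B : κ → Sh J} (a : ∀ i, A i ⟶ X) (b : ∀ j, B j ⟶ X') (ha : JE a) (hb : JE b) :
    JE (fun x : ι × κ => pullback.map (a x.1 ≫ f) (b x.2 ≫ f') f f' (a x.1) (b x.2) (𝟙 Y)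
      (Category.comp_id _) (Category.comp_id _)) := by
  have h1 : JE (fun i => (pullback.lift (pullback.fst (a i ≫ f) f' ≫ a i)
      (pullback.snd (a i ≫ f) f') (by simp [pullback.condition]) :
      pullback (a i ≫ f) f' ⟶ pullback f f')) :=
    je_of_isPullback (pullback.fst f f') a _ _ (fun i => isPullback_lift_left (a i) f f') ha
  refine je_refine _ h1 _ (fun i => ⟨κ, fun j => pullback (a i ≫ f) (b j ≫ f'),
    fun j => pullback.lift (pullback.fst _ _) (pullback.snd _ _ ≫ b j)
      (by simp [pullback.condition]),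
    je_of_isPullback (pullback.snd (a i ≫ f) f') b _ _
      (fun j => isPullback_lift_right (a i ≫ f) (b j) f') hb, fun j => ⟨(i, j), 𝟙 _, ?_⟩⟩)
  apply pullback.hom_ext <;> simp

/-- S3070 -/
lemma isQSHom_of_qs_cover (hE : GenBy J IsQC) {X Y : Sh J} (f : X ⟶ Y) {ι : Type u}
    (Xi : ι → Sh J) (g : ∀ i, Xi i ⟶ X) (hg : JE g) (hqc : ∀ i, IsQC (Xi i))
    (hqs : ∀ i j, IsQS (pullback (g i ≫ f) (g j ≫ f))) (hX : IsQS X) : IsQSHom f := by
  have hM := je_pullback_map f f g g hg hg
  refine isQCHom_of_local hE (pullback.diagonal f) _ _ hM (fun x A α hA => ?_)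
  have hpb := pullback_map_diagonal_isPullback (g x.1) (g x.2) f
  refine isQC_pullback_comp_of_isPullback hpb α ?_
  exact isQCHom_of_isQC_of_isQS _ (hX _ _ _ _ (hqc x.1) (hqc x.2)) (hqs x.1 x.2) A α hA

set_option backward.isDefEq.respectTransparency false in
/-- S3076 (1) -/
lemma isQSHom_of_comp_cover (hE : GenBy J IsQC) {Y Z : Sh J} (g : Y ⟶ Z) {ι : Type u}
    (X : ι → Sh J) (f : ∀ i, X i ⟶ Y) (hf : JE f) (hqc : ∀ i, IsQCHom (f i))
    (hqs : ∀ i, IsQSHom (f i ≫ g)) : IsQSHom g := by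
  let m : ∀ i, pullback (f i ≫ g) g ⟶ pullback g g := fun i =>
    pullback.lift (pullback.fst _ _ ≫ f i) (pullback.snd _ _) (by simp [pullback.condition])
  have hm : JE m :=
    je_of_isPullback (pullback.fst g g) f _ _ (fun i => isPullback_lift_left (f i) g g) hf
  refine isQCHom_of_local hE (pullback.diagonal g) _ m hm (fun i A α hA => ?_)
  let Γ : X i ⟶ pullback (f i ≫ g) g := pullback.lift (𝟙 _) (f i) (by simp)
  have S : IsPullback Γ (f i) (m i) (pullback.diagonal g) :=
    isPullback_of_section (isPullback_lift_left (f i) g g).flip Γ (pullback.diagonal g)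
      (pullback.lift_fst _ _ _) (pullback.diagonal_fst _)
      (graph_comm (f i) g)
  refine isQC_pullback_comp_of_isPullback S.flip α ?_
  let n : pullback (f i ≫ g) (f i ≫ g) ⟶ pullback (f i ≫ g) g :=
    pullback.lift (pullback.fst _ _) (pullback.snd _ _ ≫ f i) (by simp [pullback.condition])
  have hn : qcMP J n :=
    MorphismProperty.of_isPullback (isPullback_lift_right (f i ≫ g) (f i) g)
      ((isQCHom_iff _).1 (hqc i))
  have hΓ : Γ = pullback.diagonal (f i ≫ g) ≫ n := graph_eq (f i) g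
  have h3 : qcMP J Γ := by
    rw [hΓ]
    exact (qcMP J).comp_mem _ _ ((isQSHom_iff _).1 (hqs i)) hn
  exact (isQCHom_iff Γ).2 h3 A α hA

end QC

end H2Topos
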