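import Groth.Agent.Lib.helper2.Topos
import Mathlib.CategoryTheory.Sites.LocallyBijective
import Mathlib.CategoryTheory.Limits.Yoneda

/-!
# helper2: the sheaves `eps J X` associated to representables
-/

universe u w

open CategoryTheory CategoryTheory.Limits Opposite

namespace H2Topos

open ToposFin

variable {C : Type u} [SmallCategory C] {J : GrothendieckTopology C}

/-- the section of `eps J X` over `W` defined by `h : W ⟶ X` -/
noncomputable def etaSec (J : GrothendieckTopology C) {W X : C} (h : W ⟶ X) :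
    (eps J X).obj.obj (op W) :=
  (toSheafify J (yoneda.obj X)).app (op W) h

lemma map_etaSec {W' W X : C} (w : W' ⟶ W) (h : W ⟶ X) :
    (eps J X).obj.map w.op (etaSec J h) = etaSec J (w ≫ h) := by
  have := NatTrans.naturality_apply (toSheafify J (yoneda.obj X)) w.op h
  exact this.symm

/-- the morphism `eps J V ⟶ eps J X` induced by `f : V ⟶ X` -/
noncomputable def epsMap (J : GrothendieckTopology C) {V X : C} (f : V ⟶ X) : eps J V ⟶ eps J X :=
  (presheafToSheaf J (Type u)).map (yoneda.map f)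

lemma epsMap_etaSec {W V X : C} (h : W ⟶ V) (f : V ⟶ X) :
    (epsMap J f).hom.app (op W) (etaSec J h) = etaSec J (h ≫ f) := by
  have h1 := toSheafify_naturality J (yoneda.map f)
  have h2 := congrArg (fun m => m.app (op W) h) h1
  exact h2.symm

lemma eps_hom_ext {X : C} {T : Sh J} (a b : eps J X ⟶ T)
    (h : a.hom.app (op X) (etaSec J (𝟙 X)) = b.hom.app (op X) (etaSec J (𝟙 X))) : a = b := by
  apply ObjectProperty.hom_ext
  apply sheafify_hom_ext J _ _ T.property
  apply yonedaEquiv.injective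
  exact h

lemma isQC_eps_of_isQCSite (X : C) (hX : IsQCSite J X) : IsQC (eps J X) := by
  classical
  rw [isQC_iff]
  intro ι F π hπ
  have hS := jls_of_je π hπ (op X) (etaSec J (𝟙 X))
  obtain ⟨n, V, g, hg, hcov⟩ := hX _ hS
  choose i t ht using hg
  refine ⟨Finset.univ.image i, ?_⟩
  intro T a b hab
  apply eps_hom_ext
  apply (((isSheaf_iff_isSheaf_of_type _ _).1 T.2).isSeparated _ hcov).ext
  intro W f hf
  obtain ⟨k, c, rfl⟩ := (Sieve.mem_ofArrows_iff V g f).1 hf
  have key : T.obj.map (g k).op (a.hom.app (op X) (etaSec J (𝟙 X))) =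
      T.obj.map (g k).op (b.hom.app (op X) (etaSec J (𝟙 X))) := by
    have h₁ := NatTrans.naturality_apply a.hom (g k).op (etaSec J (𝟙 X))
    have h₂ := NatTrans.naturality_apply b.hom (g k).op (etaSec J (𝟙 X))
    refine h₁.symm.trans (Eq.trans ?_ h₂)
    rw [← ht k]
    have hik : i k ∈ Finset.univ.image i := Finset.mem_image.2 ⟨k, Finset.mem_univ _, rfl⟩
    exact ConcreteCategory.congr_hom
      (congr_app ((sheafToPresheaf J _).congr_map (hab ⟨i k, hik⟩)) (op (V k))) (t k)
  have e : ∀ z, T.obj.map (c ≫ g k).op z = T.obj.map c.op (T.obj.map (g k).op z) := fun z => by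
    rw [op_comp, T.obj.map_comp]
    rfl
  rw [e, e, key]

lemma isQCSite_of_isQC_eps (X : C) (hX : IsQC (eps J X)) : IsQCSite J X := by
  classical
  intro S hS
  let ι := Σ V : C, {f : V ⟶ X // S f}
  let F : ι → Sh J := fun x => eps J x.1
  let π : ∀ x : ι, F x ⟶ eps J X := fun x => epsMap J x.2.1
  have hπ : JE π := by
    intro T a b hab
    apply eps_hom_ext
    apply (((isSheaf_iff_isSheaf_of_type _ _).1 T.2).isSeparated _ hS).ext
    intro V f hf
    have h₁ := NatTrans.naturality_apply a.hom f.op (etaSec J (𝟙 X))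
    have h₂ := NatTrans.naturality_apply b.hom f.op (etaSec J (𝟙 X))
    refine h₁.symm.trans (Eq.trans ?_ h₂)
    have e : (eps J X).obj.map f.op (etaSec J (𝟙 X)) =
        (epsMap J f).hom.app (op V) (etaSec J (𝟙 V)) := by
      rw [map_etaSec, epsMap_etaSec, Category.comp_id, Category.id_comp]
    rw [e]
    exact ConcreteCategory.congr_hom
      (congr_app ((sheafToPresheaf J _).congr_map (hab ⟨V, f, hf⟩)) (op V)) (etaSec J (𝟙 V))
  obtain ⟨s, hs⟩ := (isQC_iff _).1 hX ι F π hπ
  let e := s.equivFin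
  refine ⟨s.card, fun k => (e.symm k).1.1, fun k => (e.symm k).1.2.1,
    fun k => (e.symm k).1.2.2, ?_⟩
  set R := Sieve.ofArrows (fun k => (e.symm k).1.1) (fun k => (e.symm k).1.2.1) with hR
  have hRmem : ∀ x : s, R x.1.2.1 := by
    intro x
    obtain ⟨k, rfl⟩ := e.symm.surjective x
    exact Sieve.ofArrows_mk (fun k => (e.symm k).1.1) (fun k => (e.symm k).1.2.1) k
  have hS' := jls_of_je _ hs (op X) (etaSec J (𝟙 X))
  refine J.transitive hS' R ?_
  rintro W h ⟨x, t, ht⟩
  have hS'' := Presheaf.imageSieve_mem J (toSheafify J (yoneda.obj x.1.1)) t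
  refine J.transitive hS'' _ ?_
  rintro W' w ⟨v, hv⟩
  have e1 : (eps J X).obj.map h.op (etaSec J (𝟙 X)) = etaSec J h := by
    rw [map_etaSec, Category.comp_id]
  have hv' : etaSec J v = (F x).obj.map w.op t := hv
  have heq : etaSec J (w ≫ h) = etaSec J (v ≫ x.1.2.1) := by
    calc etaSec J (w ≫ h) = (eps J X).obj.map w.op (etaSec J h) := (map_etaSec w h).symm
    _ = (eps J X).obj.map w.op ((π x).hom.app (op W) t) := by
        rw [ht, e1]
    _ = (π x).hom.app (op W') ((F x).obj.map w.op t) :=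
        (NatTrans.naturality_apply (π x).hom w.op t).symm
    _ = (π x).hom.app (op W') (etaSec J v) := by rw [hv']
    _ = etaSec J (v ≫ x.1.2.1) := epsMap_etaSec v _
  have inj : Presheaf.IsLocallyInjective J (toSheafify J (yoneda.obj X)) := inferInstance
  have hS3 := inj.equalizerSieve_mem (X := op W') (w ≫ h) (v ≫ x.1.2.1) heq
  refine J.superset_covering ?_ hS3
  intro W'' w' hw'
  change R ((w' ≫ w) ≫ h)
  have h4 : (w' ≫ w) ≫ h = (w' ≫ v) ≫ x.1.2.1 := by simpa using hw'
  rw [h4]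
  exact R.downward_closed (hRmem x) _

/-- the functor `X ↦ eps J X` -/
noncomputable def epsF (J : GrothendieckTopology C) : C ⥤ Sh J :=
  yoneda ⋙ presheafToSheaf J (Type u)

instance : PreservesFiniteLimits (epsF J) := by
  unfold epsF
  exact comp_preservesFiniteLimits _ _

/-- the morphism `eps J V ⟶ T` defined by a section of `T` over `V` -/
noncomputable def ofSec {V : C} {T : Sh J} (t : T.obj.obj (op V)) : eps J V ⟶ T :=
  ObjectProperty.homMk (sheafifyLift J (yonedaEquiv.symm t) T.property)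

lemma ofSec_etaSec {V : C} {T : Sh J} (t : T.obj.obj (op V)) :
    (ofSec t).hom.app (op V) (etaSec J (𝟙 V)) = t := by
  have h1 := toSheafify_sheafifyLift J (yonedaEquiv.symm t) T.property
  have h2 := congrArg (fun m => m.app (op V) (𝟙 V)) h1
  refine h2.trans ?_
  exact yonedaEquiv.apply_symm_apply t

lemma genBy_eps : GenBy J (fun A => ∃ V : C, A = eps J V) := fun T => by
  refine ⟨Σ V : C, T.obj.obj (op V), fun x => eps J x.1, fun x => ofSec x.2,
    fun x => ⟨x.1, rfl⟩, ?_⟩
  intro T' a b hab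
  ext U t
  have h3 : a.hom.app U ((ofSec t).hom.app U (etaSec J (𝟙 U.unop))) =
      b.hom.app U ((ofSec t).hom.app U (etaSec J (𝟙 U.unop))) :=
    ConcreteCategory.congr_hom
      (congr_app ((sheafToPresheaf J _).congr_map (hab ⟨U.unop, t⟩)) U) (etaSec J (𝟙 U.unop))
  rw [ofSec_etaSec] at h3
  exact h3

lemma je_epsMap_of_cover {X : C} {κ : Type w} (V : κ → C) (g : ∀ k, V k ⟶ X)
    (h : Sieve.ofArrows V g ∈ J X) : JE (fun k => epsMap J (g k)) := by
  intro T a b hab
  apply eps_hom_ext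
  apply (((isSheaf_iff_isSheaf_of_type _ _).1 T.2).isSeparated _ h).ext
  intro W f hf
  obtain ⟨k, c, rfl⟩ := (Sieve.mem_ofArrows_iff V g f).1 hf
  have key : T.obj.map (g k).op (a.hom.app (op X) (etaSec J (𝟙 X))) =
      T.obj.map (g k).op (b.hom.app (op X) (etaSec J (𝟙 X))) := by
    have h₁ := NatTrans.naturality_apply a.hom (g k).op (etaSec J (𝟙 X))
    have h₂ := NatTrans.naturality_apply b.hom (g k).op (etaSec J (𝟙 X))
    refine h₁.symm.trans (Eq.trans ?_ h₂)
    have e : (eps J X).obj.map (g k).op (etaSec J (𝟙 X)) =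
        (epsMap J (g k)).hom.app (op (V k)) (etaSec J (𝟙 (V k))) := by
      rw [map_etaSec, epsMap_etaSec, Category.comp_id, Category.id_comp]
    rw [e]
    exact ConcreteCategory.congr_hom
      (congr_app ((sheafToPresheaf J _).congr_map (hab k)) (op (V k))) (etaSec J (𝟙 (V k)))
  have e : ∀ z, T.obj.map (c ≫ g k).op z = T.obj.map c.op (T.obj.map (g k).op z) := fun z => by
    rw [op_comp, T.obj.map_comp]
    rfl
  rw [e, e, key]

lemma exists_local_rep {V X : C} (hV : IsQCSite J V) (σ : (eps J X).obj.obj (op V)) :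
    ∃ (n : ℕ) (V' : Fin n → C) (v : ∀ k, V' k ⟶ V) (f : ∀ k, V' k ⟶ X),
      Sieve.ofArrows V' v ∈ J V ∧ ∀ k, (eps J X).obj.map (v k).op σ = etaSec J (f k) := by
  have hS := Presheaf.imageSieve_mem J (toSheafify J (yoneda.obj X)) σ
  obtain ⟨n, V', v, hv, hcov⟩ := hV _ hS
  choose f hf using hv
  exact ⟨n, V', v, f, hcov, fun k => (hf k).symm⟩

lemma comp_eq_epsMap {V' V X : C} (v : V' ⟶ V) (f : V' ⟶ X) (s : eps J V ⟶ eps J X)
    (h : (eps J X).obj.map v.op (s.hom.app (op V) (etaSec J (𝟙 V))) = etaSec J f) :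
    epsMap J v ≫ s = epsMap J f := by
  apply eps_hom_ext
  change s.hom.app (op V') ((epsMap J v).hom.app (op V') (etaSec J (𝟙 V'))) =
    (epsMap J f).hom.app (op V') (etaSec J (𝟙 V'))
  rw [epsMap_etaSec, epsMap_etaSec, Category.id_comp, Category.id_comp, ← h]
  have h2 := NatTrans.naturality_apply s.hom v.op (etaSec J (𝟙 V))
  rw [map_etaSec, Category.comp_id] at h2
  exact h2

lemma isCoherent_eps [HasPullbacks C] (hC : ∀ X : C, IsQCSite J X) (X : C) :
    IsCoherent (eps J X) := by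
  refine ⟨isQC_eps_of_isQCSite X (hC X), ?_⟩
  have hE := genBy_eps (J := J)
  have key : ∀ (V W : C) (s : eps J V ⟶ eps J X) (r : eps J W ⟶ eps J X),
      IsQC (pullback s r) := by
    intro V W s r
    obtain ⟨n, V', v, f, hcov, hf⟩ :=
      exists_local_rep (hC V) (s.hom.app (op V) (etaSec J (𝟙 V)))
    obtain ⟨m, W', w, g, hcov', hg⟩ :=
      exists_local_rep (hC W) (r.hom.app (op W) (etaSec J (𝟙 W)))
    refine isQC_pullback_of_cover_left s r (fun k => eps J (V' k)) (fun k => epsMap J (v k))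
      (je_epsMap_of_cover V' v hcov) (fun k => ?_)
    refine isQC_of_iso (pullback.congrHom (comp_eq_epsMap (v k) (f k) s (hf k)).symm rfl) ?_
    refine isQC_pullback_of_cover_right (epsMap J (f k)) r (fun l => eps J (W' l))
      (fun l => epsMap J (w l)) (je_epsMap_of_cover W' w hcov') (fun l => ?_)
    refine isQC_of_iso (pullback.congrHom rfl (comp_eq_epsMap (w l) (g l) r (hg l)).symm) ?_
    have hpb := (IsPullback.of_hasPullback (f k) (g l)).map (epsF J)
    exact isQC_of_iso hpb.isoPullback (isQC_eps_of_isQCSite _ (hC _))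
  have key' : ∀ (A B : Sh J) (_ : ∃ V : C, A = eps J V) (_ : ∃ W : C, B = eps J W)
      (s : A ⟶ eps J X) (r : B ⟶ eps J X), IsQC (pullback s r) := by
    intro A B hA hB s r
    obtain ⟨V, rfl⟩ := hA
    obtain ⟨W, rfl⟩ := hB
    exact key V W s r
  intro Y' Z' a b hY' hZ'
  obtain ⟨κ, hκ, A, c, hA, hc⟩ := exists_finite_cover hE hY'
  obtain ⟨κ', hκ', B, d, hB, hd⟩ := exists_finite_cover hE hZ'
  haveI := hκ
  haveI := hκ'
  exact isQC_pullback_of_cover_left a b A c hc (fun k =>
    isQC_pullback_of_cover_right (c k ≫ a) b B d hd (fun l => key' _ _ (hA k) (hB l) _ _))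

lemma isIso_of_bijective_on_cover (G : Set C)
    (hG : ∀ X : C, ∃ (ι : Type u) (Y : ι → C) (f : ∀ i, Y i ⟶ X),
      Sieve.ofArrows Y f ∈ J X ∧ ∀ i, Y i ∈ G)
    {A B : Sh J} (φ : A ⟶ B) (hφ : ∀ X ∈ G, Function.Bijective (φ.hom.app (op X))) :
    IsIso φ := by
  have hA : Presieve.IsSheaf J A.obj := (isSheaf_iff_isSheaf_of_type _ _).1 A.2
  have hB : Presieve.IsSheaf J B.obj := (isSheaf_iff_isSheaf_of_type _ _).1 B.2
  have e : ∀ (T : Sh J) {W V X : C} (c : W ⟶ V) (f : V ⟶ X) (z : T.obj.obj (op X)),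
      T.obj.map (c ≫ f).op z = T.obj.map c.op (T.obj.map f.op z) := fun T W V X c f z => by
    rw [op_comp, T.obj.map_comp]
    rfl
  have nat : ∀ {W X : C} (h : W ⟶ X) (s : A.obj.obj (op X)),
      φ.hom.app (op W) (A.obj.map h.op s) = B.obj.map h.op (φ.hom.app (op X) s) :=
    fun h s => NatTrans.naturality_apply φ.hom h.op s
  have inj : ∀ X : C, Function.Injective (φ.hom.app (op X)) := by
    intro X s t hst
    obtain ⟨ι, Y, f, hcov, hY⟩ := hG X
    apply (hA.isSeparated _ hcov).ext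
    intro W h hh
    obtain ⟨i, c, rfl⟩ := (Sieve.mem_ofArrows_iff Y f h).1 hh
    have h1 : A.obj.map (f i).op s = A.obj.map (f i).op t := by
      apply (hφ _ (hY i)).1
      rw [nat, nat, hst]
    rw [e A, e A, h1]
  have surj : ∀ X : C, Function.Surjective (φ.hom.app (op X)) := by
    intro X b
    obtain ⟨ι, Y, f, hcov, hY⟩ := hG X
    have ex : ∀ ⦃W : C⦄ (h : W ⟶ X), (Sieve.ofArrows Y f) h →
        ∃ a : A.obj.obj (op W), φ.hom.app (op W) a = B.obj.map h.op b := by
      intro W h hh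
      obtain ⟨i, c, rfl⟩ := (Sieve.mem_ofArrows_iff Y f h).1 hh
      obtain ⟨ai, hai⟩ := (hφ _ (hY i)).2 (B.obj.map (f i).op b)
      exact ⟨A.obj.map c.op ai, by rw [nat, hai, e B]⟩
    let x : Presieve.FamilyOfElements A.obj (Sieve.ofArrows Y f).arrows :=
      fun W h hh => Classical.choose (ex h hh)
    have hxs : ∀ ⦃W : C⦄ (h : W ⟶ X) (hh : (Sieve.ofArrows Y f) h),
        φ.hom.app (op W) (x h hh) = B.obj.map h.op b :=
      fun W h hh => Classical.choose_spec (ex h hh)
    have hx : x.Compatible := by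
      intro Y₁ Y₂ Z g₁ g₂ f₁ f₂ h₁ h₂ hcomm
      apply inj Z
      rw [nat, nat, hxs _ h₁, hxs _ h₂, ← e B, ← e B, hcomm]
    obtain ⟨a, ha, -⟩ := hA _ hcov x hx
    refine ⟨a, ?_⟩
    apply (hB.isSeparated _ hcov).ext
    intro W h hh
    rw [← nat, ha h hh, hxs h hh]
  have hiso : ∀ U : Cᵒᵖ, IsIso (φ.hom.app U) := fun U =>
    (isIso_iff_bijective _).2 ⟨inj U.unop, surj U.unop⟩
  haveI : IsIso φ.hom := NatIso.isIso_of_isIso_app φ.hom
  haveI : IsIso ((sheafToPresheaf J (Type u)).map φ) := ‹IsIso φ.hom›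
  exact isIso_of_reflects_iso φ (sheafToPresheaf J (Type u))

end H2Topos
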