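import Groth.Agent.Lib.helper2.Topos2
import Mathlib.CategoryTheory.Generator.Basic

universe u

open CategoryTheory CategoryTheory.Limits Opposite

namespace H2Topos

open ToposFin

variable {C : Type u} [SmallCategory C] {J : GrothendieckTopology C}

lemma isDetecting_eps (G : Set C)
    (hG : ∀ X : C, ∃ (ι : Type u) (Y : ι → C) (f : ∀ i, Y i ⟶ X),
      Sieve.ofArrows Y f ∈ J X ∧ ∀ i, Y i ∈ G) :
    (ObjectProperty.ofObj fun X : G =>
      (presheafToSheaf J (Type u)).obj (yoneda.obj (X : C))).IsDetecting := by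
  intro A B φ h
  apply isIso_of_bijective_on_cover G hG φ
  intro X hX
  have hX' := h (eps J X) (ObjectProperty.ofObj_apply
    (fun X : G => (presheafToSheaf J (Type u)).obj (yoneda.obj (X : C))) ⟨X, hX⟩)
  have comp_eta : ∀ (s : eps J X ⟶ A),
      (s ≫ φ).hom.app (op X) (etaSec J (𝟙 X)) =
        φ.hom.app (op X) (s.hom.app (op X) (etaSec J (𝟙 X))) := fun s => rfl
  constructor
  · intro a₁ a₂ h12
    have h1 : ofSec a₁ ≫ φ = ofSec a₂ ≫ φ := by
      apply eps_hom_ext
      rw [comp_eta, comp_eta, ofSec_etaSec, ofSec_etaSec, h12]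
    obtain ⟨s, -, hs⟩ := hX' (ofSec a₂ ≫ φ)
    have h2 : ofSec a₁ = ofSec a₂ := (hs _ h1).trans (hs _ rfl).symm
    have h3 := congrArg (fun m => m.hom.app (op X) (etaSec J (𝟙 X))) h2
    simpa [ofSec_etaSec] using h3
  · intro b
    obtain ⟨s, hs, -⟩ := hX' (ofSec b)
    refine ⟨s.hom.app (op X) (etaSec J (𝟙 X)), ?_⟩
    rw [← comp_eta, hs, ofSec_etaSec]

end H2Topos
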