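import Groth.Agent.Lib.helper2.Topos2

/-!
# helper2: coproducts in a sheaf topos: injectivity, disjointness, quasi-compactness
-/

universe u w

open CategoryTheory CategoryTheory.Limits Opposite

namespace H2Topos

open ToposFin

variable {C : Type u} [SmallCategory C] {J : GrothendieckTopology C}

lemma isSheafT (T : Sh J) : Presieve.IsSheaf J T.obj := (isSheaf_iff_isSheaf_of_type _ _).1 T.2

section Empty

/-- an "empty" sheaf: sections exist only over objects covered by the empty sieve -/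
def EmptySh (T : Sh J) : Prop := ∀ (U : Cᵒᵖ), T.obj.obj U → (⊥ : Sieve U.unop) ∈ J U.unop

lemma eq_of_bot_mem (T : Sh J) {U : Cᵒᵖ} (h : (⊥ : Sieve U.unop) ∈ J U.unop) (x y : T.obj.obj U) :
    x = y :=
  ((isSheafT T).isSeparated _ h).ext (fun V f hf => hf.elim)

lemma nonempty_of_bot_mem (T : Sh J) {U : Cᵒᵖ} (h : (⊥ : Sieve U.unop) ∈ J U.unop) :
    Nonempty (T.obj.obj U) := by
  let x : Presieve.FamilyOfElements T.obj (⊥ : Sieve U.unop).arrows := fun V f hf => hf.elim
  have hx : x.Compatible := fun Y₁ Y₂ Z g₁ g₂ f₁ f₂ h₁ h₂ _ => h₁.elim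
  obtain ⟨t, -, -⟩ := isSheafT T _ h x hx
  exact ⟨t⟩

lemma hom_ext_of_emptySh {T T' : Sh J} (hT : EmptySh T) (a b : T ⟶ T') : a = b := by
  ext U τ
  exact eq_of_bot_mem T' (hT U τ) _ _

lemma isQC_of_emptySh {T : Sh J} (hT : EmptySh T) : IsQC T := by
  rw [isQC_iff]
  intro ι F π _
  exact ⟨∅, fun T' a b _ => hom_ext_of_emptySh hT a b⟩

lemma emptySh_of_hom {T T' : Sh J} (f : T ⟶ T') (h : EmptySh T') : EmptySh T :=
  fun U τ => h U (f.hom.app U τ)

/-- an empty sheaf is initial -/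
noncomputable def isInitialOfEmptySh {T : Sh J} (hT : EmptySh T) : IsInitial T :=
  IsInitial.ofUniqueHom (fun T' => ObjectProperty.homMk
    { app := fun U => ↾ fun τ => (nonempty_of_bot_mem T' (hT U τ)).some
      naturality := by
        intro U V f
        ext τ
        exact eq_of_bot_mem T' (hT V (T.obj.map f τ)) _ _ })
    (fun T' m => hom_ext_of_emptySh hT _ _)

end Empty

section Coprod

variable {ι : Type u} (F : ι → Sh J)

/-- the presheaf coproduct -/
def sigmaPre : Cᵒᵖ ⥤ Type u where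
  obj U := Σ i, (F i).obj.obj U
  map {U V} f := ↾ fun x => ⟨x.1, (F x.1).obj.map f x.2⟩
  map_id U := by
    apply ConcreteCategory.hom_ext
    rintro ⟨i, σ⟩
    change (⟨i, (F i).obj.map (𝟙 U) σ⟩ : Σ i, (F i).obj.obj U) = ⟨i, σ⟩
    rw [(F i).obj.map_id]
    rfl
  map_comp {U V W} f g := by
    apply ConcreteCategory.hom_ext
    rintro ⟨i, σ⟩
    change (⟨i, (F i).obj.map (f ≫ g) σ⟩ : Σ i, (F i).obj.obj W) =
      ⟨i, (F i).obj.map g ((F i).obj.map f σ)⟩
    rw [(F i).obj.map_comp]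
    rfl

/-- the injections into the presheaf coproduct -/
def preInj (i : ι) : (F i).obj ⟶ sigmaPre F where
  app U := ↾ fun σ => (⟨i, σ⟩ : Σ i, (F i).obj.obj U)
  naturality := by
    intro U V f
    rfl

/-- the injections into the sheafified coproduct -/
noncomputable def sigmaInj (i : ι) : F i ⟶ (presheafToSheaf J (Type u)).obj (sigmaPre F) :=
  ObjectProperty.homMk (preInj F i ≫ toSheafify J (sigmaPre F))

lemma inj_of_sigmaInj_eq (i : ι) {U : Cᵒᵖ} (σ σ' : (F i).obj.obj U)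
    (h : (sigmaInj F i).hom.app U σ = (sigmaInj F i).hom.app U σ') : σ = σ' := by
  have hinj : Presheaf.IsLocallyInjective J (toSheafify J (sigmaPre F)) := inferInstance
  have hS := hinj.equalizerSieve_mem (X := U) (⟨i, σ⟩ : (sigmaPre F).obj U) ⟨i, σ'⟩ h
  apply ((isSheafT (F i)).isSeparated _ hS).ext
  intro V f hf
  have hf' : (⟨i, (F i).obj.map f.op σ⟩ : Σ i, (F i).obj.obj (op V)) =
      ⟨i, (F i).obj.map f.op σ'⟩ := hf
  exact eq_of_heq (Sigma.mk.inj hf').2

lemma bot_mem_of_sigmaInj_eq {i j : ι} (hij : i ≠ j) {U : Cᵒᵖ} (σ : (F i).obj.obj U)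
    (τ : (F j).obj.obj U) (h : (sigmaInj F i).hom.app U σ = (sigmaInj F j).hom.app U τ) :
    (⊥ : Sieve U.unop) ∈ J U.unop := by
  have hinj : Presheaf.IsLocallyInjective J (toSheafify J (sigmaPre F)) := inferInstance
  have hS := hinj.equalizerSieve_mem (X := U) (⟨i, σ⟩ : (sigmaPre F).obj U) ⟨j, τ⟩ h
  refine J.superset_covering ?_ hS
  intro V f hf
  have hf' : (⟨i, (F i).obj.map f.op σ⟩ : Σ i, (F i).obj.obj (op V)) =
      ⟨j, (F j).obj.map f.op τ⟩ := hf
  exact absurd (Sigma.mk.inj hf').1 hij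

lemma sigma_ι_comp (i : ι) {U : Cᵒᵖ} (σ : (F i).obj.obj U) :
    (Limits.Sigma.desc (sigmaInj F)).hom.app U ((Limits.Sigma.ι F i).hom.app U σ) =
      (sigmaInj F i).hom.app U σ := by
  have e : Limits.Sigma.ι F i ≫ Limits.Sigma.desc (sigmaInj F) = sigmaInj F i :=
    Limits.Sigma.ι_desc _ _
  exact congrArg (fun m => m.hom.app U σ) e

lemma sigma_ι_inj (i : ι) {U : Cᵒᵖ} (σ σ' : (F i).obj.obj U)
    (h : (Limits.Sigma.ι F i).hom.app U σ = (Limits.Sigma.ι F i).hom.app U σ') : σ = σ' := by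
  apply inj_of_sigmaInj_eq F i
  rw [← sigma_ι_comp, ← sigma_ι_comp, h]

lemma sigma_ι_disj {i j : ι} (hij : i ≠ j) {U : Cᵒᵖ} (σ : (F i).obj.obj U)
    (τ : (F j).obj.obj U)
    (h : (Limits.Sigma.ι F i).hom.app U σ = (Limits.Sigma.ι F j).hom.app U τ) :
    (⊥ : Sieve U.unop) ∈ J U.unop := by
  apply bot_mem_of_sigmaInj_eq F hij σ τ
  rw [← sigma_ι_comp, ← sigma_ι_comp, h]

lemma mono_sigma_ι (i : ι) : Mono (Limits.Sigma.ι F i) := by
  constructor
  intro T a b hab
  ext U τ
  apply sigma_ι_inj F i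
  exact congrArg (fun m => m.hom.app U τ) hab

lemma je_sigma_ι : JE (Limits.Sigma.ι F) := by
  intro T a b hab
  exact Limits.Sigma.hom_ext _ _ hab

end Coprod

section Decomp

/-- members of a disjoint decomposition of a quasi-compact object are quasi-compact -/
lemma isQC_of_decomp {Y' : Sh J} (hY' : IsQC Y') {ι : Type u} {Y : ι → Sh J}
    (m : ∀ j, Y j ⟶ Y') (hm : JE m)
    (hinj : ∀ (j : ι) (U : Cᵒᵖ) (σ σ' : (Y j).obj.obj U),
      (m j).hom.app U σ = (m j).hom.app U σ' → σ = σ')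
    (hdis : ∀ i j : ι, i ≠ j → ∀ (U : Cᵒᵖ) (σ : (Y i).obj.obj U) (τ : (Y j).obj.obj U),
      (m i).hom.app U σ = (m j).hom.app U τ → (⊥ : Sieve U.unop) ∈ J U.unop) (i : ι) :
    IsQC (Y i) := by
  classical
  rw [isQC_iff]
  intro L G ρ hρ
  let K := L ⊕ {j : ι // j ≠ i}
  let H : K → Sh J := fun k => Sum.elim G (fun j => Y j.1) k
  let θ : ∀ k, H k ⟶ Y' := fun k => match k with
    | Sum.inl l => ρ l ≫ m i
    | Sum.inr j => m j.1
  have hθ : JE θ := by
    intro T a b hab
    apply hm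
    intro j
    by_cases hj : j = i
    · subst hj
      apply hρ
      intro l
      exact (Category.assoc _ _ _).symm.trans ((hab (Sum.inl l)).trans (Category.assoc _ _ _))
    · exact hab (Sum.inr ⟨j, hj⟩)
  obtain ⟨t, ht⟩ := (isQC_iff _).1 hY' K H θ hθ
  refine ⟨t.preimage Sum.inl (Sum.inl_injective.injOn), ?_⟩
  apply je_of_jls
  intro U σ
  have h1 := jls_of_je _ ht U ((m i).hom.app U σ)
  refine J.transitive h1 _ ?_
  rintro V f ⟨⟨k, hk⟩, τ, hτ⟩
  have hnat : Y'.obj.map f.op ((m i).hom.app U σ) =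
      (m i).hom.app (op V) ((Y i).obj.map f.op σ) :=
    (NatTrans.naturality_apply (m i).hom f.op σ).symm
  rw [hnat] at hτ
  cases k with
  | inl l =>
    have h2 : (ρ l).hom.app (op V) τ = (Y i).obj.map f.op σ := hinj i _ _ _ hτ
    have hl : l ∈ t.preimage Sum.inl (Sum.inl_injective.injOn) := Finset.mem_preimage.2 hk
    rw [Sieve.pullback_eq_top_of_mem _ (show ((imgSub fun l : ↥(t.preimage Sum.inl
      (Sum.inl_injective.injOn)) => ρ l).sieveOfSection σ) f from ⟨⟨l, hl⟩, τ, h2⟩)]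
    exact J.top_mem _
  | inr j =>
    have hb : (⊥ : Sieve V) ∈ J V := hdis j.1 i j.2 (op V) τ _ hτ
    exact J.superset_covering bot_le hb

lemma pullback_cond_app {X Y' F₀ : Sh J} (π : F₀ ⟶ X) (a : Y' ⟶ X) (U : Cᵒᵖ)
    (w : (pullback π a).obj.obj U) :
    π.hom.app U ((pullback.fst π a).hom.app U w) = a.hom.app U ((pullback.snd π a).hom.app U w) :=
  congrArg (fun m => m.hom.app U w) (pullback.condition (f := π) (g := a))

lemma pullback_snd_inj {X Y' F₀ : Sh J} (π : F₀ ⟶ X) (a : Y' ⟶ X)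
    (hπ : ∀ (U : Cᵒᵖ) (σ σ' : F₀.obj.obj U), π.hom.app U σ = π.hom.app U σ' → σ = σ')
    (U : Cᵒᵖ) (w w' : (pullback π a).obj.obj U)
    (h : (pullback.snd π a).hom.app U w = (pullback.snd π a).hom.app U w') : w = w' := by
  have hsq := (IsPullback.of_hasPullback π a).map (secF J U)
  refine Types.ext_of_isPullback hsq
    (?_ : (pullback.fst π a).hom.app U w = (pullback.fst π a).hom.app U w')
    (?_ : (pullback.snd π a).hom.app U w = (pullback.snd π a).hom.app U w')
  · apply hπ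
    rw [pullback_cond_app, pullback_cond_app, h]
  · exact h

end Decomp

section Main

variable {ι : Type u} (F : ι → Sh J)

/-- pieces of a quasi-compact object over a coproduct are quasi-compact -/
lemma isQC_pullback_sigma_ι {Y' : Sh J} (hY' : IsQC Y') (a : Y' ⟶ ∐ F) (i : ι) :
    IsQC (pullback (Limits.Sigma.ι F i) a) := by
  refine isQC_of_decomp hY' (fun j => pullback.snd (Limits.Sigma.ι F j) a) ?_ ?_ ?_ i
  · exact je_of_isPullback a (Limits.Sigma.ι F) (fun j => pullback.fst _ _) _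
      (fun j => IsPullback.of_hasPullback _ _) (je_sigma_ι F)
  · intro j U w w' h
    exact pullback_snd_inj _ a (fun U σ σ' => sigma_ι_inj F j σ σ') U w w' h
  · intro i j hij U w w' h
    refine sigma_ι_disj F hij ((pullback.fst _ a).hom.app U w) ((pullback.fst _ a).hom.app U w') ?_
    rw [pullback_cond_app, pullback_cond_app, h]

lemma isQC_of_isQC_sigma (h : IsQC (∐ F)) (i : ι) : IsQC (F i) := by
  have h1 := isQC_pullback_sigma_ι F h (𝟙 _) i
  haveI : IsIso (pullback.fst (Limits.Sigma.ι F i) (𝟙 (∐ F))) := inferInstance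
  exact isQC_of_iso (asIso (pullback.fst (Limits.Sigma.ι F i) (𝟙 (∐ F)))) h1

lemma emptySh_of_not_mem (s : Finset ι) (hs : JE (fun i : s => Limits.Sigma.ι F i)) (i : ι)
    (hi : i ∉ s) : EmptySh (F i) := by
  intro U σ
  have h1 := jls_of_je _ hs U ((Limits.Sigma.ι F i).hom.app U σ)
  refine J.transitive h1 _ ?_
  rintro V f ⟨⟨j, hj⟩, τ, hτ⟩
  have hnat : (∐ F).obj.map f.op ((Limits.Sigma.ι F i).hom.app U σ) =
      (Limits.Sigma.ι F i).hom.app (op V) ((F i).obj.map f.op σ) :=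
    (NatTrans.naturality_apply (Limits.Sigma.ι F i).hom f.op σ).symm
  rw [hnat] at hτ
  have hji : j ≠ i := fun e => hi (e ▸ hj)
  have hb : (⊥ : Sieve V) ∈ J V := sigma_ι_disj F hji (U := op V) τ _ hτ
  exact J.superset_covering bot_le hb

theorem isQC_sigma_iff :
    IsQC (∐ F) ↔ (∀ i, IsQC (F i)) ∧ {i | IsEmpty (F i ≅ ⊥_ (Sh J))}.Finite := by
  classical
  constructor
  · intro h
    refine ⟨isQC_of_isQC_sigma F h, ?_⟩
    obtain ⟨s, hs⟩ := (isQC_iff _).1 h ι F (Limits.Sigma.ι F) (je_sigma_ι F)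
    refine s.finite_toSet.subset ?_
    intro i hi
    by_contra hnot
    have hE := emptySh_of_not_mem F s hs i (by simpa using hnot)
    exact hi.false (initialIsoIsInitial (isInitialOfEmptySh hE)).symm
  · rintro ⟨hqc, hfin⟩
    haveI : Finite ↥{i | IsEmpty (F i ≅ ⊥_ (Sh J))} := hfin
    refine isQC_of_finite_je (fun i : ↥{i | IsEmpty (F i ≅ ⊥_ (Sh J))} => F i)
      (fun i => Limits.Sigma.ι F i) ?_ (fun i => hqc i)
    intro T a b hab
    apply je_sigma_ι F
    intro i
    by_cases hi : IsEmpty (F i ≅ ⊥_ (Sh J))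
    · exact hab ⟨i, hi⟩
    · rw [not_isEmpty_iff] at hi
      obtain ⟨e⟩ := hi
      exact (IsInitial.ofIso initialIsInitial e.symm).hom_ext _ _

theorem isQS_sigma_iff : IsQS (∐ F) ↔ ∀ i, IsQS (F i) := by
  classical
  constructor
  · intro h i
    haveI := mono_sigma_ι F i
    exact isQS_of_mono (Limits.Sigma.ι F i) h
  · intro h Y' Z' a b hY' hZ'
    have hjeY : JE (fun j => pullback.snd (Limits.Sigma.ι F j) a) :=
      je_of_isPullback a (Limits.Sigma.ι F) (fun j => pullback.fst _ _) _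
        (fun j => IsPullback.of_hasPullback _ _) (je_sigma_ι F)
    have hjeZ : JE (fun j => pullback.snd (Limits.Sigma.ι F j) b) :=
      je_of_isPullback b (Limits.Sigma.ι F) (fun j => pullback.fst _ _) _
        (fun j => IsPullback.of_hasPullback _ _) (je_sigma_ι F)
    obtain ⟨s, hs⟩ := (isQC_iff _).1 hY' _ _ _ hjeY
    obtain ⟨t, ht⟩ := (isQC_iff _).1 hZ' _ _ _ hjeZ
    refine isQC_pullback_of_cover_left a b (fun i : s => pullback (Limits.Sigma.ι F i) a)
      (fun i => pullback.snd (Limits.Sigma.ι F i) a) hs (fun i => ?_)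
    refine isQC_pullback_of_cover_right _ b (fun j : t => pullback (Limits.Sigma.ι F j) b)
      (fun j => pullback.snd (Limits.Sigma.ι F j) b) ht (fun j => ?_)
    have e1 : pullback.snd (Limits.Sigma.ι F i) a ≫ a =
        pullback.fst (Limits.Sigma.ι F i) a ≫ Limits.Sigma.ι F i := pullback.condition.symm
    have e2 : pullback.snd (Limits.Sigma.ι F j) b ≫ b =
        pullback.fst (Limits.Sigma.ι F j) b ≫ Limits.Sigma.ι F j := pullback.condition.symm
    refine isQC_of_iso (pullback.congrHom e1.symm e2.symm) ?_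
    by_cases hij : (i : ι) = j
    · -- same index
      have hYi := isQC_pullback_sigma_ι F hY' a i
      have hZj := isQC_pullback_sigma_ι F hZ' b j
      obtain ⟨i, hi⟩ := i
      obtain ⟨j, hj⟩ := j
      dsimp only at hij
      subst hij
      haveI := mono_sigma_ι F i
      exact isQC_of_iso (isoPullbackMono _ _ (Limits.Sigma.ι F i)) (h i _ _ _ _ hYi hZj)
    · apply isQC_of_emptySh
      intro U w
      refine sigma_ι_disj F hij
        ((pullback.fst (Limits.Sigma.ι F i) a).hom.app U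
          ((pullback.fst (pullback.fst (Limits.Sigma.ι F i) a ≫ Limits.Sigma.ι F i)
            (pullback.fst (Limits.Sigma.ι F j) b ≫ Limits.Sigma.ι F j)).hom.app U w))
        ((pullback.fst (Limits.Sigma.ι F j) b).hom.app U
          ((pullback.snd (pullback.fst (Limits.Sigma.ι F i) a ≫ Limits.Sigma.ι F i)
            (pullback.fst (Limits.Sigma.ι F j) b ≫ Limits.Sigma.ι F j)).hom.app U w)) ?_
      exact pullback_cond_app (pullback.fst (Limits.Sigma.ι F i) a ≫ Limits.Sigma.ι F i)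
        (pullback.fst (Limits.Sigma.ι F j) b ≫ Limits.Sigma.ι F j) U w

end Main

end H2Topos
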