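import Groth.Agent.Lib.helper2.Topos4
import Groth.Prelude.Def_SGA4a

/-!
# helper2: descent along jointly locally surjective families, Giraud axioms for sheaf topoi
-/

universe u w

open CategoryTheory CategoryTheory.Limits Opposite

namespace H2Topos

open ToposFin

variable {C : Type u} [SmallCategory C] {J : GrothendieckTopology C}

lemma map_map_app (T : Sh J) {W V X : C} (c : W ⟶ V) (f : V ⟶ X) (z : T.obj.obj (op X)) :
    T.obj.map c.op (T.obj.map f.op z) = T.obj.map (c ≫ f).op z := by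
  rw [op_comp, T.obj.map_comp]
  rfl

lemma map_id_app (T : Sh J) (X : C) (z : T.obj.obj (op X)) : T.obj.map (𝟙 X).op z = z := by
  rw [op_id, T.obj.map_id]
  rfl

/-- build a morphism of sheaves from sectionwise maps -/
def mkHom {A B : Sh J} (φ : ∀ U : Cᵒᵖ, A.obj.obj U → B.obj.obj U)
    (nat : ∀ ⦃U U' : Cᵒᵖ⦄ (g : U ⟶ U') (x : A.obj.obj U),
      φ U' (A.obj.map g x) = B.obj.map g (φ U x)) : A ⟶ B :=
  ObjectProperty.homMk
    { app := fun U => ↾ (φ U)
      naturality := by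
        intro U U' g
        ext x
        exact nat g x }

@[simp] lemma mkHom_app {A B : Sh J} (φ : ∀ U : Cᵒᵖ, A.obj.obj U → B.obj.obj U)
    (nat : ∀ ⦃U U' : Cᵒᵖ⦄ (g : U ⟶ U') (x : A.obj.obj U),
      φ U' (A.obj.map g x) = B.obj.map g (φ U x)) (U : Cᵒᵖ) (x : A.obj.obj U) :
    (mkHom φ nat).hom.app U x = φ U x := rfl

/-- descent of morphisms along a jointly locally surjective family -/
lemma exists_unique_desc {B T : Sh J} {ι : Type w} {F : ι → Sh J} (π : ∀ i, F i ⟶ B)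
    (hπ : JLS π) (e : ∀ i, F i ⟶ T)
    (he : ∀ (i j : ι) (V : Cᵒᵖ) (x : (F i).obj.obj V) (y : (F j).obj.obj V),
      (π i).hom.app V x = (π j).hom.app V y → (e i).hom.app V x = (e j).hom.app V y) :
    ∃! d : B ⟶ T, ∀ i, π i ≫ d = e i := by
  have hT := isSheafT T
  have key : ∀ (U : Cᵒᵖ) (b : B.obj.obj U), ∃ d : T.obj.obj U,
      ∀ ⦃V : C⦄ (f : V ⟶ U.unop) (i : ι) (t : (F i).obj.obj (op V)),
        (π i).hom.app (op V) t = B.obj.map f.op b →
          T.obj.map f.op d = (e i).hom.app (op V) t := by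
    intro U b
    have hS := hπ U b
    have hch : ∀ ⦃V : C⦄ (f : V ⟶ U.unop), ((imgSub π).sieveOfSection b) f →
        ∃ z : T.obj.obj (op V), ∀ (i : ι) (t : (F i).obj.obj (op V)),
          (π i).hom.app (op V) t = B.obj.map f.op b → z = (e i).hom.app (op V) t := by
      rintro V f ⟨i₀, t₀, ht₀⟩
      exact ⟨(e i₀).hom.app (op V) t₀, fun i t ht => he _ _ _ _ _ (ht₀.trans ht.symm)⟩
    choose x hxs using hch
    have hx : ∀ ⦃Y₁ Y₂ Z : C⦄ (g₁ : Z ⟶ Y₁) (g₂ : Z ⟶ Y₂) ⦃f₁ : Y₁ ⟶ U.unop⦄ ⦃f₂ : Y₂ ⟶ U.unop⦄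
        (h₁ : ((imgSub π).sieveOfSection b) f₁) (h₂ : ((imgSub π).sieveOfSection b) f₂),
        g₁ ≫ f₁ = g₂ ≫ f₂ → T.obj.map g₁.op (x f₁ h₁) = T.obj.map g₂.op (x f₂ h₂) := by
      intro Y₁ Y₂ Z g₁ g₂ f₁ f₂ h₁ h₂ hcomm
      obtain ⟨i₁, t₁, ht₁⟩ := id h₁
      obtain ⟨i₂, t₂, ht₂⟩ := id h₂
      rw [hxs f₁ h₁ i₁ t₁ ht₁, hxs f₂ h₂ i₂ t₂ ht₂,
        ← NatTrans.naturality_apply (e i₁).hom g₁.op t₁,
        ← NatTrans.naturality_apply (e i₂).hom g₂.op t₂]
      apply he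
      rw [NatTrans.naturality_apply (π i₁).hom g₁.op t₁,
        NatTrans.naturality_apply (π i₂).hom g₂.op t₂, ht₁, ht₂, map_map_app, map_map_app, hcomm]
    obtain ⟨d, hd, -⟩ := hT _ hS x hx
    refine ⟨d, fun V f i t ht => ?_⟩
    have hf : ((imgSub π).sieveOfSection b) f := ⟨i, t, ht⟩
    rw [hd f hf]
    exact hxs f hf i t ht
  choose dd hdd using key
  have hnat : ∀ ⦃U U' : Cᵒᵖ⦄ (g : U ⟶ U') (b : B.obj.obj U),
      dd U' (B.obj.map g b) = T.obj.map g (dd U b) := by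
    intro U U' g b
    apply (hT.isSeparated _ (hπ U' (B.obj.map g b))).ext
    rintro V f ⟨i, t, ht⟩
    rw [hdd U' _ f i t ht]
    have e1 : T.obj.map f.op (T.obj.map g (dd U b)) =
        T.obj.map (f ≫ g.unop).op (dd U b) := map_map_app T f g.unop (dd U b)
    have e2 : B.obj.map f.op (B.obj.map g b) = B.obj.map (f ≫ g.unop).op b :=
      map_map_app B f g.unop b
    rw [e1]
    exact (hdd U b (f ≫ g.unop) i t (ht.trans e2)).symm
  have fac : ∀ i, π i ≫ mkHom dd hnat = e i := by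
    intro i
    ext U t
    have h1 := hdd U ((π i).hom.app U t) (𝟙 U.unop) i t (map_id_app B U.unop _).symm
    rw [map_id_app] at h1
    exact h1
  exact ⟨mkHom dd hnat, fac, fun d' hd' =>
    je_of_jls π hπ d' _ (fun i => (hd' i).trans (fac i).symm)⟩

lemma jls_unit_of_isPullback {X Y' F₀ P : Sh J} {q : P ⟶ F₀} {p : P ⟶ Y'} {π : F₀ ⟶ X}
    {g : Y' ⟶ X} (h : IsPullback q p π g) (hπ : JLS (fun _ : Unit => π)) :
    JLS (fun _ : Unit => p) :=
  jls_of_isPullback g (fun _ : Unit => π) (fun _ => q) (fun _ => p) (fun _ => h) hπ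

/-- a locally surjective morphism of sheaves is an effective epimorphism -/
lemma effectiveEpi_of_jls {P B : Sh J} (ψ : P ⟶ B) (h : JLS (fun _ : Unit => ψ)) :
    EffectiveEpi ψ := by
  have he : ∀ {W : Sh J} (e : P ⟶ W)
      (_ : ∀ {Z : Sh J} (g₁ g₂ : Z ⟶ P), g₁ ≫ ψ = g₂ ≫ ψ → g₁ ≫ e = g₂ ≫ e)
      (i j : Unit) (V : Cᵒᵖ) (x y : P.obj.obj V),
      ψ.hom.app V x = ψ.hom.app V y → e.hom.app V x = e.hom.app V y := by
    intro W e hh _ _ V x y hxy
    have h1 : ofSec x ≫ ψ = ofSec y ≫ ψ := by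
      apply eps_hom_ext
      change ψ.hom.app V ((ofSec x).hom.app V (etaSec J (𝟙 V.unop))) =
        ψ.hom.app V ((ofSec y).hom.app V (etaSec J (𝟙 V.unop)))
      rw [ofSec_etaSec, ofSec_etaSec, hxy]
    have h2 := hh _ _ h1
    have h3 := congrArg (fun m => m.hom.app V (etaSec J (𝟙 V.unop))) h2
    change e.hom.app V ((ofSec x).hom.app V (etaSec J (𝟙 V.unop))) =
      e.hom.app V ((ofSec y).hom.app V (etaSec J (𝟙 V.unop))) at h3
    rwa [ofSec_etaSec, ofSec_etaSec] at h3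
  refine ⟨⟨{
    desc := fun {W} e hh =>
      (exists_unique_desc (fun _ : Unit => ψ) h (fun _ => e) (he e hh)).exists.choose
    fac := fun {W} e hh =>
      (exists_unique_desc (fun _ : Unit => ψ) h (fun _ => e) (he e hh)).exists.choose_spec ()
    uniq := fun {W} e hh m hm => ?_ }⟩⟩
  have hu := exists_unique_desc (fun _ : Unit => ψ) h (fun _ => e) (he e hh)
  exact hu.unique (fun _ => hm) hu.exists.choose_spec

section OfSec

lemma ofSec_comp {V : C} {T T' : Sh J} (t : T.obj.obj (op V)) (g : T ⟶ T') :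
    ofSec t ≫ g = ofSec (g.hom.app (op V) t) := by
  apply eps_hom_ext
  change g.hom.app (op V) ((ofSec t).hom.app (op V) (etaSec J (𝟙 V))) =
    (ofSec (g.hom.app (op V) t)).hom.app (op V) (etaSec J (𝟙 V))
  rw [ofSec_etaSec, ofSec_etaSec]

lemma ofSec_inj {V : C} {T : Sh J} (t t' : T.obj.obj (op V)) (h : ofSec t = ofSec t') :
    t = t' := by
  have h1 : (ofSec t).hom.app (op V) (etaSec J (𝟙 V)) =
      (ofSec t').hom.app (op V) (etaSec J (𝟙 V)) := by rw [h]
  rwa [ofSec_etaSec, ofSec_etaSec] at h1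

end OfSec

section Quot

variable {R A : Sh J} (p₁ p₂ : R ⟶ A)

/-- the sectionwise relation defined by `R ⇉ A` -/
def SRel (U : Cᵒᵖ) (x y : A.obj.obj U) : Prop :=
  ∃ r : R.obj.obj U, p₁.hom.app U r = x ∧ p₂.hom.app U r = y

lemma srel_map {U U' : Cᵒᵖ} (g : U ⟶ U') {x y : A.obj.obj U} (hxy : SRel p₁ p₂ U x y) :
    SRel p₁ p₂ U' (A.obj.map g x) (A.obj.map g y) := by
  obtain ⟨r, rfl, rfl⟩ := hxy
  exact ⟨R.obj.map g r, NatTrans.naturality_apply p₁.hom g r,
    NatTrans.naturality_apply p₂.hom g r⟩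

lemma srel_iff (U : Cᵒᵖ) (x y : A.obj.obj U) :
    SRel p₁ p₂ U x y ↔ ∃ f : eps J U.unop ⟶ R,
      f ≫ p₁ = ofSec (V := U.unop) x ∧ f ≫ p₂ = ofSec (V := U.unop) y := by
  constructor
  · rintro ⟨r, rfl, rfl⟩
    exact ⟨ofSec (V := U.unop) r, ofSec_comp _ _, ofSec_comp _ _⟩
  · rintro ⟨f, h1, h2⟩
    refine ⟨f.hom.app U (etaSec J (𝟙 U.unop)), ?_, ?_⟩
    · have := congrArg (fun m => m.hom.app U (etaSec J (𝟙 U.unop))) h1
      exact this.trans (ofSec_etaSec (V := U.unop) x)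
    · have := congrArg (fun m => m.hom.app U (etaSec J (𝟙 U.unop))) h2
      exact this.trans (ofSec_etaSec (V := U.unop) y)

variable (h : SGA4.IsEquivRel p₁ p₂)

include h in
lemma srel_inj (U : Cᵒᵖ) (r r' : R.obj.obj U) (h1 : p₁.hom.app U r = p₁.hom.app U r')
    (h2 : p₂.hom.app U r = p₂.hom.app U r') : r = r' := by
  apply ofSec_inj (V := U.unop)
  apply (h (eps J U.unop)).1
  refine Prod.ext ?_ ?_
  · change ofSec (V := U.unop) r ≫ p₁ = ofSec (V := U.unop) r' ≫ p₁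
    rw [ofSec_comp, ofSec_comp]
    exact congrArg (ofSec (V := U.unop)) h1
  · change ofSec (V := U.unop) r ≫ p₂ = ofSec (V := U.unop) r' ≫ p₂
    rw [ofSec_comp, ofSec_comp]
    exact congrArg (ofSec (V := U.unop)) h2

include h in
lemma srel_equiv (U : Cᵒᵖ) : Equivalence (SRel p₁ p₂ U) := by
  have hE := (h (eps J U.unop)).2
  refine ⟨fun x => ?_, fun {x y} hxy => ?_, fun {x y z} hxy hyz => ?_⟩
  · exact (srel_iff p₁ p₂ U x x).2 (hE.refl (ofSec (V := U.unop) x))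
  · exact (srel_iff p₁ p₂ U y x).2 (hE.symm ((srel_iff p₁ p₂ U x y).1 hxy))
  · exact (srel_iff p₁ p₂ U x z).2
      (hE.trans ((srel_iff p₁ p₂ U x y).1 hxy) ((srel_iff p₁ p₂ U y z).1 hyz))

/-- the sectionwise setoid -/
def qSetoid (U : Cᵒᵖ) : Setoid (A.obj.obj U) := ⟨SRel p₁ p₂ U, srel_equiv p₁ p₂ h U⟩

/-- the presheaf quotient -/
def quotPre : Cᵒᵖ ⥤ Type u where
  obj U := Quotient (qSetoid p₁ p₂ h U)
  map {U U'} g := ↾ fun q => Quotient.liftOn q
    (fun x => Quotient.mk (qSetoid p₁ p₂ h U') (A.obj.map g x))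
    (fun x y hxy => Quotient.sound (srel_map p₁ p₂ g hxy))
  map_id U := by
    apply ConcreteCategory.hom_ext
    rintro ⟨x⟩
    change Quotient.mk (qSetoid p₁ p₂ h U) (A.obj.map (𝟙 U) x) = Quotient.mk _ x
    rw [A.obj.map_id]
    rfl
  map_comp {U V W} f g := by
    apply ConcreteCategory.hom_ext
    rintro ⟨x⟩
    change Quotient.mk (qSetoid p₁ p₂ h W) (A.obj.map (f ≫ g) x) =
      Quotient.mk _ (A.obj.map g (A.obj.map f x))
    rw [A.obj.map_comp]
    rfl

/-- the quotient map of presheaves -/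
def quotMap : A.obj ⟶ quotPre p₁ p₂ h where
  app U := ↾ fun x => Quotient.mk (qSetoid p₁ p₂ h U) x
  naturality := by
    intro U V f
    rfl

/-- the quotient sheaf -/
noncomputable def quotSh : Sh J := (presheafToSheaf J (Type u)).obj (quotPre p₁ p₂ h)

/-- the quotient map -/
noncomputable def quotπ : A ⟶ quotSh p₁ p₂ h :=
  ObjectProperty.homMk (quotMap p₁ p₂ h ≫ toSheafify J (quotPre p₁ p₂ h))

lemma quotπ_eq_of_srel (U : Cᵒᵖ) (x y : A.obj.obj U) (hxy : SRel p₁ p₂ U x y) :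
    (quotπ p₁ p₂ h).hom.app U x = (quotπ p₁ p₂ h).hom.app U y := by
  have e : Quotient.mk (qSetoid p₁ p₂ h U) x = Quotient.mk (qSetoid p₁ p₂ h U) y :=
    Quotient.sound hxy
  exact congrArg (fun q => (toSheafify J (quotPre p₁ p₂ h)).app U q) e

lemma srel_of_quotπ_eq (U : Cᵒᵖ) (x y : A.obj.obj U)
    (hxy : (quotπ p₁ p₂ h).hom.app U x = (quotπ p₁ p₂ h).hom.app U y) : SRel p₁ p₂ U x y := by
  have hinj : Presheaf.IsLocallyInjective J (toSheafify J (quotPre p₁ p₂ h)) := inferInstance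
  have hS := hinj.equalizerSieve_mem (X := U)
    (Quotient.mk (qSetoid p₁ p₂ h U) x : (quotPre p₁ p₂ h).obj U)
    (Quotient.mk (qSetoid p₁ p₂ h U) y) hxy
  have key : ∀ ⦃V : C⦄ (f : V ⟶ U.unop),
      (Presheaf.equalizerSieve (F := quotPre p₁ p₂ h)
        (Quotient.mk (qSetoid p₁ p₂ h U) x : (quotPre p₁ p₂ h).obj U)
        (Quotient.mk (qSetoid p₁ p₂ h U) y)) f →
      ∃ r : R.obj.obj (op V), p₁.hom.app (op V) r = A.obj.map f.op x ∧
        p₂.hom.app (op V) r = A.obj.map f.op y := by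
    intro V f hf
    have hf' : Quotient.mk (qSetoid p₁ p₂ h (op V)) (A.obj.map f.op x) =
        Quotient.mk (qSetoid p₁ p₂ h (op V)) (A.obj.map f.op y) := hf
    exact Quotient.exact hf'
  choose fam hfam using key
  have hcompat : ∀ ⦃Y₁ Y₂ Z : C⦄ (g₁ : Z ⟶ Y₁) (g₂ : Z ⟶ Y₂) ⦃f₁ : Y₁ ⟶ U.unop⦄
      ⦃f₂ : Y₂ ⟶ U.unop⦄
      (h₁ : (Presheaf.equalizerSieve (F := quotPre p₁ p₂ h)
        (Quotient.mk (qSetoid p₁ p₂ h U) x : (quotPre p₁ p₂ h).obj U)
        (Quotient.mk (qSetoid p₁ p₂ h U) y)) f₁)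
      (h₂ : (Presheaf.equalizerSieve (F := quotPre p₁ p₂ h)
        (Quotient.mk (qSetoid p₁ p₂ h U) x : (quotPre p₁ p₂ h).obj U)
        (Quotient.mk (qSetoid p₁ p₂ h U) y)) f₂),
      g₁ ≫ f₁ = g₂ ≫ f₂ → R.obj.map g₁.op (fam f₁ h₁) = R.obj.map g₂.op (fam f₂ h₂) := by
    intro Y₁ Y₂ Z g₁ g₂ f₁ f₂ h₁ h₂ hcomm
    apply srel_inj p₁ p₂ h
    · rw [NatTrans.naturality_apply p₁.hom g₁.op, NatTrans.naturality_apply p₁.hom g₂.op,
        (hfam f₁ h₁).1, (hfam f₂ h₂).1, map_map_app, map_map_app, hcomm]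
    · rw [NatTrans.naturality_apply p₂.hom g₁.op, NatTrans.naturality_apply p₂.hom g₂.op,
        (hfam f₁ h₁).2, (hfam f₂ h₂).2, map_map_app, map_map_app, hcomm]
  obtain ⟨r, hr, -⟩ := isSheafT R _ hS fam hcompat
  refine ⟨r, ?_, ?_⟩
  · apply ((isSheafT A).isSeparated _ hS).ext
    intro V f hf
    rw [← NatTrans.naturality_apply p₁.hom f.op r, hr f hf]
    exact (hfam f hf).1
  · apply ((isSheafT A).isSeparated _ hS).ext
    intro V f hf
    rw [← NatTrans.naturality_apply p₂.hom f.op r, hr f hf]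
    exact (hfam f hf).2

lemma jls_quotπ : JLS (fun _ : Unit => quotπ p₁ p₂ h) := by
  intro U s
  have hS := Presheaf.imageSieve_mem J (toSheafify J (quotPre p₁ p₂ h)) s
  refine J.superset_covering ?_ hS
  rintro V f ⟨⟨x⟩, hq⟩
  exact ⟨(), x, hq⟩

lemma quot_comm : p₁ ≫ quotπ p₁ p₂ h = p₂ ≫ quotπ p₁ p₂ h := by
  ext U r
  exact quotπ_eq_of_srel p₁ p₂ h U _ _ ⟨r, rfl, rfl⟩

lemma exists_lift_quot {T : Sh J} (a b : T ⟶ A)
    (hab : a ≫ quotπ p₁ p₂ h = b ≫ quotπ p₁ p₂ h) :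
    ∃ l : T ⟶ R, l ≫ p₁ = a ∧ l ≫ p₂ = b := by
  have key : ∀ (U : Cᵒᵖ) (t : T.obj.obj U), ∃ r : R.obj.obj U,
      p₁.hom.app U r = a.hom.app U t ∧ p₂.hom.app U r = b.hom.app U t := by
    intro U t
    apply srel_of_quotπ_eq p₁ p₂ h U
    exact congrArg (fun m => m.hom.app U t) hab
  choose φ hφ using key
  refine ⟨mkHom φ ?_, ?_, ?_⟩
  · intro U U' g t
    apply srel_inj p₁ p₂ h U'
    · exact ((hφ U' _).1).trans ((NatTrans.naturality_apply a.hom g t).trans
        ((congrArg (fun z => A.obj.map g z) (hφ U t).1.symm).trans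
          (NatTrans.naturality_apply p₁.hom g (φ U t)).symm))
    · exact ((hφ U' _).2).trans ((NatTrans.naturality_apply b.hom g t).trans
        ((congrArg (fun z => A.obj.map g z) (hφ U t).2.symm).trans
          (NatTrans.naturality_apply p₂.hom g (φ U t)).symm))
  · ext U t
    exact (hφ U t).1
  · ext U t
    exact (hφ U t).2

lemma isPullback_quot : IsPullback p₁ p₂ (quotπ p₁ p₂ h) (quotπ p₁ p₂ h) := by
  refine IsPullback.of_isLimit' ⟨quot_comm p₁ p₂ h⟩
    (PullbackCone.IsLimit.mk (quot_comm p₁ p₂ h)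
      (fun s => (exists_lift_quot p₁ p₂ h s.fst s.snd s.condition).choose)
      (fun s => (exists_lift_quot p₁ p₂ h s.fst s.snd s.condition).choose_spec.1)
      (fun s => (exists_lift_quot p₁ p₂ h s.fst s.snd s.condition).choose_spec.2)
      (fun s m h1 h2 => ?_))
  apply (h s.pt).1
  exact Prod.ext
    (h1.trans (exists_lift_quot p₁ p₂ h s.fst s.snd s.condition).choose_spec.1.symm)
    (h2.trans (exists_lift_quot p₁ p₂ h s.fst s.snd s.condition).choose_spec.2.symm)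

lemma exists_unique_desc_quot {T : Sh J} (a b : A ⟶ T) (hab : p₁ ≫ a = p₂ ≫ b) :
    a = b ∧ ∃! d : quotSh p₁ p₂ h ⟶ T, quotπ p₁ p₂ h ≫ d = a := by
  have hsec : ∀ (U : Cᵒᵖ) (r : R.obj.obj U),
      a.hom.app U (p₁.hom.app U r) = b.hom.app U (p₂.hom.app U r) := fun U r =>
    congrArg (fun m => m.hom.app U r) hab
  have hab' : a = b := by
    ext U x
    obtain ⟨r, h1, h2⟩ := (srel_equiv p₁ p₂ h U).refl x
    have := hsec U r
    rw [h1, h2] at this
    exact this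
  refine ⟨hab', ?_⟩
  have hu := exists_unique_desc (fun _ : Unit => quotπ p₁ p₂ h) (jls_quotπ p₁ p₂ h)
    (fun _ => a) (by
      intro _ _ V x y hxy
      obtain ⟨r, h1, h2⟩ := srel_of_quotπ_eq p₁ p₂ h V x y hxy
      have := hsec V r
      rw [h1, h2, ← hab'] at this
      exact this)
  obtain ⟨d, hd, hd'⟩ := hu
  exact ⟨d, hd (), fun d' h' => hd' d' (fun _ => h')⟩

lemma isPushout_quot : IsPushout p₁ p₂ (quotπ p₁ p₂ h) (quotπ p₁ p₂ h) := by
  refine IsPushout.of_isColimit' ⟨quot_comm p₁ p₂ h⟩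
    (PushoutCocone.IsColimit.mk (quot_comm p₁ p₂ h)
      (fun s => (exists_unique_desc_quot p₁ p₂ h s.inl s.inr s.condition).2.exists.choose)
      (fun s => (exists_unique_desc_quot p₁ p₂ h s.inl s.inr s.condition).2.exists.choose_spec)
      (fun s => ?_)
      (fun s m h1 h2 => ?_))
  · exact ((exists_unique_desc_quot p₁ p₂ h s.inl s.inr s.condition).2.exists.choose_spec).trans
      (exists_unique_desc_quot p₁ p₂ h s.inl s.inr s.condition).1
  · exact (exists_unique_desc_quot p₁ p₂ h s.inl s.inr s.condition).2.unique h1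
      (exists_unique_desc_quot p₁ p₂ h s.inl s.inr s.condition).2.exists.choose_spec

include h in
theorem isEffectiveUniversalEquivRel :
    SGA4.IsEffectiveUniversalEquivRel p₁ p₂ := by
  refine ⟨quotSh p₁ p₂ h, quotπ p₁ p₂ h, isPullback_quot p₁ p₂ h, isPushout_quot p₁ p₂ h, ?_⟩
  intro B' g
  exact effectiveEpi_of_jls _
    (jls_unit_of_isPullback (IsPullback.of_hasPullback (quotπ p₁ p₂ h) g) (jls_quotπ p₁ p₂ h))

end Quot

section Coprod

theorem hasDisjointUniversalCoproducts (J : GrothendieckTopology C) :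
    SGA4.HasDisjointUniversalCoproducts.{u + 1, u} (Sheaf J (Type u)) := by
  intro ι X
  refine ⟨Cofan.mk (∐ X) (Limits.Sigma.ι X), coproductIsCoproduct X, ?_, ?_⟩
  · have : ∀ i, Mono (Limits.Sigma.ι X i) := mono_sigma_ι X
    refine CoproductDisjoint.of_hasCoproduct
      (fun {i j} _ => pullback.cone (Limits.Sigma.ι X i) (Limits.Sigma.ι X j))
      (fun {i j} _ => pullback.isLimit _ _) (fun {i j} hij => ?_)
    apply isInitialOfEmptySh
    intro U w
    exact sigma_ι_disj X hij _ _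
      (pullback_cond_app (Limits.Sigma.ι X i) (Limits.Sigma.ι X j) U w)
  · intro F' c' α f comm _ hpb
    have hw : ∀ (j : Discrete ι) (V : Cᵒᵖ) (x : (F'.obj j).obj.obj V),
        f.hom.app V ((c'.ι.app j).hom.app V x) =
          (Limits.Sigma.ι X j.as).hom.app V ((α.app j).hom.app V x) := fun j V x =>
      congrArg (fun m => m.hom.app V x) (hpb j).w
    have hjls : JLS (fun j : Discrete ι => c'.ι.app j) := by
      refine jls_of_isPullback f
        (fun j : Discrete ι => (Cofan.mk (∐ X) (Limits.Sigma.ι X)).ι.app j)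
        (fun j => α.app j) (fun j => c'.ι.app j) (fun j => (hpb j).flip) ?_
      apply jls_of_je
      intro T a b hab
      exact (coproductIsCoproduct X).hom_ext hab
    have hinj : ∀ (j : Discrete ι) (V : Cᵒᵖ) (x y : (F'.obj j).obj.obj V),
        (c'.ι.app j).hom.app V x = (c'.ι.app j).hom.app V y → x = y := by
      intro j V x y hxy
      have hsq := (hpb j).map (secF J V)
      refine Types.ext_of_isPullback hsq
        (?_ : (c'.ι.app j).hom.app V x = (c'.ι.app j).hom.app V y)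
        (?_ : (α.app j).hom.app V x = (α.app j).hom.app V y)
      · exact hxy
      · apply sigma_ι_inj X j.as
        rw [← hw, ← hw, hxy]
    have he : ∀ (s : Cocone F') (i j : Discrete ι) (V : Cᵒᵖ) (x : (F'.obj i).obj.obj V)
        (y : (F'.obj j).obj.obj V),
        (c'.ι.app i).hom.app V x = (c'.ι.app j).hom.app V y →
          (s.ι.app i).hom.app V x = (s.ι.app j).hom.app V y := by
      intro s i j V x y hxy
      by_cases hij : i.as = j.as
      · obtain ⟨i⟩ := i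
        obtain ⟨j⟩ := j
        dsimp only at hij
        subst hij
        rw [hinj _ V x y hxy]
      · apply eq_of_bot_mem s.pt
        refine sigma_ι_disj X hij ((α.app i).hom.app V x) ((α.app j).hom.app V y) ?_
        rw [← hw, ← hw, hxy]
    have hu : ∀ s : Cocone F', ∃! d : c'.pt ⟶ s.pt, ∀ j, c'.ι.app j ≫ d = s.ι.app j :=
      fun s => exists_unique_desc (fun j => c'.ι.app j) hjls (fun j => s.ι.app j) (he s)
    exact ⟨{ desc := fun s => (hu s).exists.choose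
             fac := fun s j => (hu s).exists.choose_spec j
             uniq := fun s m hm => (hu s).unique hm (hu s).exists.choose_spec }⟩

end Coprod

end H2Topos
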