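import Groth.Agent.Lib.helper2.Topos5

/-!
# helper2: the closed complement of an open of a sheaf topos
-/

universe u w

open CategoryTheory CategoryTheory.Limits Opposite

namespace H2Topos

open ToposFin

variable {C : Type u} [SmallCategory C] {J : GrothendieckTopology C}

section Pairs

variable {A B : Sh J}

/-- the section of a product defined by a pair of sections -/
noncomputable def pairSec {V : Cᵒᵖ} (a : A.obj.obj V) (b : B.obj.obj V) : (A ⨯ B).obj.obj V :=
  (prod.lift (ofSec (V := V.unop) a) (ofSec (V := V.unop) b)).hom.app V (etaSec J (𝟙 V.unop))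

lemma fst_pairSec {V : Cᵒᵖ} (a : A.obj.obj V) (b : B.obj.obj V) :
    (prod.fst : A ⨯ B ⟶ A).hom.app V (pairSec a b) = a := by
  have h := congrArg (fun m => m.hom.app V (etaSec J (𝟙 V.unop)))
    (prod.lift_fst (ofSec (V := V.unop) a) (ofSec (V := V.unop) b))
  exact h.trans (ofSec_etaSec (V := V.unop) a)

lemma snd_pairSec {V : Cᵒᵖ} (a : A.obj.obj V) (b : B.obj.obj V) :
    (prod.snd : A ⨯ B ⟶ B).hom.app V (pairSec a b) = b := by
  have h := congrArg (fun m => m.hom.app V (etaSec J (𝟙 V.unop)))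
    (prod.lift_snd (ofSec (V := V.unop) a) (ofSec (V := V.unop) b))
  exact h.trans (ofSec_etaSec (V := V.unop) b)

lemma subsingleton_of_isOpen {U : Sh J} (hU : SGA4.IsOpen U) (V : Cᵒᵖ) (u u' : U.obj.obj V) :
    u = u' := by
  apply ofSec_inj (V := V.unop)
  have : Mono (terminal.from U) := hU
  rw [← cancel_mono (terminal.from U)]
  apply terminal.hom_ext

lemma closed_hom_ext {U Z : Sh J} (hZ : SGA4.closedCompl U Z) {T : Sh J} (a : T ⟶ U)
    (g g' : T ⟶ Z) : g = g' := by
  have : IsIso (prod.fst : U ⨯ Z ⟶ U) := hZ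
  have h : prod.lift a g = prod.lift a g' := by
    rw [← cancel_mono (prod.fst : U ⨯ Z ⟶ U), prod.lift_fst, prod.lift_fst]
  have h2 : prod.lift a g ≫ (prod.snd : U ⨯ Z ⟶ Z) = prod.lift a g' ≫ prod.snd := by rw [h]
  rwa [prod.lift_snd, prod.lift_snd] at h2

/-- an injective and locally surjective morphism of sheaves is an isomorphism -/
lemma isIso_of_inj_of_jls {X Y : Sh J} (m : X ⟶ Y)
    (hinj : ∀ (V : Cᵒᵖ) (x x' : X.obj.obj V), m.hom.app V x = m.hom.app V x' → x = x')
    (hjls : JLS (fun _ : Unit => m)) : IsIso m := by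
  obtain ⟨d, hd, -⟩ := exists_unique_desc (fun _ : Unit => m) hjls (fun _ => 𝟙 X)
    (fun _ _ V x y hxy => hinj V x y hxy)
  refine ⟨⟨d, hd (), ?_⟩⟩
  apply je_of_jls _ hjls
  intro _
  rw [← Category.assoc, hd (), Category.id_comp, Category.comp_id]

/-- descent along a jointly locally surjective pair -/
lemma exists_unique_desc₂ {B T F₁ F₂ : Sh J} (π₁ : F₁ ⟶ B) (π₂ : F₂ ⟶ B)
    (hπ : ∀ (V : Cᵒᵖ) (s : B.obj.obj V), ∃ S ∈ J V.unop, ∀ ⦃W : C⦄ (f : W ⟶ V.unop), S f →
      (∃ t : F₁.obj.obj (op W), π₁.hom.app (op W) t = B.obj.map f.op s) ∨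
      (∃ t : F₂.obj.obj (op W), π₂.hom.app (op W) t = B.obj.map f.op s))
    (e₁ : F₁ ⟶ T) (e₂ : F₂ ⟶ T)
    (h11 : ∀ (V : Cᵒᵖ) (x y : F₁.obj.obj V), π₁.hom.app V x = π₁.hom.app V y →
      e₁.hom.app V x = e₁.hom.app V y)
    (h12 : ∀ (V : Cᵒᵖ) (x : F₁.obj.obj V) (y : F₂.obj.obj V),
      π₁.hom.app V x = π₂.hom.app V y → e₁.hom.app V x = e₂.hom.app V y)
    (h22 : ∀ (V : Cᵒᵖ) (x y : F₂.obj.obj V), π₂.hom.app V x = π₂.hom.app V y →
      e₂.hom.app V x = e₂.hom.app V y) :
    ∃! d : B ⟶ T, π₁ ≫ d = e₁ ∧ π₂ ≫ d = e₂ := by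
  let F : Bool → Sh J := fun b => cond b F₁ F₂
  let π : ∀ b, F b ⟶ B := fun b => Bool.rec (motive := fun b => F b ⟶ B) π₂ π₁ b
  let e : ∀ b, F b ⟶ T := fun b => Bool.rec (motive := fun b => F b ⟶ T) e₂ e₁ b
  have hjls : JLS π := by
    intro V s
    obtain ⟨S, hS, hloc⟩ := hπ V s
    refine J.superset_covering ?_ hS
    intro W f hf
    rcases hloc f hf with ⟨t, ht⟩ | ⟨t, ht⟩
    · exact ⟨true, t, ht⟩
    · exact ⟨false, t, ht⟩
  have he : ∀ (i j : Bool) (V : Cᵒᵖ) (x : (F i).obj.obj V) (y : (F j).obj.obj V),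
      (π i).hom.app V x = (π j).hom.app V y → (e i).hom.app V x = (e j).hom.app V y := by
    intro i j
    cases i <;> cases j
    · exact h22
    · intro V x y hxy
      exact (h12 V y x hxy.symm).symm
    · exact h12
    · exact h11
  obtain ⟨d, hd, hd'⟩ := exists_unique_desc π hjls e he
  refine ⟨d, ⟨hd true, hd false⟩, fun d' h' => hd' d' ?_⟩
  intro b
  cases b
  · exact h'.2
  · exact h'.1

end Pairs

section Closed

variable (U X : Sh J)

/-- the presheaf `V ↦ (U(V) = ∅ → X(V))` -/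
def clPre : Cᵒᵖ ⥤ Type u where
  obj V := (¬ Nonempty (U.obj.obj V)) → X.obj.obj V
  map {V W} f := ↾ fun φ h => X.obj.map f (φ (fun hV => h (hV.map (fun z => U.obj.map f z))))
  map_id V := by
    apply ConcreteCategory.hom_ext
    intro φ
    funext h
    change X.obj.map (𝟙 V) (φ _) = φ h
    rw [X.obj.map_id]
    rfl
  map_comp {V W W'} f g := by
    apply ConcreteCategory.hom_ext
    intro φ
    funext h
    change X.obj.map (f ≫ g) (φ _) = X.obj.map g (X.obj.map f (φ _))
    rw [X.obj.map_comp]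
    rfl

/-- the map `X ⟶ clPre U X` -/
def clη₀ : X.obj ⟶ clPre U X where
  app V := ↾ fun x _ => x
  naturality := by
    intro V W f
    rfl

/-- the map `U ⟶ clPre U X` -/
def clc₀ : U.obj ⟶ clPre U X where
  app V := ↾ fun u h => (h ⟨u⟩).elim
  naturality := by
    intro V W f
    apply ConcreteCategory.hom_ext
    intro u
    funext h
    exact (h ⟨U.obj.map f u⟩).elim

/-- the reflection of `X` in the closed complement of `U` -/
noncomputable def clSh : Sh J := (presheafToSheaf J (Type u)).obj (clPre U X)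

/-- the unit `X ⟶ clSh U X` -/
noncomputable def clη : X ⟶ clSh U X :=
  ObjectProperty.homMk (clη₀ U X ≫ toSheafify J (clPre U X))

/-- the map `U ⟶ clSh U X` -/
noncomputable def clc : U ⟶ clSh U X :=
  ObjectProperty.homMk (clc₀ U X ≫ toSheafify J (clPre U X))

lemma cl_subsingleton {V : Cᵒᵖ} (u : U.obj.obj V) (q q' : (clSh U X).obj.obj V) : q = q' := by
  have h1 := Presheaf.imageSieve_mem J (toSheafify J (clPre U X)) q
  have h2 := Presheaf.imageSieve_mem J (toSheafify J (clPre U X)) q'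
  apply ((isSheafT (clSh U X)).isSeparated _ (J.intersection_covering h1 h2)).ext
  rintro W f ⟨⟨φ, hφ⟩, ⟨φ', hφ'⟩⟩
  have e : φ = φ' := by
    funext h
    exact (h ⟨U.obj.map f.op u⟩).elim
  refine hφ.symm.trans (Eq.trans ?_ hφ')
  rw [e]

lemma clη_eq_local {V : Cᵒᵖ} (x x' : X.obj.obj V)
    (h : (clη U X).hom.app V x = (clη U X).hom.app V x') :
    ∃ S ∈ J V.unop, ∀ ⦃W : C⦄ (f : W ⟶ V.unop), S f →
      Nonempty (U.obj.obj (op W)) ∨ X.obj.map f.op x = X.obj.map f.op x' := by
  have hinj : Presheaf.IsLocallyInjective J (toSheafify J (clPre U X)) := inferInstance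
  have hS := hinj.equalizerSieve_mem (X := V) ((clη₀ U X).app V x) ((clη₀ U X).app V x') h
  refine ⟨_, hS, fun W f hf => ?_⟩
  by_cases hW : Nonempty (U.obj.obj (op W))
  · exact Or.inl hW
  · right
    have hf' : (clPre U X).map f.op ((clη₀ U X).app V x) =
        (clPre U X).map f.op ((clη₀ U X).app V x') := hf
    exact congrFun hf' hW

lemma cl_local_rep (V : Cᵒᵖ) (s : (clSh U X).obj.obj V) :
    ∃ S ∈ J V.unop, ∀ ⦃W : C⦄ (f : W ⟶ V.unop), S f →
      (∃ u : U.obj.obj (op W), (clc U X).hom.app (op W) u = (clSh U X).obj.map f.op s) ∨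
      (∃ x : X.obj.obj (op W), (clη U X).hom.app (op W) x = (clSh U X).obj.map f.op s) := by
  have hS := Presheaf.imageSieve_mem J (toSheafify J (clPre U X)) s
  refine ⟨_, hS, ?_⟩
  rintro W f ⟨φ, hφ⟩
  by_cases hW : Nonempty (U.obj.obj (op W))
  · obtain ⟨u⟩ := hW
    exact Or.inl ⟨u, cl_subsingleton U X u _ _⟩
  · right
    obtain ⟨φ', hφ'⟩ : ∃ φ' : (¬ Nonempty (U.obj.obj (op W))) → X.obj.obj (op W), φ' = φ :=
      ⟨φ, rfl⟩
    refine ⟨φ' hW, ?_⟩
    have e : (clη₀ U X).app (op W) (φ' hW) = φ := by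
      rw [← hφ']
      funext h'
      rfl
    refine Eq.trans ?_ hφ
    exact congrArg (fun z => (toSheafify J (clPre U X)).app (op W) z) e

lemma cl_comm : (prod.fst : U ⨯ X ⟶ U) ≫ clc U X = prod.snd ≫ clη U X := by
  ext V w
  exact cl_subsingleton U X ((prod.fst : U ⨯ X ⟶ U).hom.app V w) _ _

variable (hU : SGA4.IsOpen U)

include hU in
lemma cl_desc {T : Sh J} (a : U ⟶ T) (b : X ⟶ T)
    (hab : (prod.fst : U ⨯ X ⟶ U) ≫ a = prod.snd ≫ b) :
    ∃! d : clSh U X ⟶ T, clc U X ≫ d = a ∧ clη U X ≫ d = b := by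
  have h12 : ∀ (V : Cᵒᵖ) (u : U.obj.obj V) (x : X.obj.obj V),
      a.hom.app V u = b.hom.app V x := by
    intro V u x
    have := congrArg (fun m => m.hom.app V (pairSec u x)) hab
    change a.hom.app V ((prod.fst : U ⨯ X ⟶ U).hom.app V (pairSec u x)) =
      b.hom.app V ((prod.snd : U ⨯ X ⟶ X).hom.app V (pairSec u x)) at this
    rwa [fst_pairSec, snd_pairSec] at this
  refine exists_unique_desc₂ (clc U X) (clη U X) (cl_local_rep U X) a b ?_ ?_ ?_
  · intro V u u' _
    rw [subsingleton_of_isOpen hU V u u']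
  · intro V u x _
    exact h12 V u x
  · intro V x x' hxx'
    obtain ⟨S, hS, hloc⟩ := clη_eq_local U X x x' hxx'
    apply ((isSheafT T).isSeparated _ hS).ext
    intro W f hf
    rw [← NatTrans.naturality_apply b.hom f.op x, ← NatTrans.naturality_apply b.hom f.op x']
    rcases hloc f hf with ⟨⟨u⟩⟩ | h
    · rw [← h12 (op W) u, ← h12 (op W) u]
    · rw [h]

include hU in
lemma isPushout_cl :
    IsPushout (prod.fst : U ⨯ X ⟶ U) (prod.snd : U ⨯ X ⟶ X) (clc U X) (clη U X) := by
  refine IsPushout.of_isColimit' ⟨cl_comm U X⟩ (PushoutCocone.IsColimit.mk (cl_comm U X)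
    (fun s => (cl_desc U X hU s.inl s.inr s.condition).exists.choose)
    (fun s => (cl_desc U X hU s.inl s.inr s.condition).exists.choose_spec.1)
    (fun s => (cl_desc U X hU s.inl s.inr s.condition).exists.choose_spec.2)
    (fun s m h1 h2 => (cl_desc U X hU s.inl s.inr s.condition).unique ⟨h1, h2⟩
      (cl_desc U X hU s.inl s.inr s.condition).exists.choose_spec))

lemma cl_mem : SGA4.closedCompl U (clSh U X) := by
  change IsIso (prod.fst : U ⨯ clSh U X ⟶ U)
  have h : (prod.fst : U ⨯ clSh U X ⟶ U) ≫ clc U X = prod.snd := by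
    ext V w
    exact cl_subsingleton U X ((prod.fst : U ⨯ clSh U X ⟶ U).hom.app V w) _ _
  refine ⟨⟨prod.lift (𝟙 U) (clc U X), ?_, prod.lift_fst _ _⟩⟩
  apply Limits.prod.hom_ext
  · rw [Category.assoc, prod.lift_fst, Category.comp_id, Category.id_comp]
  · rw [Category.assoc, prod.lift_snd, h, Category.id_comp]

include hU in
lemma cl_univ {Z : Sh J} (hZ : SGA4.closedCompl U Z) (b : X ⟶ Z) :
    ∃! d : clSh U X ⟶ Z, clη U X ≫ d = b := by
  have : IsIso (prod.fst : U ⨯ Z ⟶ U) := hZ
  have hab : (prod.fst : U ⨯ X ⟶ U) ≫ (inv (prod.fst : U ⨯ Z ⟶ U) ≫ prod.snd) = prod.snd ≫ b :=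
    closed_hom_ext hZ prod.fst _ _
  obtain ⟨d, ⟨hd1, hd2⟩, hd3⟩ := cl_desc U X hU _ b hab
  exact ⟨d, hd2, fun d' hd' => hd3 d' ⟨closed_hom_ext hZ (𝟙 U) _ _, hd'⟩⟩

end Closed

section Adj

variable (U : Sh J) (hU : SGA4.IsOpen U)

/-- the reflection as an object of the closed complement -/
noncomputable def clObj (X : Sh J) : (SGA4.closedCompl U).FullSubcategory :=
  ⟨clSh U X, cl_mem U X⟩

/-- the universal property of the reflection, as an equivalence -/
noncomputable def clEquiv (X : Sh J) (Z : (SGA4.closedCompl U).FullSubcategory) :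
    (clObj U X ⟶ Z) ≃ (X ⟶ (SGA4.closedCompl U).ι.obj Z) where
  toFun d := clη U X ≫ d.hom
  invFun b := ObjectProperty.homMk (cl_univ U X hU Z.property b).exists.choose
  left_inv d := by
    apply ObjectProperty.hom_ext
    exact (cl_univ U X hU Z.property (clη U X ≫ d.hom)).unique
      (cl_univ U X hU Z.property (clη U X ≫ d.hom)).exists.choose_spec rfl
  right_inv b := (cl_univ U X hU Z.property b).exists.choose_spec

lemma clEquiv_nat (X : Sh J) (Y Y' : (SGA4.closedCompl U).FullSubcategory) (g : Y ⟶ Y')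
    (h : clObj U X ⟶ Y) :
    clEquiv U hU X Y' (h ≫ g) = clEquiv U hU X Y h ≫ (SGA4.closedCompl U).ι.map g := by
  change clη U X ≫ (h.hom ≫ g.hom) = (clη U X ≫ h.hom) ≫ g.hom
  exact (Category.assoc _ _ _).symm

/-- the reflector onto the closed complement -/
noncomputable def clL : Sh J ⥤ (SGA4.closedCompl U).FullSubcategory :=
  Adjunction.leftAdjointOfEquiv (clEquiv U hU) (fun X Y Y' g h => clEquiv_nat U hU X Y Y' g h)

/-- the reflector is left adjoint to the inclusion -/
noncomputable def clAdj : clL U hU ⊣ (SGA4.closedCompl U).ι :=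
  Adjunction.adjunctionOfEquivLeft (clEquiv U hU)
    (fun X Y Y' g h => clEquiv_nat U hU X Y Y' g h)

lemma clL_map_hom {X Y : Sh J} (m : X ⟶ Y) :
    clη U X ≫ ((clL U hU).map m).hom = m ≫ clη U Y := by
  have := (clEquiv U hU X (clObj U Y)).apply_symm_apply
    (m ≫ clEquiv U hU Y (clObj U Y) (𝟙 _))
  refine this.trans ?_
  change m ≫ clη U Y ≫ 𝟙 _ = m ≫ clη U Y
  rw [Category.comp_id]

/-- the functor `X ↦ clPre U X` -/
def clPreF : Sh J ⥤ (Cᵒᵖ ⥤ Type u) where
  obj X := clPre U X
  map {X Y} m :=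
    { app := fun V => ↾ fun (φ : (¬ Nonempty (U.obj.obj V)) → X.obj.obj V) =>
        (fun h => m.hom.app V (φ h) : (¬ Nonempty (U.obj.obj V)) → Y.obj.obj V)
      naturality := by
        intro V W f
        apply ConcreteCategory.hom_ext
        intro φ
        funext h
        exact NatTrans.naturality_apply m.hom f _ }
  map_id X := by
    ext V φ
    rfl
  map_comp m m' := by
    ext V φ
    rfl

lemma clη_nat {X Y : Sh J} (m : X ⟶ Y) :
    clη U X ≫ (presheafToSheaf J (Type u)).map ((clPreF U).map m) = m ≫ clη U Y := by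
  apply ObjectProperty.hom_ext
  change (clη₀ U X ≫ toSheafify J (clPre U X)) ≫ sheafifyMap J ((clPreF U).map m) =
    m.hom ≫ clη₀ U Y ≫ toSheafify J (clPre U Y)
  have h1 := toSheafify_naturality J ((clPreF U).map m)
  have h2 : clη₀ U X ≫ (clPreF U).map m = m.hom ≫ clη₀ U Y := rfl
  have h3 : (clη₀ U X ≫ toSheafify J (clPre U X)) ≫ sheafifyMap J ((clPreF U).map m) =
      (clη₀ U X ≫ (clPreF U).map m) ≫ toSheafify J (clPre U Y) :=
    (Category.assoc _ _ _).trans ((congrArg (fun z => clη₀ U X ≫ z) h1.symm).trans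
      (Category.assoc _ _ _).symm)
  exact h3.trans ((congrArg (fun z => z ≫ toSheafify J (clPre U Y)) h2).trans
    (Category.assoc _ _ _))

/-- the reflector, followed by the inclusion, is sheafification of `clPreF` -/
noncomputable def clLιIso :
    clL U hU ⋙ (SGA4.closedCompl U).ι ≅ clPreF U ⋙ presheafToSheaf J (Type u) :=
  NatIso.ofComponents (fun X => Iso.refl _) (by
    intro X Y m
    change ((clL U hU).map m).hom ≫ 𝟙 _ =
      𝟙 _ ≫ (presheafToSheaf J (Type u)).map ((clPreF U).map m)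
    rw [Category.comp_id, Category.id_comp]
    exact (cl_univ U X hU (cl_mem U Y) (m ≫ clη U Y)).unique (clL_map_hom U hU m)
      (clη_nat U m))

/-- evaluation of `clPreF` at an object is a corepresentable functor applied to sections -/
noncomputable def clEvalIso (V : Cᵒᵖ) :
    clPreF U ⋙ (evaluation Cᵒᵖ (Type u)).obj V ≅
      (sheafToPresheaf J (Type u) ⋙ (evaluation Cᵒᵖ (Type u)).obj V) ⋙
        coyoneda.obj (op (ULift.{u} (PLift (¬ Nonempty (U.obj.obj V))))) :=
  NatIso.ofComponents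
    (fun X =>
      { hom := ↾ fun (φ : (¬ Nonempty (U.obj.obj V)) → X.obj.obj V) =>
          (↾ fun (p : ULift.{u} (PLift (¬ Nonempty (U.obj.obj V)))) => φ p.down.down :
            ULift.{u} (PLift (¬ Nonempty (U.obj.obj V))) ⟶ X.obj.obj V)
        inv := ↾ fun (ψ : ULift.{u} (PLift (¬ Nonempty (U.obj.obj V))) ⟶ X.obj.obj V) =>
          (fun h => ψ ⟨⟨h⟩⟩ : (¬ Nonempty (U.obj.obj V)) → X.obj.obj V)
        hom_inv_id := by
          apply ConcreteCategory.hom_ext
          intro φ
          rfl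
        inv_hom_id := by
          apply ConcreteCategory.hom_ext
          intro ψ
          rfl })
    (by
      intro X Y m
      apply ConcreteCategory.hom_ext
      intro φ
      rfl)

instance clPreF_preservesLimitsOfShape (K : Type) [SmallCategory K] :
    PreservesLimitsOfShape K (clPreF U) :=
  preservesLimitsOfShape_of_evaluation _ _
    (fun V => preservesLimitsOfShape_of_natIso (clEvalIso U V).symm)

instance clPreF_preservesFiniteLimits : PreservesFiniteLimits (clPreF U) :=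
  ⟨fun _ _ _ => inferInstance⟩

lemma clL_preservesFiniteLimits : PreservesFiniteLimits (clL U hU) := by
  have : PreservesFiniteLimits (clPreF U ⋙ presheafToSheaf J (Type u)) :=
    comp_preservesFiniteLimits _ _
  have : PreservesFiniteLimits (clL U hU ⋙ (SGA4.closedCompl U).ι) :=
    preservesFiniteLimits_of_natIso (clLιIso U hU).symm
  refine ⟨fun K _ _ => ?_⟩
  exact preservesLimitsOfShape_of_reflects_of_preserves (clL U hU) (SGA4.closedCompl U).ι

include hU in
theorem closed_reflective :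
    ∃ (L : Sheaf J (Type u) ⥤ (SGA4.closedCompl U).FullSubcategory)
      (_ : L ⊣ (SGA4.closedCompl U).ι),
      PreservesFiniteLimits L ∧
      ∀ X : Sheaf J (Type u), Nonempty (((SGA4.closedCompl U).ι).obj (L.obj X) ≅
        pushout (prod.fst : U ⨯ X ⟶ U) (prod.snd : U ⨯ X ⟶ X)) :=
  ⟨clL U hU, clAdj U hU, clL_preservesFiniteLimits U hU,
    fun X => ⟨(isPushout_cl U X hU).isoPushout⟩⟩

include hU in
theorem isIso_iff_open_closed
    (L : Sheaf J (Type u) ⥤ (SGA4.closedCompl U).FullSubcategory)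
    (adj : L ⊣ (SGA4.closedCompl U).ι) {X Y : Sheaf J (Type u)} (m : X ⟶ Y) :
    IsIso m ↔ IsIso ((Over.star U).map m) ∧ IsIso (L.map m) := by
  constructor
  · intro h
    exact ⟨inferInstance, inferInstance⟩
  · rintro ⟨h1, h2⟩
    have h1' : IsIso (prod.map (𝟙 U) m) := by
      rw [← Over.star_map_left]
      exact (Over.forget U).map_isIso ((Over.star U).map m)
    have S1 : ∀ (V : Cᵒᵖ) (u : U.obj.obj V) (x x' : X.obj.obj V),
        m.hom.app V x = m.hom.app V x' → x = x' := by
      intro V u x x' hxx'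
      have e : prod.lift (ofSec (V := V.unop) u) (ofSec (V := V.unop) x) =
          prod.lift (ofSec (V := V.unop) u) (ofSec (V := V.unop) x') := by
        rw [← cancel_mono (prod.map (𝟙 U) m), prod.lift_map, prod.lift_map]
        congr 1
        rw [ofSec_comp, ofSec_comp]
        exact congrArg (ofSec (V := V.unop)) hxx'
      have e2 : prod.lift (ofSec (V := V.unop) u) (ofSec (V := V.unop) x) ≫ prod.snd =
          prod.lift (ofSec (V := V.unop) u) (ofSec (V := V.unop) x') ≫ prod.snd := by rw [e]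
      rw [prod.lift_snd, prod.lift_snd] at e2
      exact ofSec_inj (V := V.unop) _ _ e2
    have S2 : ∀ (V : Cᵒᵖ) (u : U.obj.obj V) (y : Y.obj.obj V),
        ∃ x : X.obj.obj V, m.hom.app V x = y := by
      intro V u y
      obtain ⟨p, hp⟩ : ∃ p : eps J V.unop ⟶ U ⨯ X, p ≫ prod.map (𝟙 U) m =
          prod.lift (ofSec (V := V.unop) u) (ofSec (V := V.unop) y) :=
        ⟨prod.lift (ofSec (V := V.unop) u) (ofSec (V := V.unop) y) ≫ inv (prod.map (𝟙 U) m), by
          rw [Category.assoc, IsIso.inv_hom_id, Category.comp_id]⟩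
      refine ⟨(p ≫ prod.snd).hom.app V (etaSec J (𝟙 V.unop)), ?_⟩
      have e : (p ≫ prod.snd) ≫ m = ofSec (V := V.unop) y := by
        calc (p ≫ prod.snd) ≫ m = p ≫ (prod.map (𝟙 U) m ≫ prod.snd) := by
              rw [prod.map_snd, Category.assoc]
          _ = (p ≫ prod.map (𝟙 U) m) ≫ prod.snd := (Category.assoc _ _ _).symm
          _ = prod.lift (ofSec (V := V.unop) u) (ofSec (V := V.unop) y) ≫ prod.snd := by rw [hp]
          _ = ofSec (V := V.unop) y := prod.lift_snd _ _
      have e2 := congrArg (fun g => g.hom.app V (etaSec J (𝟙 V.unop))) e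
      exact e2.trans (ofSec_etaSec (V := V.unop) y)
    have Hsurj : ∀ (Z : (SGA4.closedCompl U).FullSubcategory) (b : X ⟶ Z.obj),
        ∃ b' : Y ⟶ Z.obj, m ≫ b' = b := by
      intro Z b
      refine ⟨adj.homEquiv Y Z (inv (L.map m) ≫ (adj.homEquiv X Z).symm b), ?_⟩
      rw [← adj.homEquiv_naturality_left, IsIso.hom_inv_id_assoc, Equiv.apply_symm_apply]
    have Hinj : ∀ (Z : (SGA4.closedCompl U).FullSubcategory) (b₁ b₂ : Y ⟶ Z.obj),
        m ≫ b₁ = m ≫ b₂ → b₁ = b₂ := by
      intro Z b₁ b₂ h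
      have h3 := congrArg (adj.homEquiv X Z).symm h
      rw [adj.homEquiv_naturality_left_symm, adj.homEquiv_naturality_left_symm,
        cancel_epi] at h3
      exact (adj.homEquiv Y Z).symm.injective h3
    obtain ⟨g, hg⟩ : ∃ g : Y ⟶ clSh U X, m ≫ g = clη U X := Hsurj (clObj U X) (clη U X)
    obtain ⟨Qm, hQm, -⟩ := cl_univ U X hU (cl_mem U Y) (m ≫ clη U Y)
    have hgQ : g ≫ Qm = clη U Y :=
      Hinj (clObj U Y) _ _
        ((Category.assoc m g Qm).symm.trans ((congrArg (fun z => z ≫ Qm) hg).trans hQm))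
    have hg' : ∀ (V : Cᵒᵖ) (x : X.obj.obj V),
        g.hom.app V (m.hom.app V x) = (clη U X).hom.app V x :=
      fun V x => congrArg (fun k => k.hom.app V x) hg
    have hQm' : ∀ (V : Cᵒᵖ) (x : X.obj.obj V),
        Qm.hom.app V ((clη U X).hom.app V x) = (clη U Y).hom.app V (m.hom.app V x) :=
      fun V x => congrArg (fun k => k.hom.app V x) hQm
    have hgQ' : ∀ (V : Cᵒᵖ) (y : Y.obj.obj V),
        Qm.hom.app V (g.hom.app V y) = (clη U Y).hom.app V y :=
      fun V y => congrArg (fun k => k.hom.app V y) hgQ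
    have hinj : ∀ (V : Cᵒᵖ) (x x' : X.obj.obj V),
        m.hom.app V x = m.hom.app V x' → x = x' := by
      intro V x x' hxx'
      have h3 : (clη U X).hom.app V x = (clη U X).hom.app V x' := by
        rw [← hg', ← hg', hxx']
      obtain ⟨S, hS, hloc⟩ := clη_eq_local U X x x' h3
      apply ((isSheafT X).isSeparated _ hS).ext
      intro W f hf
      rcases hloc f hf with ⟨⟨u⟩⟩ | h
      · apply S1 (op W) u
        exact (NatTrans.naturality_apply m.hom f.op x).trans
          ((congrArg (fun z => Y.obj.map f.op z) hxx').trans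
            (NatTrans.naturality_apply m.hom f.op x').symm)
      · exact h
    have hjls : JLS (fun _ : Unit => m) := by
      intro V y
      obtain ⟨S, hS, hloc⟩ := cl_local_rep U X V (g.hom.app V y)
      refine J.transitive hS _ ?_
      intro W f hf
      rcases hloc f hf with ⟨u, -⟩ | ⟨x, hx⟩
      · obtain ⟨x, hx⟩ := S2 (op W) u (Y.obj.map f.op y)
        rw [Sieve.pullback_eq_top_of_mem _
          (show ((imgSub fun _ : Unit => m).sieveOfSection y) f from ⟨(), x, hx⟩)]
        exact J.top_mem _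
      · have h4 : (clη U Y).hom.app (op W) (m.hom.app (op W) x) =
            (clη U Y).hom.app (op W) (Y.obj.map f.op y) :=
          (hQm' (op W) x).symm.trans ((congrArg (fun z => Qm.hom.app (op W) z) hx).trans
            ((congrArg (fun z => Qm.hom.app (op W) z)
              (NatTrans.naturality_apply g.hom f.op y).symm).trans (hgQ' (op W) _)))
        obtain ⟨S', hS', hloc'⟩ := clη_eq_local U Y _ _ h4
        refine J.superset_covering ?_ hS'
        intro W' f' hf'
        rcases hloc' f' hf' with ⟨⟨u⟩⟩ | h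
        · obtain ⟨x', hx'⟩ := S2 (op W') u (Y.obj.map (f' ≫ f).op y)
          exact ⟨(), x', hx'⟩
        · refine ⟨(), X.obj.map f'.op x, ?_⟩
          exact (NatTrans.naturality_apply m.hom f'.op x).trans
            (h.trans (map_map_app Y f' f y))
    exact isIso_of_inj_of_jls m hinj hjls

end Adj

end H2Topos
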