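import Groth.Agent.Lib.helper2.Topos6
import Groth.Agent.Lib.helper2.Glue
import Mathlib.CategoryTheory.Adjunction.Triple
import Mathlib.CategoryTheory.Adjunction.Limits

/-!
# helper2: gluing a sheaf topos from an open and its closed complement
-/

universe u

open CategoryTheory CategoryTheory.Limits Opposite

namespace H2Topos

open ToposFin

variable {C : Type u} [SmallCategory C] {J : GrothendieckTopology C}

lemma hom_ext_of_isOpen {U : Sh J} (hU : SGA4.IsOpen U) {T : Sh J} (a b : T ⟶ U) : a = b := by
  have : Mono (terminal.from U) := hU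
  rw [← cancel_mono (terminal.from U)]
  apply terminal.hom_ext

lemma isIso_forgetAdjStar_unit {U : Sh J} (hU : SGA4.IsOpen U) :
    IsIso (Over.forgetAdjStar U).unit := by
  have h : ∀ A : Over U, IsIso ((Over.forgetAdjStar U).unit.app A) := by
    intro A
    have h1 : IsIso ((Over.forget U).map ((Over.forgetAdjStar U).unit.app A)) := by
      have key : IsIso (prod.lift A.hom (𝟙 A.left)) := by
        refine ⟨⟨prod.snd, prod.lift_snd _ _, ?_⟩⟩
        apply Limits.prod.hom_ext
        · exact hom_ext_of_isOpen hU _ _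
        · rw [Category.assoc, prod.lift_snd, Category.comp_id, Category.id_comp]
      rw [← Over.forgetAdjStar_unit_app_left] at key
      exact key
    exact isIso_of_reflects_iso _ (Over.forget U)
  exact NatIso.isIso_of_isIso_app _

theorem gluing (U : Sh J) (hU : SGA4.IsOpen U) [(Over.star U).IsLeftAdjoint]
    (L : Sheaf J (Type u) ⥤ (SGA4.closedCompl U).FullSubcategory)
    (adj : L ⊣ (SGA4.closedCompl U).ι) :
    Nonempty (Sheaf J (Type u) ≌
      Comma (𝟭 (SGA4.closedCompl U).FullSubcategory) ((Over.star U).rightAdjoint ⋙ L)) := by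
  have hcounit : IsIso (Adjunction.ofIsLeftAdjoint (Over.star U)).counit := by
    let t : Adjunction.Triple (Over.forget U) (Over.star U) (Over.star U).rightAdjoint :=
      ⟨Over.forgetAdjStar U, Adjunction.ofIsLeftAdjoint (Over.star U)⟩
    have := isIso_forgetAdjStar_unit hU
    exact t.isIso_unit_iff_isIso_counit.1 this
  have hL : PreservesFiniteLimits L := by
    have := clL_preservesFiniteLimits U hU
    exact preservesFiniteLimits_of_natIso ((clAdj U hU).leftAdjointUniq adj)
  have hS : PreservesLimitsOfSize.{0, 0} (Over.star U) :=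
    (Over.forgetAdjStar U).rightAdjoint_preservesLimits
  have hterm : ∀ (Z Z' : (SGA4.closedCompl U).FullSubcategory)
      (f : (SGA4.closedCompl U).ι.obj Z ⟶ (SGA4.closedCompl U).ι.obj Z'),
      IsIso ((Over.star U).map f) := by
    intro Z Z' f
    have hZ : IsIso (prod.fst : U ⨯ Z.obj ⟶ U) := Z.property
    have hZ' : IsIso (prod.fst : U ⨯ Z'.obj ⟶ U) := Z'.property
    have h1 : IsIso ((Over.forget U).map ((Over.star U).map f)) := by
      have e : prod.map (𝟙 U) f ≫ (prod.fst : U ⨯ Z'.obj ⟶ U) =
          (prod.fst : U ⨯ Z.obj ⟶ U) ≫ 𝟙 U := prod.map_fst _ _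
      have h2 : IsIso (prod.map (𝟙 U) f ≫ (prod.fst : U ⨯ Z'.obj ⟶ U)) := by
        rw [e]
        infer_instance
      have h3 : IsIso (prod.map (𝟙 U) f) :=
        IsIso.of_isIso_comp_right (prod.map (𝟙 U) f) (prod.fst : U ⨯ Z'.obj ⟶ U)
      rw [← Over.star_map_left] at h3
      exact h3
    exact isIso_of_reflects_iso _ (Over.forget U)
  exact H2Glue.glue_equiv L (SGA4.closedCompl U).ι adj (Over.star U) (Over.star U).rightAdjoint
    (Adjunction.ofIsLeftAdjoint (Over.star U)) hterm
    (fun m h1 h2 => (isIso_iff_open_closed U hU L adj m).2 ⟨h1, h2⟩)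

end H2Topos
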