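import Groth.Agent.Lib.helper2.Topos5
import Mathlib.CategoryTheory.Adjunction.Limits

/-!
# helper2: a left exact functor between sheaf topoi preserving epimorphic families is a left adjoint
-/

universe u

set_option linter.unusedSectionVars false

open CategoryTheory CategoryTheory.Limits Opposite

namespace H2Topos

open ToposFin

variable {C D : Type u} [SmallCategory C] [SmallCategory D] {J : GrothendieckTopology C}
  {K : GrothendieckTopology D}

section Basic

lemma epsMap_ofSec {V W : C} {T : Sh J} (g : W ⟶ V) (t : T.obj.obj (op V)) :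
    epsMap J g ≫ ofSec t = ofSec (T.obj.map g.op t) := by
  apply eps_hom_ext
  change (ofSec t).hom.app (op W) ((epsMap J g).hom.app (op W) (etaSec J (𝟙 W))) =
    (ofSec (T.obj.map g.op t)).hom.app (op W) (etaSec J (𝟙 W))
  rw [epsMap_etaSec, ofSec_etaSec, Category.id_comp]
  have h := NatTrans.naturality_apply (ofSec t).hom g.op (etaSec J (𝟙 V))
  rw [map_etaSec, Category.comp_id, ofSec_etaSec] at h
  exact h

lemma je_ofSec (X : Sh J) : JE (fun x : Σ V : C, X.obj.obj (op V) => ofSec x.2) := by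
  intro T' a b hab
  ext U t
  have h3 : a.hom.app U ((ofSec (V := U.unop) t).hom.app U (etaSec J (𝟙 U.unop))) =
      b.hom.app U ((ofSec (V := U.unop) t).hom.app U (etaSec J (𝟙 U.unop))) :=
    ConcreteCategory.congr_hom
      (congr_app ((sheafToPresheaf J _).congr_map (hab ⟨U.unop, t⟩)) U) (etaSec J (𝟙 U.unop))
  rw [ofSec_etaSec] at h3
  exact h3

/-- the fibre product of two charts is covered by charts -/
lemma je_nice {X : Sh J} {V V' : C} (m : eps J V ⟶ X) (m' : eps J V' ⟶ X) :
    JE (fun n : Σ W : C, {gg : (W ⟶ V) × (W ⟶ V') // epsMap J gg.1 ≫ m = epsMap J gg.2 ≫ m'} =>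
      (pullback.lift (epsMap J n.2.1.1) (epsMap J n.2.1.2) n.2.2 : eps J n.1 ⟶ pullback m m')) := by
  apply je_of_jls
  intro W₀ t
  have h1 := Presheaf.imageSieve_mem J (toSheafify J (yoneda.obj V))
    ((pullback.fst m m').hom.app W₀ t)
  have h2 := Presheaf.imageSieve_mem J (toSheafify J (yoneda.obj V'))
    ((pullback.snd m m').hom.app W₀ t)
  refine J.superset_covering ?_ (J.intersection_covering h1 h2)
  rintro W' h₀ ⟨⟨g, hg⟩, ⟨g', hg'⟩⟩
  have e1 : etaSec J g = (pullback.fst m m').hom.app (op W') ((pullback m m').obj.map h₀.op t) :=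
    hg.trans (NatTrans.naturality_apply (pullback.fst m m').hom h₀.op t).symm
  have e2 : etaSec J g' =
      (pullback.snd m m').hom.app (op W') ((pullback m m').obj.map h₀.op t) :=
    hg'.trans (NatTrans.naturality_apply (pullback.snd m m').hom h₀.op t).symm
  have hcomm : epsMap J g ≫ m = epsMap J g' ≫ m' := by
    apply eps_hom_ext
    change m.hom.app (op W') ((epsMap J g).hom.app (op W') (etaSec J (𝟙 W'))) =
      m'.hom.app (op W') ((epsMap J g').hom.app (op W') (etaSec J (𝟙 W')))
    rw [epsMap_etaSec, epsMap_etaSec, Category.id_comp, Category.id_comp, e1, e2]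
    exact pullback_cond_app m m' (op W') _
  refine ⟨⟨W', ⟨(g, g'), hcomm⟩⟩, etaSec J (𝟙 W'), ?_⟩
  have hsq := (IsPullback.of_hasPullback m m').map (secF J (op W'))
  refine Types.ext_of_isPullback hsq
    (?_ : (pullback.fst m m').hom.app (op W') _ = (pullback.fst m m').hom.app (op W') _)
    (?_ : (pullback.snd m m').hom.app (op W') _ = (pullback.snd m m').hom.app (op W') _)
  · rw [← e1]
    have h3 := congrArg (fun k => k.hom.app (op W') (etaSec J (𝟙 W')))
      (pullback.lift_fst (epsMap J g) (epsMap J g') hcomm)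
    refine h3.trans ((epsMap_etaSec _ _).trans ?_)
    rw [Category.id_comp]
  · rw [← e2]
    have h3 := congrArg (fun k => k.hom.app (op W') (etaSec J (𝟙 W')))
      (pullback.lift_snd (epsMap J g) (epsMap J g') hcomm)
    refine h3.trans ((epsMap_etaSec _ _).trans ?_)
    rw [Category.id_comp]

end Basic

section Adj

variable (f : Sh J ⥤ Sh K) [PreservesFiniteLimits f]
  (hf : SGA4.PreservesEpiFamilies.{u + 1, u + 1, u} f)

include hf in
lemma je_map {X : Sh J} {ι : Type u} {F : ι → Sh J} (π : ∀ i, F i ⟶ X) (h : JE π) :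
    JE (fun i => f.map (π i)) :=
  fun T a b hab => hf ι X F π (fun _ a b h' => h a b h') T a b hab

include hf in
/-- descent of morphisms out of `f X` along a covering of `X` by charts -/
lemma exists_unique_of_charts {X : Sh J} {ι : Type u} (V : ι → C) (m : ∀ i, eps J (V i) ⟶ X)
    (hm : JE m) {Y : Sh K} (ψ : ∀ i, f.obj (eps J (V i)) ⟶ Y)
    (hψ : ∀ (i i' : ι) (W : C) (g : W ⟶ V i) (g' : W ⟶ V i'),
      epsMap J g ≫ m i = epsMap J g' ≫ m i' →
        f.map (epsMap J g) ≫ ψ i = f.map (epsMap J g') ≫ ψ i') :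
    ∃! φ : f.obj X ⟶ Y, ∀ i, f.map (m i) ≫ φ = ψ i := by
  apply exists_unique_desc (fun i => f.map (m i)) (jls_of_je _ (je_map f hf m hm)) ψ
  intro i i' W a a' haa'
  have hpb := (IsPullback.of_hasPullback (m i) (m i')).map f
  have hsq := hpb.map (secF K W)
  obtain ⟨c, hc1, hc2⟩ := Types.exists_of_isPullback hsq a a' haa'
  have hN := jls_of_je _ (je_map f hf _ (je_nice (m i) (m i'))) W c
  apply ((isSheafT Y).isSeparated _ hN).ext
  rintro W' h ⟨n, b, hb⟩
  have h1 : (f.map (pullback.fst (m i) (m i'))).hom.app W c = a := hc1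
  have h1' : (f.map (pullback.snd (m i) (m i'))).hom.app W c = a' := hc2
  have h2 := NatTrans.naturality_apply (f.map (pullback.fst (m i) (m i'))).hom h.op c
  have h2' := NatTrans.naturality_apply (f.map (pullback.snd (m i) (m i'))).hom h.op c
  have h3 := congrArg (fun k => k.hom.app (op W') b) ((f.map_comp _ _).symm.trans
    (congrArg (fun z => f.map z)
      (pullback.lift_fst (epsMap J n.2.1.1) (epsMap J n.2.1.2) n.2.2)))
  have h3' := congrArg (fun k => k.hom.app (op W') b) ((f.map_comp _ _).symm.trans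
    (congrArg (fun z => f.map z)
      (pullback.lift_snd (epsMap J n.2.1.1) (epsMap J n.2.1.2) n.2.2)))
  have e1 : (f.obj (eps J (V i))).obj.map h.op a =
      (f.map (epsMap J n.2.1.1)).hom.app (op W') b :=
    (congrArg (fun z => (f.obj (eps J (V i))).obj.map h.op z) h1.symm).trans
      (h2.symm.trans ((congrArg (fun z =>
        (f.map (pullback.fst (m i) (m i'))).hom.app (op W') z) hb.symm).trans h3))
  have e2 : (f.obj (eps J (V i'))).obj.map h.op a' =
      (f.map (epsMap J n.2.1.2)).hom.app (op W') b :=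
    (congrArg (fun z => (f.obj (eps J (V i'))).obj.map h.op z) h1'.symm).trans
      (h2'.symm.trans ((congrArg (fun z =>
        (f.map (pullback.snd (m i) (m i'))).hom.app (op W') z) hb.symm).trans h3'))
  have e3 := congrArg (fun k => k.hom.app (op W') b) (hψ i i' n.1 n.2.1.1 n.2.1.2 n.2.2)
  exact (NatTrans.naturality_apply (ψ i).hom h.op a).symm.trans
    ((congrArg (fun z => (ψ i).hom.app (op W') z) e1).trans (e3.trans
      ((congrArg (fun z => (ψ i').hom.app (op W') z) e2.symm).trans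
        (NatTrans.naturality_apply (ψ i').hom h.op a'))))

/-- the right adjoint on objects, as a presheaf -/
noncomputable def gPre (Y : Sh K) : Cᵒᵖ ⥤ Type u := (epsF J ⋙ f).op ⋙ yoneda.obj Y

lemma gPre_map (Y : Sh K) {V W : C} (g : W ⟶ V) (t : f.obj (eps J V) ⟶ Y) :
    (gPre f Y).map g.op t = f.map (epsMap J g) ≫ t := rfl

include hf in
lemma gPre_isSheaf (Y : Sh K) : Presheaf.IsSheaf J (gPre f Y) := by
  rw [isSheaf_iff_isSheaf_of_type]
  intro V₀ S hS φ hφ
  have hres : ∀ {W W' : C} (g : W ⟶ V₀) (hg : S g) (h : W' ⟶ W),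
      f.map (epsMap J h) ≫ φ g hg = φ (h ≫ g) (S.downward_closed hg h) := by
    intro W W' g hg h
    exact (Presieve.FamilyOfElements.comp_of_compatible S hφ hg h).symm
  have hcongr : ∀ {W : C} (g₁ g₂ : W ⟶ V₀) (h₁ : S g₁) (h₂ : S g₂), g₁ = g₂ →
      φ g₁ h₁ = φ g₂ h₂ := by
    intro W g₁ g₂ h₁ h₂ e
    subst e
    rfl
  have hLI : ∀ {W : C} (g₁ g₂ : W ⟶ V₀) (h₁ : S g₁) (h₂ : S g₂),
      etaSec J g₁ = etaSec J g₂ → φ g₁ h₁ = φ g₂ h₂ := by
    intro W g₁ g₂ h₁ h₂ he
    have hinj : Presheaf.IsLocallyInjective J (toSheafify J (yoneda.obj V₀)) := inferInstance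
    have hE := hinj.equalizerSieve_mem (X := op W) g₁ g₂ he
    have hje : JE (fun k : (Σ W' : C, {h : W' ⟶ W //
        (Presheaf.equalizerSieve (F := yoneda.obj V₀) (X := op W) g₁ g₂) h}) =>
          epsMap J k.2.1) := by
      apply je_epsMap_of_cover (fun k : (Σ W' : C, {h : W' ⟶ W //
        (Presheaf.equalizerSieve (F := yoneda.obj V₀) (X := op W) g₁ g₂) h}) => k.1)
        (fun k => k.2.1)
      refine J.superset_covering ?_ hE
      intro W' h hh
      exact (Sieve.mem_ofArrows_iff _ _ _).2 ⟨⟨W', h, hh⟩, 𝟙 _, (Category.id_comp _).symm⟩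
    apply je_map f hf _ hje
    intro k
    change f.map (epsMap J k.2.1) ≫ φ g₁ h₁ = f.map (epsMap J k.2.1) ≫ φ g₂ h₂
    rw [hres, hres]
    exact hcongr _ _ _ _ k.2.2
  have hm : JE (fun i : (Σ W : C, {g : W ⟶ V₀ // S g}) => epsMap J i.2.1) := by
    apply je_epsMap_of_cover (fun i : (Σ W : C, {g : W ⟶ V₀ // S g}) => i.1) (fun i => i.2.1)
    refine J.superset_covering ?_ hS
    intro W g hg
    exact (Sieve.mem_ofArrows_iff _ _ _).2 ⟨⟨W, g, hg⟩, 𝟙 _, (Category.id_comp _).symm⟩
  obtain ⟨t, ht, huniq⟩ := exists_unique_of_charts f hf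
    (fun i : (Σ W : C, {g : W ⟶ V₀ // S g}) => i.1) (fun i => epsMap J i.2.1) hm
    (fun i => φ i.2.1 i.2.2) (by
      intro i i' W g g' hgg'
      rw [hres, hres]
      apply hLI
      have h3 := congrArg (fun k => k.hom.app (op W) (etaSec J (𝟙 W))) hgg'
      change (epsMap J i.2.1).hom.app (op W) ((epsMap J g).hom.app (op W) (etaSec J (𝟙 W))) =
        (epsMap J i'.2.1).hom.app (op W) ((epsMap J g').hom.app (op W) (etaSec J (𝟙 W))) at h3
      rw [epsMap_etaSec, epsMap_etaSec, epsMap_etaSec, epsMap_etaSec, Category.id_comp,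
        Category.id_comp] at h3
      exact h3)
  refine ⟨t, ?_, ?_⟩
  · intro W g hg
    exact ht ⟨W, g, hg⟩
  · intro t' ht'
    exact huniq t' (fun i => ht' i.2.1 i.2.2)

/-- the right adjoint on objects -/
noncomputable def gSh (Y : Sh K) : Sh J := ⟨gPre f Y, gPre_isSheaf f hf Y⟩

lemma compat_of_nat {X : Sh J} {Y : Sh K} (θ : X ⟶ gSh f hf Y)
    (i i' : Σ V : C, X.obj.obj (op V)) (W : C) (g : W ⟶ i.1) (g' : W ⟶ i'.1)
    (h : epsMap J g ≫ ofSec i.2 = epsMap J g' ≫ ofSec i'.2) :
    f.map (epsMap J g) ≫ θ.hom.app (op i.1) i.2 =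
      f.map (epsMap J g') ≫ θ.hom.app (op i'.1) i'.2 := by
  rw [epsMap_ofSec, epsMap_ofSec] at h
  have h' := ofSec_inj _ _ h
  have n1 := NatTrans.naturality_apply θ.hom g.op i.2
  have n2 := NatTrans.naturality_apply θ.hom g'.op i'.2
  exact n1.symm.trans ((congrArg (fun z => θ.hom.app (op W) z) h').trans n2)

/-- the adjunction bijection -/
noncomputable def adjEquiv (X : Sh J) (Y : Sh K) : (f.obj X ⟶ Y) ≃ (X ⟶ gSh f hf Y) where
  toFun φ := mkHom (A := X) (B := gSh f hf Y)
    (fun U x => f.map (ofSec (V := U.unop) x) ≫ φ) (by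
      intro U U' g x
      have e : ofSec (V := U'.unop) (X.obj.map g x) =
          epsMap J g.unop ≫ ofSec (V := U.unop) x := (epsMap_ofSec g.unop x).symm
      change f.map (ofSec (V := U'.unop) (X.obj.map g x)) ≫ φ =
        f.map (epsMap J g.unop) ≫ (f.map (ofSec (V := U.unop) x) ≫ φ)
      rw [e, f.map_comp, Category.assoc])
  invFun θ := (exists_unique_of_charts f hf (fun x : Σ V : C, X.obj.obj (op V) => x.1)
    (fun x => ofSec x.2) (je_ofSec X) (fun x => θ.hom.app (op x.1) x.2)
    (compat_of_nat f hf θ)).exists.choose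
  left_inv φ := by
    have hu := exists_unique_of_charts f hf (fun x : Σ V : C, X.obj.obj (op V) => x.1)
      (fun x => ofSec x.2) (je_ofSec X)
      (fun x => (mkHom (A := X) (B := gSh f hf Y)
        (fun U x => f.map (ofSec (V := U.unop) x) ≫ φ) (by
          intro U U' g x
          have e : ofSec (V := U'.unop) (X.obj.map g x) =
              epsMap J g.unop ≫ ofSec (V := U.unop) x := (epsMap_ofSec g.unop x).symm
          change f.map (ofSec (V := U'.unop) (X.obj.map g x)) ≫ φ =
            f.map (epsMap J g.unop) ≫ (f.map (ofSec (V := U.unop) x) ≫ φ)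
          rw [e, f.map_comp, Category.assoc])).hom.app (op x.1) x.2)
      (compat_of_nat f hf _)
    exact hu.unique hu.exists.choose_spec (fun x => rfl)
  right_inv θ := by
    ext U x
    exact (exists_unique_of_charts f hf (fun x : Σ V : C, X.obj.obj (op V) => x.1)
      (fun x => ofSec x.2) (je_ofSec X) (fun x => θ.hom.app (op x.1) x.2)
      (compat_of_nat f hf θ)).exists.choose_spec ⟨U.unop, x⟩

lemma adjEquiv_nat (X' X : Sh J) (Y : Sh K) (a : X' ⟶ X) (φ : f.obj X ⟶ Y) :
    adjEquiv f hf X' Y (f.map a ≫ φ) = a ≫ adjEquiv f hf X Y φ := by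
  ext U x
  change f.map (ofSec (V := U.unop) x) ≫ f.map a ≫ φ =
    f.map (ofSec (V := U.unop) (a.hom.app U x)) ≫ φ
  rw [← Category.assoc, ← f.map_comp, ofSec_comp]

include hf in
theorem isLeftAdjoint_of_lex_preservesEpiFamilies :
    f.IsLeftAdjoint ∧ PreservesColimitsOfSize.{u, u} f := by
  have adj : f ⊣ Adjunction.rightAdjointOfEquiv (adjEquiv f hf)
      (fun X' X Y a φ => adjEquiv_nat f hf X' X Y a φ) :=
    Adjunction.adjunctionOfEquivRight _ _
  exact ⟨adj.isLeftAdjoint, adj.leftAdjoint_preservesColimits⟩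

end Adj

end H2Topos
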