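import Groth.Agent.Lib.helper2.Topos8
import Mathlib.CategoryTheory.Sites.Canonical
import Mathlib.CategoryTheory.Limits.Types.Limits
import Mathlib.CategoryTheory.Elements

/-!
# helper2: sheaves for the canonical topology of a sheaf topos
-/

universe w v u

set_option linter.unusedSectionVars false

open CategoryTheory CategoryTheory.Limits Opposite

namespace H2Topos

open ToposFin

variable {C : Type u} [SmallCategory C] {J : GrothendieckTopology C}

section Canonical

/-- representables satisfy the sheaf condition for sieves containing a locally surjective family -/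
lemma isSheafFor_yoneda_of_jls {Y : Sh J} {ι : Type w} {F : ι → Sh J} (π : ∀ i, F i ⟶ Y)
    (hπ : JLS π) (S : Sieve Y) (hS : ∀ i, S (π i)) (T : Sh J) :
    Presieve.IsSheafFor (yoneda.obj T) S.arrows := by
  intro x hx
  have hcongr : ∀ {Z : Sh J} (g₁ g₂ : Z ⟶ Y) (h₁ : S g₁) (h₂ : S g₂), g₁ = g₂ →
      x g₁ h₁ = x g₂ h₂ := by
    intro Z g₁ g₂ h₁ h₂ e
    subst e
    rfl
  have hres : ∀ {Z Z' : Sh J} (g : Z ⟶ Y) (hg : S g) (h : Z' ⟶ Z),
      h ≫ x g hg = x (h ≫ g) (S.downward_closed hg h) := by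
    intro Z Z' g hg h
    exact (Presieve.FamilyOfElements.comp_of_compatible S hx hg h).symm
  have he : ∀ (i j : ι) (V : Cᵒᵖ) (a : (F i).obj.obj V) (b : (F j).obj.obj V),
      (π i).hom.app V a = (π j).hom.app V b →
        (x (π i) (hS i)).hom.app V a = (x (π j) (hS j)).hom.app V b := by
    intro i j V a b hab
    have h1 : ofSec (V := V.unop) a ≫ π i = ofSec (V := V.unop) b ≫ π j := by
      rw [ofSec_comp, ofSec_comp]
      exact congrArg (ofSec (V := V.unop)) hab
    have h2 : ofSec (V := V.unop) a ≫ x (π i) (hS i) = ofSec (V := V.unop) b ≫ x (π j) (hS j) := by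
      rw [hres, hres]
      exact hcongr _ _ _ _ h1
    rw [ofSec_comp, ofSec_comp] at h2
    exact ofSec_inj (V := V.unop) _ _ h2
  obtain ⟨d, hd, hd'⟩ := exists_unique_desc π hπ (fun i => x (π i) (hS i)) he
  refine ⟨d, ?_, ?_⟩
  · intro Z g hg
    change g ≫ d = x g hg
    have hq : JLS (fun i => pullback.snd (π i) g) :=
      jls_of_isPullback g π (fun i => pullback.fst (π i) g) (fun i => pullback.snd (π i) g)
        (fun i => IsPullback.of_hasPullback _ _) hπ
    apply je_of_jls _ hq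
    intro i
    have hc : pullback.snd (π i) g ≫ g = pullback.fst (π i) g ≫ π i := pullback.condition.symm
    calc pullback.snd (π i) g ≫ g ≫ d
        = (pullback.fst (π i) g ≫ π i) ≫ d := by rw [← Category.assoc, hc]
      _ = pullback.fst (π i) g ≫ x (π i) (hS i) := by rw [Category.assoc, hd i]
      _ = x (pullback.fst (π i) g ≫ π i) (S.downward_closed (hS i) _) := hres (π i) (hS i) _
      _ = x (pullback.snd (π i) g ≫ g) (S.downward_closed hg _) := hcongr _ _ _ _ hc.symm
      _ = pullback.snd (π i) g ≫ x g hg := (hres g hg _).symm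
  · intro d' hd''
    apply hd'
    intro i
    exact hd'' (π i) (hS i)

/-- a sieve containing a locally surjective family is covering for the canonical topology -/
lemma mem_canonical_of_jls {X : Sh J} {ι : Type w} {F : ι → Sh J} (π : ∀ i, F i ⟶ X)
    (hπ : JLS π) (S : Sieve X) (hS : ∀ i, S (π i)) :
    S ∈ Sheaf.canonicalTopology (Sh J) X := by
  apply Sheaf.mem_finestTopology_of_forall_isSheafFor
  rintro _ ⟨T, rfl⟩ Y f
  refine isSheafFor_yoneda_of_jls (fun i => pullback.snd (π i) f)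
    (jls_of_isPullback f π (fun i => pullback.fst (π i) f) (fun i => pullback.snd (π i) f)
      (fun i => IsPullback.of_hasPullback _ _) hπ) _ ?_ T
  intro i
  change S (pullback.snd (π i) f ≫ f)
  rw [← pullback.condition]
  exact S.downward_closed (hS i) _

/-- covering sieves for the canonical topology are jointly locally surjective -/
lemma jls_of_mem_canonical {X : Sh J} (S : Sieve X)
    (hS : S ∈ Sheaf.canonicalTopology (Sh J) X) :
    JLS (fun i : (Σ Y : Sh J, {f : Y ⟶ X // S f}) => i.2.1) := by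
  apply jls_of_je
  intro T a b hab
  exact ((Sheaf.isSheaf_yoneda_obj T) S hS).isSeparatedFor.ext (fun Y f hf => hab ⟨Y, f, hf⟩)

/-- separatedness of canonical sheaves, tested on a dense set of charts -/
lemma canonical_sep (G : (Sh J)ᵒᵖ ⥤ Type w)
    (hG : Presieve.IsSheaf (Sheaf.canonicalTopology (Sh J)) G) (Z : Sh J)
    (P : ∀ V : C, Set (Z.obj.obj (op V)))
    (hP : ∀ (V : C) (s : Z.obj.obj (op V)), ∃ R ∈ J V, ∀ ⦃W : C⦄ (h : W ⟶ V), R h →
      Z.obj.map h.op s ∈ P W)
    (a b : G.obj (op Z))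
    (hab : ∀ (V : C) (z : Z.obj.obj (op V)), z ∈ P V →
      G.map (ofSec z).op a = G.map (ofSec z).op b) : a = b := by
  have hjls : JLS (fun i : (Σ V : C, {z : Z.obj.obj (op V) // z ∈ P V}) => ofSec i.2.1) := by
    intro U s
    obtain ⟨R, hR, hloc⟩ := hP U.unop s
    refine J.superset_covering ?_ hR
    intro W h hh
    exact ⟨⟨W, ⟨Z.obj.map h.op s, hloc h hh⟩⟩, etaSec J (𝟙 W), ofSec_etaSec _⟩
  have hS := mem_canonical_of_jls _ hjls
    (Sieve.ofArrows (fun i : (Σ V : C, {z : Z.obj.obj (op V) // z ∈ P V}) => eps J i.1)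
      (fun i => ofSec i.2.1)) (fun i => Sieve.ofArrows_mk _ _ i)
  apply ((hG _ hS).isSeparatedFor).ext
  intro Y f hf
  obtain ⟨i, u, rfl⟩ := (Sieve.mem_ofArrows_iff _ _ f).1 hf
  rw [op_comp, G.map_comp]
  exact congrArg (fun z => G.map u.op z) (hab i.1 i.2.1 i.2.2)

end Canonical

section Backward

lemma preservesEpiFamilies_id :
    SGA4.PreservesEpiFamilies.{u + 1, u + 1, u} (𝟭 (Sh J)) :=
  fun _ _ _ _ h => h

/-- the subfunctor of charts -/
def chartSub (X : Sh J) (P : ∀ V : C, Set (X.obj.obj (op V)))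
    (hPres : ∀ {V W : C} (g : W ⟶ V) (s : X.obj.obj (op V)), s ∈ P V →
      X.obj.map g.op s ∈ P W) : Subfunctor X.obj where
  obj U := {s | s ∈ P U.unop}
  map := by
    intro U U' g s hs
    exact hPres g.unop s hs

variable (G : (Sh J)ᵒᵖ ⥤ Type w) [PreservesLimitsOfSize.{u, u} G]

/-- gluing of sections of a limit preserving presheaf along a dense family of charts -/
lemma exists_unique_glue (X : Sh J) (P : ∀ V : C, Set (X.obj.obj (op V)))
    (hPres : ∀ {V W : C} (g : W ⟶ V) (s : X.obj.obj (op V)), s ∈ P V →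
      X.obj.map g.op s ∈ P W)
    (hPdense : ∀ (V : C) (s : X.obj.obj (op V)), ∃ R ∈ J V, ∀ ⦃W : C⦄ (h : W ⟶ V), R h →
      X.obj.map h.op s ∈ P W)
    (τ : ∀ (V : C) (s : X.obj.obj (op V)), s ∈ P V → G.obj (op (eps J V)))
    (hτ : ∀ {V W : C} (g : W ⟶ V) (s : X.obj.obj (op V)) (hs : s ∈ P V),
      G.map (epsMap J g).op (τ V s hs) = τ W (X.obj.map g.op s) (hPres g s hs)) :
    ∃! t : G.obj (op X), ∀ (V : C) (s : X.obj.obj (op V)) (hs : s ∈ P V),
      G.map (ofSec s).op t = τ V s hs := by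
  have hτcongr : ∀ (V : C) (s s' : X.obj.obj (op V)) (hs : s ∈ P V) (hs' : s' ∈ P V),
      s = s' → τ V s hs = τ V s' hs' := by
    intro V s s' hs hs' e
    subst e
    rfl
  let Pf := chartSub X P hPres
  let Dop : Pf.toFunctor.Elements ⥤ (Sh J)ᵒᵖ :=
    CategoryOfElements.π Pf.toFunctor ⋙ (epsF J).op
  let c : Cone Dop :=
    { pt := op X
      π :=
        { app := fun e => (ofSec (V := e.1.unop) e.2.1).op
          naturality := by
            intro e e' φ
            apply Quiver.Hom.unop_inj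
            change ofSec (V := e'.1.unop) e'.2.1 ≫ 𝟙 X =
              epsMap J φ.1.unop ≫ ofSec (V := e.1.unop) e.2.1
            rw [Category.comp_id, epsMap_ofSec]
            exact congrArg (ofSec (V := e'.1.unop)) (congrArg Subtype.val φ.2).symm } }
  have hm : JE (fun e : Pf.toFunctor.Elements => ofSec (V := e.1.unop) e.2.1) := by
    apply je_of_jls
    intro U s
    obtain ⟨R, hR, hloc⟩ := hPdense U.unop s
    refine J.superset_covering ?_ hR
    intro W h hh
    exact ⟨⟨op W, ⟨X.obj.map h.op s, hloc h hh⟩⟩, etaSec J (𝟙 W), ofSec_etaSec _⟩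
  have hex : ∀ s : Cone Dop, ∃! φ : X ⟶ s.pt.unop,
      ∀ e : Pf.toFunctor.Elements, ofSec (V := e.1.unop) e.2.1 ≫ φ = (s.π.app e).unop := by
    intro s
    exact exists_unique_of_charts (𝟭 (Sh J)) preservesEpiFamilies_id
      (fun e : Pf.toFunctor.Elements => e.1.unop) (fun e => ofSec (V := e.1.unop) e.2.1) hm
      (Y := s.pt.unop) (fun e => ((s.π.app e).unop : eps J e.1.unop ⟶ s.pt.unop)) (by
        intro e e' W g g' hgg'
        rw [epsMap_ofSec, epsMap_ofSec] at hgg'
        have hz := ofSec_inj _ _ hgg'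
        let ez : Pf.toFunctor.Elements :=
          ⟨op W, ⟨X.obj.map g.op e.2.1, hPres g e.2.1 e.2.2⟩⟩
        let φ : e ⟶ ez := ⟨g.op, rfl⟩
        let φ' : e' ⟶ ez := ⟨g'.op, Subtype.ext hz.symm⟩
        have w1 := congrArg Quiver.Hom.unop (s.w φ)
        have w2 := congrArg Quiver.Hom.unop (s.w φ')
        exact w1.trans w2.symm)
  have hlim : IsLimit c :=
    { lift := fun s => ((hex s).exists.choose).op
      fac := fun s e => by
        apply Quiver.Hom.unop_inj
        exact (hex s).exists.choose_spec e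
      uniq := fun s m hm' => by
        apply Quiver.Hom.unop_inj
        exact (hex s).unique (fun e => congrArg Quiver.Hom.unop (hm' e))
          (hex s).exists.choose_spec }
  have hG := isLimitOfPreserves G hlim
  have key := (Types.isLimit_iff (G.mapCone c)).1 ⟨hG⟩
    (fun e => τ e.1.unop e.2.1 e.2.2) (by
      intro e e' φ
      change G.map (epsMap J φ.1.unop).op (τ e.1.unop e.2.1 e.2.2) = τ e'.1.unop e'.2.1 e'.2.2
      exact (hτ φ.1.unop e.2.1 e.2.2).trans (hτcongr _ _ _ _ _ (congrArg Subtype.val φ.2)))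
  obtain ⟨t, ht, ht'⟩ := key
  refine ⟨t, fun V s hs => ht ⟨op V, ⟨s, hs⟩⟩, fun t' h' => ht' t' (fun e => h' e.1.unop e.2.1 e.2.2)⟩

lemma map_op_comp (G : (Sh J)ᵒᵖ ⥤ Type w) {A B T : Sh J} (a : A ⟶ B) (b : B ⟶ T)
    (z : G.obj (op T)) : G.map a.op (G.map b.op z) = G.map (a ≫ b).op z := by
  rw [op_comp, G.map_comp]
  rfl

theorem isSheaf_type_of_preservesLimits :
    Presieve.IsSheaf (Sheaf.canonicalTopology (Sh J)) G := by
  intro X S hS x hx
  have hjls := jls_of_mem_canonical S hS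
  have hcongr : ∀ {Z : Sh J} (g₁ g₂ : Z ⟶ X) (h₁ : S g₁) (h₂ : S g₂), g₁ = g₂ →
      x g₁ h₁ = x g₂ h₂ := by
    intro Z g₁ g₂ h₁ h₂ e
    subst e
    rfl
  have hres : ∀ {Z Z' : Sh J} (g : Z ⟶ X) (hg : S g) (h : Z' ⟶ Z),
      G.map h.op (x g hg) = x (h ≫ g) (S.downward_closed hg h) := by
    intro Z Z' g hg h
    exact (Presieve.FamilyOfElements.comp_of_compatible S hx hg h).symm
  have hPres : ∀ {V W : C} (g : W ⟶ V) (s : X.obj.obj (op V)),
      s ∈ {s : X.obj.obj (op V) | S (ofSec s)} →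
        X.obj.map g.op s ∈ {s : X.obj.obj (op W) | S (ofSec s)} := by
    intro V W g s hs
    change S (ofSec (X.obj.map g.op s))
    rw [← epsMap_ofSec]
    exact S.downward_closed hs _
  have hPdense : ∀ (V : C) (s : X.obj.obj (op V)), ∃ R ∈ J V, ∀ ⦃W : C⦄ (h : W ⟶ V), R h →
      X.obj.map h.op s ∈ {s : X.obj.obj (op W) | S (ofSec s)} := by
    intro V s
    refine ⟨_, hjls (op V) s, ?_⟩
    rintro W h ⟨i, t, ht⟩
    change S (ofSec (X.obj.map h.op s))
    have e : ofSec (X.obj.map h.op s) = ofSec t ≫ i.2.1 := by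
      rw [ofSec_comp]
      exact congrArg ofSec ht.symm
    rw [e]
    exact S.downward_closed i.2.2 _
  obtain ⟨t, ht, ht'⟩ := exists_unique_glue G X (fun V => {s : X.obj.obj (op V) | S (ofSec s)})
    hPres hPdense (fun V s hs => x (ofSec s) hs) (by
      intro V W g s hs
      exact (hres (ofSec s) hs (epsMap J g)).trans (hcongr _ _ _ _ (epsMap_ofSec g s)))
  refine ⟨t, ?_, ?_⟩
  · intro Y f hf
    have hY := exists_unique_glue G Y (fun V => (Set.univ : Set (Y.obj.obj (op V))))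
      (fun _ _ _ => trivial) (fun V s => ⟨⊤, J.top_mem V, fun W h _ => trivial⟩)
      (fun V y _ => x (ofSec y ≫ f) (S.downward_closed hf _)) (by
        intro V W g y _
        exact (hres (ofSec y ≫ f) (S.downward_closed hf _) (epsMap J g)).trans
          (hcongr _ _ _ _ (by rw [← Category.assoc, epsMap_ofSec])))
    apply hY.unique
    · intro V y _
      have e := ofSec_comp y f
      have hs' : S (ofSec (f.hom.app (op V) y)) := by
        rw [← e]
        exact S.downward_closed hf _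
      exact (map_op_comp G (ofSec y) f t).trans
        ((congrArg (fun g => G.map g.op t) e).trans
          ((ht V (f.hom.app (op V) y) hs').trans (hcongr _ _ _ _ e.symm)))
    · intro V y _
      exact hres f hf (ofSec y)
  · intro t' h'
    exact ht' t' (fun V s hs => h' (ofSec s) hs)

end Backward

section BackwardGen

theorem isSheaf_of_preservesLimits {E' : Type v} [Category.{w} E'] (F : (Sh J)ᵒᵖ ⥤ E')
    [PreservesLimitsOfSize.{u, u} F] :
    Presheaf.IsSheaf (Sheaf.canonicalTopology (Sh J)) F := by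
  intro e'
  exact isSheaf_type_of_preservesLimits (F ⋙ coyoneda.obj (op e'))

end BackwardGen

section Forward

variable {K' : Type u} [Category.{u} K'] (Dop : K' ⥤ (Sh J)ᵒᵖ)

/-- the generating relation of the colimit -/
def zRel (V : Cᵒᵖ) (a b : Σ k : K', (Dop.obj k).unop.obj.obj V) : Prop :=
  ∃ φ : a.1 ⟶ b.1, (Dop.map φ).unop.hom.app V b.2 = a.2

/-- the presheaf colimit, explicitly -/
def zPre : Cᵒᵖ ⥤ Type u where
  obj V := Quot (zRel Dop V)
  map {V W} g := ↾ Quot.map
    (fun a => (⟨a.1, (Dop.obj a.1).unop.obj.map g a.2⟩ : Σ k : K', (Dop.obj k).unop.obj.obj W))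
    (by
      rintro a b ⟨φ, hφ⟩
      refine ⟨φ, ?_⟩
      change (Dop.map φ).unop.hom.app W ((Dop.obj b.1).unop.obj.map g b.2) =
        (Dop.obj a.1).unop.obj.map g a.2
      rw [← hφ]
      exact NatTrans.naturality_apply (Dop.map φ).unop.hom g b.2)
  map_id V := by
    apply ConcreteCategory.hom_ext
    rintro ⟨⟨k, y⟩⟩
    change Quot.mk _ (⟨k, (Dop.obj k).unop.obj.map (𝟙 V) y⟩ :
      Σ k : K', (Dop.obj k).unop.obj.obj V) = Quot.mk _ ⟨k, y⟩
    rw [(Dop.obj k).unop.obj.map_id]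
    rfl
  map_comp {V W W'} g g' := by
    apply ConcreteCategory.hom_ext
    rintro ⟨⟨k, y⟩⟩
    change Quot.mk _ (⟨k, (Dop.obj k).unop.obj.map (g ≫ g') y⟩ :
      Σ k : K', (Dop.obj k).unop.obj.obj W') =
      Quot.mk _ ⟨k, (Dop.obj k).unop.obj.map g' ((Dop.obj k).unop.obj.map g y)⟩
    rw [(Dop.obj k).unop.obj.map_comp]
    rfl

/-- the sheaf colimit, explicitly -/
noncomputable def zSh : Sh J := (presheafToSheaf J (Type u)).obj (zPre Dop)

/-- the presheaf level coprojections -/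
def zι₀ (k : K') : (Dop.obj k).unop.obj ⟶ zPre Dop where
  app V := ↾ fun y => Quot.mk (zRel Dop V) ⟨k, y⟩
  naturality := by
    intro V W g
    rfl

/-- the coprojections -/
noncomputable def zι (k : K') : (Dop.obj k).unop ⟶ zSh Dop :=
  ObjectProperty.homMk (zι₀ Dop k ≫ toSheafify J (zPre Dop))

/-- the cone (in the opposite category) with vertex the explicit colimit -/
noncomputable def zCone : Cone Dop where
  pt := op (zSh Dop)
  π :=
    { app := fun k => (zι Dop k).op
      naturality := by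
        intro k k' φ
        apply Quiver.Hom.unop_inj
        change zι Dop k' ≫ 𝟙 _ = (Dop.map φ).unop ≫ zι Dop k
        rw [Category.comp_id]
        ext V y
        have e : Quot.mk (zRel Dop V) (⟨k', y⟩ : Σ k : K', (Dop.obj k).unop.obj.obj V) =
            Quot.mk (zRel Dop V) ⟨k, (Dop.map φ).unop.hom.app V y⟩ :=
          (Quot.sound (⟨φ, rfl⟩ : zRel Dop V ⟨k, (Dop.map φ).unop.hom.app V y⟩ ⟨k', y⟩)).symm
        exact congrArg (fun q => (toSheafify J (zPre Dop)).app V q) e }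

/-- the coprojections of a cone in the opposite category -/
def coneι {Dop : K' ⥤ (Sh J)ᵒᵖ} (c : Cone Dop) (k : K') : (Dop.obj k).unop ⟶ c.pt.unop :=
  (c.π.app k).unop

lemma zig {c : Cone Dop} (hc : IsLimit c) (G : (Sh J)ᵒᵖ ⥤ Type w)
    (hG : Presieve.IsSheaf (Sheaf.canonicalTopology (Sh J)) G)
    (σ : ∀ k, G.obj (Dop.obj k))
    (hσ : ∀ {k k' : K'} (φ : k ⟶ k'), G.map (Dop.map φ) (σ k) = σ k')
    {Z : Sh J} {k k' : K'} (g : Z ⟶ (Dop.obj k).unop) (g' : Z ⟶ (Dop.obj k').unop)
    (h : g ≫ coneι c k = g' ≫ coneι c k') :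
    G.map g.op (σ k) = G.map g'.op (σ k') := by
  obtain ⟨d, hd⟩ : ∃ d : c.pt.unop ⟶ zSh Dop, ∀ k, coneι c k ≫ d = zι Dop k :=
    ⟨(hc.lift (zCone Dop)).unop, fun k => congrArg Quiver.Hom.unop (hc.fac (zCone Dop) k)⟩
  have hθ : ∀ (W : C) (a b : Σ k : K', (Dop.obj k).unop.obj.obj (op W)),
      zRel Dop (op W) a b →
        G.map (ofSec a.2).op (σ a.1) = G.map (ofSec b.2).op (σ b.1) := by
    rintro W a b ⟨φ, hφ⟩
    have e : ofSec a.2 = ofSec b.2 ≫ (Dop.map φ).unop := by
      rw [ofSec_comp]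
      exact congrArg ofSec hφ.symm
    exact ((congrArg (fun m => G.map m.op (σ a.1)) e).trans
      (map_op_comp G (ofSec b.2) (Dop.map φ).unop (σ a.1)).symm).trans
        (congrArg (fun z => G.map (ofSec b.2).op z) (hσ φ))
  have hθ' : ∀ (W : C) (a b : Σ k : K', (Dop.obj k).unop.obj.obj (op W)),
      Relation.EqvGen (zRel Dop (op W)) a b →
        G.map (ofSec a.2).op (σ a.1) = G.map (ofSec b.2).op (σ b.1) := by
    intro W a b hab
    induction hab with
    | rel a b h => exact hθ W a b h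
    | refl a => rfl
    | symm a b _ ih => exact ih.symm
    | trans a b c _ _ ih1 ih2 => exact ih1.trans ih2
  have hgg : g ≫ zι Dop k = g' ≫ zι Dop k' :=
    (congrArg (fun m => g ≫ m) (hd k).symm).trans ((Category.assoc _ _ _).symm.trans
      ((congrArg (fun m => m ≫ d) h).trans ((Category.assoc _ _ _).trans
        (congrArg (fun m => g' ≫ m) (hd k')))))
  apply canonical_sep G hG Z
    (fun V => {z | G.map (ofSec z).op (G.map g.op (σ k)) =
      G.map (ofSec z).op (G.map g'.op (σ k'))}) ?_ _ _ (fun V z hz => hz)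
  intro V z
  have e1 : (zι Dop k).hom.app (op V) (g.hom.app (op V) z) =
      (zι Dop k').hom.app (op V) (g'.hom.app (op V) z) :=
    congrArg (fun m => m.hom.app (op V) z) hgg
  have hinj : Presheaf.IsLocallyInjective J (toSheafify J (zPre Dop)) := inferInstance
  have hR := hinj.equalizerSieve_mem (X := op V)
    (Quot.mk (zRel Dop (op V)) ⟨k, g.hom.app (op V) z⟩ : (zPre Dop).obj (op V))
    (Quot.mk (zRel Dop (op V)) ⟨k', g'.hom.app (op V) z⟩) e1
  refine ⟨_, hR, ?_⟩
  intro W h' hh'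
  have hq : Quot.mk (zRel Dop (op W))
      (⟨k, (Dop.obj k).unop.obj.map h'.op (g.hom.app (op V) z)⟩ :
        Σ k : K', (Dop.obj k).unop.obj.obj (op W)) =
      Quot.mk (zRel Dop (op W)) ⟨k', (Dop.obj k').unop.obj.map h'.op (g'.hom.app (op V) z)⟩ :=
    hh'
  have hE := hθ' W _ _ (Quot.eqvGen_exact hq)
  have n1 : g.hom.app (op W) (Z.obj.map h'.op z) =
      (Dop.obj k).unop.obj.map h'.op (g.hom.app (op V) z) :=
    NatTrans.naturality_apply g.hom h'.op z
  have n1' : g'.hom.app (op W) (Z.obj.map h'.op z) =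
      (Dop.obj k').unop.obj.map h'.op (g'.hom.app (op V) z) :=
    NatTrans.naturality_apply g'.hom h'.op z
  have s1 : G.map (ofSec (Z.obj.map h'.op z)).op (G.map g.op (σ k)) =
      G.map (ofSec ((Dop.obj k).unop.obj.map h'.op (g.hom.app (op V) z))).op (σ k) :=
    (map_op_comp G _ g (σ k)).trans (congrArg (fun m => G.map m.op (σ k))
      ((ofSec_comp _ g).trans (congrArg ofSec n1)))
  have s1' : G.map (ofSec (Z.obj.map h'.op z)).op (G.map g'.op (σ k')) =
      G.map (ofSec ((Dop.obj k').unop.obj.map h'.op (g'.hom.app (op V) z))).op (σ k') :=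
    (map_op_comp G _ g' (σ k')).trans (congrArg (fun m => G.map m.op (σ k'))
      ((ofSec_comp _ g').trans (congrArg ofSec n1')))
  exact s1.trans (hE.trans s1'.symm)

theorem preservesLimit_type_of_isSheaf (G : (Sh J)ᵒᵖ ⥤ Type w)
    (hG : Presieve.IsSheaf (Sheaf.canonicalTopology (Sh J)) G) (c : Cone Dop)
    (hc : IsLimit c) : Nonempty (IsLimit (G.mapCone c)) := by
  rw [Types.isLimit_iff]
  intro σ hσ
  have hσ' : ∀ {k k' : K'} (φ : k ⟶ k'), G.map (Dop.map φ) (σ k) = σ k' := fun φ => hσ φ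
  have hje : JE (fun k => coneι c k) := by
    intro T a b hab
    have e : a.op = b.op := hc.hom_ext (fun k => by
      apply Quiver.Hom.unop_inj
      exact hab k)
    exact Quiver.Hom.op_inj e
  have hjls := jls_of_je _ hje
  have hS : Sieve.ofArrows (fun k => (Dop.obj k).unop) (fun k => coneι c k) ∈
      Sheaf.canonicalTopology (Sh J) c.pt.unop :=
    mem_canonical_of_jls _ hjls _ (fun k => Sieve.ofArrows_mk _ _ k)
  have hsheaf := hG _ hS
  have hmem : ∀ {Z : Sh J} (f : Z ⟶ c.pt.unop),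
      (Sieve.ofArrows (fun k => (Dop.obj k).unop) (fun k => coneι c k)) f →
      ∃ k, ∃ g : Z ⟶ (Dop.obj k).unop, g ≫ coneι c k = f := by
    intro Z f hf
    obtain ⟨k, g, h⟩ := (Sieve.mem_ofArrows_iff _ _ f).1 hf
    exact ⟨k, g, h.symm⟩
  choose kk gg hgg using @hmem
  have hx : ∀ ⦃Y₁ Y₂ Z : Sh J⦄ (g₁ : Z ⟶ Y₁) (g₂ : Z ⟶ Y₂) ⦃f₁ : Y₁ ⟶ c.pt.unop⦄
      ⦃f₂ : Y₂ ⟶ c.pt.unop⦄
      (h₁ : (Sieve.ofArrows (fun k => (Dop.obj k).unop) (fun k => coneι c k)) f₁)
      (h₂ : (Sieve.ofArrows (fun k => (Dop.obj k).unop) (fun k => coneι c k)) f₂),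
      g₁ ≫ f₁ = g₂ ≫ f₂ →
        G.map g₁.op (G.map (gg f₁ h₁).op (σ (kk f₁ h₁))) =
          G.map g₂.op (G.map (gg f₂ h₂).op (σ (kk f₂ h₂))) := by
    intro Y₁ Y₂ Z g₁ g₂ f₁ f₂ h₁ h₂ hcomm
    rw [map_op_comp, map_op_comp]
    apply zig Dop hc G hG σ hσ'
    rw [Category.assoc, Category.assoc, hgg, hgg, hcomm]
  obtain ⟨t, ht, ht'⟩ := hsheaf (fun Z f hf => G.map (gg f hf).op (σ (kk f hf))) hx
  have hmk : ∀ k, (Sieve.ofArrows (fun k => (Dop.obj k).unop) (fun k => coneι c k))
      (coneι c k) := fun k => Sieve.ofArrows_mk _ _ k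
  refine ⟨t, ?_, ?_⟩
  · intro k
    have h1 := ht (coneι c k) (hmk k)
    have h2 : G.map (gg (coneι c k) (hmk k)).op (σ (kk (coneι c k) (hmk k))) =
        G.map (𝟙 (Dop.obj k).unop).op (σ k) :=
      zig Dop hc G hG σ hσ' _ _ (by rw [hgg, Category.id_comp])
    have h3 : G.map (𝟙 (Dop.obj k).unop).op (σ k) = σ k := by
      rw [op_id, G.map_id]
      rfl
    exact h1.trans (h2.trans h3)
  · intro t' h'
    apply ht'
    intro Z f hf
    have e : f = gg f hf ≫ coneι c (kk f hf) := (hgg f hf).symm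
    have h1 : G.map f.op t' = G.map (gg f hf ≫ coneι c (kk f hf)).op t' := by
      rw [← e]
    exact h1.trans ((map_op_comp G (gg f hf) (coneι c (kk f hf)) t').symm.trans
      (congrArg (fun z => G.map (gg f hf).op z) (h' (kk f hf))))

theorem preservesLimits_of_isSheaf {E' : Type v} [Category.{w} E'] (F : (Sh J)ᵒᵖ ⥤ E')
    (hF : Presheaf.IsSheaf (Sheaf.canonicalTopology (Sh J)) F) :
    PreservesLimitsOfSize.{u, u} F := by
  constructor
  intro K' _
  constructor
  intro Dop
  constructor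
  intro c hc
  refine ⟨coyonedaJointlyReflectsLimits _ _ (fun e' => ?_)⟩
  exact (preservesLimit_type_of_isSheaf Dop (F ⋙ coyoneda.obj e') (hF e'.unop) c hc).some

theorem isSheaf_canonical_iff {E' : Type v} [Category.{w} E'] (F : (Sh J)ᵒᵖ ⥤ E') :
    Presheaf.IsSheaf (Sheaf.canonicalTopology (Sheaf J (Type u))) F ↔
      PreservesLimitsOfSize.{u, u} F :=
  ⟨preservesLimits_of_isSheaf F, fun _ => isSheaf_of_preservesLimits F⟩

end Forward

end H2Topos
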