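import Groth.Agent.Lib.helper2.HomologyColim

/-! Tor commutes with filtered colimits in the first variable (helper2). -/

namespace H2Tor
open CategoryTheory CategoryTheory.Limits MonoidalCategory

universe u
variable {A : Type u} [CommRing A]

/-- `M ↦ M ⊗ K_•`. -/
noncomputable def tensCx (K : ChainComplex (ModuleCat.{u} A) ℕ) :
    ModuleCat.{u} A ⥤ ChainComplex (ModuleCat.{u} A) ℕ where
  obj M := (((tensoringLeft _).obj M).mapHomologicalComplex _).obj K
  map f := (NatTrans.mapHomologicalComplex ((tensoringLeft _).map f) _).app K
  map_id M := by rw [CategoryTheory.Functor.map_id, NatTrans.mapHomologicalComplex_id]; rfl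
  map_comp f g := by rw [CategoryTheory.Functor.map_comp, NatTrans.mapHomologicalComplex_comp]; rfl

noncomputable def tensCxEval (K : ChainComplex (ModuleCat.{u} A) ℕ) (k : ℕ) :
    tensCx K ⋙ HomologicalComplex.eval _ _ k ≅ tensorRight (K.X k) :=
  NatIso.ofComponents (fun M => Iso.refl _) (by
    intro M M' f
    exact (Category.comp_id _).trans (Category.id_comp _).symm)

instance preservesColimits_tensorRight (X : ModuleCat.{u} A) : PreservesColimits (tensorRight X) :=
  preservesColimits_of_natIso (BraidedCategory.tensorLeftIsoTensorRight X)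

theorem preserves_tensCx_homology (K : ChainComplex (ModuleCat.{u} A) ℕ) (p : ℕ)
    (J : Type u) [SmallCategory J] [IsFiltered J] :
    PreservesColimitsOfShape J (tensCx K ⋙ HomologicalComplex.homologyFunctor _ _ p) := by
  have h1 : PreservesColimitsOfShape J (ShortComplex.homologyFunctor (ModuleCat.{u} A)) :=
    H2HC.preservesColimitsOfShape_homologyFunctor _ J
  have h2 : ∀ k, PreservesColimitsOfShape J (tensCx K ⋙ HomologicalComplex.eval _ _ k) :=
    fun k => preservesColimitsOfShape_of_natIso (tensCxEval K k).symm
  let Φ := tensCx K ⋙ HomologicalComplex.shortComplexFunctor _ _ p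
  have h31 : PreservesColimitsOfShape J (Φ ⋙ ShortComplex.π₁) := h2 ((ComplexShape.down ℕ).prev p)
  have h32 : PreservesColimitsOfShape J (Φ ⋙ ShortComplex.π₂) := h2 p
  have h33 : PreservesColimitsOfShape J (Φ ⋙ ShortComplex.π₃) := h2 ((ComplexShape.down ℕ).next p)
  have h3 : PreservesColimitsOfShape J Φ := H2HC.preservesColimitsOfShape_of_π Φ
  exact (inferInstance : PreservesColimitsOfShape J (Φ ⋙ ShortComplex.homologyFunctor _))

noncomputable def torFlipIso (N : ModuleCat.{u} A) (P : ProjectiveResolution N) (p : ℕ) :
    (Tor (ModuleCat.{u} A) p).flip.obj N ≅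
      tensCx P.complex ⋙ HomologicalComplex.homologyFunctor _ _ p :=
  NatIso.ofComponents (fun M => P.isoLeftDerivedObj ((tensoringLeft _).obj M) p) (by
    intro M M' f
    have h := P.leftDerived_app_eq ((tensoringLeft (ModuleCat.{u} A)).map f) p
    have h' : ((Tor (ModuleCat.{u} A) p).flip.obj N).map f ≫
        (P.isoLeftDerivedObj ((tensoringLeft _).obj M') p).hom =
        (P.isoLeftDerivedObj ((tensoringLeft _).obj M) p).hom ≫
        (HomologicalComplex.homologyFunctor _ _ p).map
          ((NatTrans.mapHomologicalComplex ((tensoringLeft _).map f) _).app P.complex) := by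
      change (NatTrans.leftDerived ((tensoringLeft _).map f) p).app N ≫ _ = _
      rw [h, Category.assoc, Category.assoc, Iso.inv_hom_id, Category.comp_id]
    exact h')

theorem preserves_tor_flip (p : ℕ) (N : ModuleCat.{u} A)
    (J : Type u) [SmallCategory J] [IsFiltered J] :
    PreservesColimitsOfShape J ((Tor (ModuleCat.{u} A) p).flip.obj N) := by
  have := preserves_tensCx_homology (projectiveResolution N).complex p J
  exact preservesColimitsOfShape_of_natIso (torFlipIso N (projectiveResolution N) p).symm

end H2Tor
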