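import Groth.Agent.Lib.helper2.TorColim
import Groth.Agent.Lib.helper2.TorFlat

/-! Tor commutes with filtered colimits in the second variable (helper2). -/

namespace H2Tor
open CategoryTheory CategoryTheory.Limits MonoidalCategory

universe u
variable {A : Type u} [CommRing A]

instance tensCx_preservesZero (K : ChainComplex (ModuleCat.{u} A) ℕ) :
    (tensCx K).PreservesZeroMorphisms where
  map_zero X Y := by
    ext k : 1
    show (0 : X ⟶ Y) ▷ K.X k = 0
    exact MonoidalPreadditive.zero_whiskerRight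

lemma chase {C : Type*} [Category C] {X₁ X₂ Y₁ Y₂ Z₁ Z₂ W₁ W₂ : C} (a : X₁ ⟶ X₂) (t : X₁ ⟶ Y₁)
    (t' : X₂ ⟶ Y₂) (H₃ : Y₁ ⟶ Y₂) (dP : Y₁ ⟶ Z₁) (dQ : Y₂ ⟶ Z₂) (H₁ : Z₁ ⟶ Z₂) (s : Z₁ ⟶ W₁)
    (s' : Z₂ ⟶ W₂) (b : W₁ ⟶ W₂) (e1 : a ≫ t' = t ≫ H₃) (e3 : dP ≫ H₁ = H₃ ≫ dQ)
    (e2 : s ≫ b = H₁ ≫ s') : a ≫ (t' ≫ dQ ≫ s') = (t ≫ dP ≫ s) ≫ b := by
  calc a ≫ (t' ≫ dQ ≫ s') = (a ≫ t') ≫ dQ ≫ s' := by simp only [Category.assoc]
    _ = (t ≫ H₃) ≫ dQ ≫ s' := by rw [e1]
    _ = t ≫ (H₃ ≫ dQ) ≫ s' := by simp only [Category.assoc]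
    _ = t ≫ (dP ≫ H₁) ≫ s' := by rw [e3]
    _ = t ≫ dP ≫ (H₁ ≫ s') := by simp only [Category.assoc]
    _ = t ≫ dP ≫ (s ≫ b) := by rw [e2]
    _ = _ := by simp only [Category.assoc]

lemma chase0 {C : Type*} [Category C] [HasZeroMorphisms C] {X Y Z W Z' W' : C} (t : X ⟶ Y)
    (d : Y ⟶ Z) (s : W ≅ Z) (H : Z ⟶ Z') (r : Z' ⟶ W') (e : d ≫ H = 0) :
    (t ≫ d ≫ s.inv) ≫ (s.hom ≫ H ≫ r) = 0 := by
  simp only [Category.assoc, Iso.inv_hom_id_assoc]
  rw [reassoc_of% e, zero_comp, comp_zero]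

lemma chase1 {C : Type*} [Category C] {X Y Z W : C} (t : X ⟶ Y) (d : Y ⟶ Z) (s : W ≅ Z) :
    t ≫ d = (t ≫ d ≫ s.inv) ≫ s.hom := by
  simp only [Category.assoc, Iso.inv_hom_id, Category.comp_id]

lemma mono_chase {C : Type*} [Category C] {X Y Z W : C} (t : X ≅ Y) (d : Y ⟶ Z) (hd : Mono d)
    (s : W ≅ Z) : Mono (t.hom ≫ d ≫ s.inv) := by
  haveI := hd
  infer_instance

variable (S₀ : ShortComplex (ModuleCat.{u} A)) (hS₀ : S₀.ShortExact)

/-- The sequence of complexes `K ⊗ P → F ⊗ P → M ⊗ P`. -/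
noncomputable abbrev sesCx (K : ChainComplex (ModuleCat.{u} A) ℕ) :
    ShortComplex (ChainComplex (ModuleCat.{u} A) ℕ) := S₀.map (tensCx K)

include hS₀ in
theorem sesCx_shortExact (K : ChainComplex (ModuleCat.{u} A) ℕ)
    (hK : ∀ k, Module.Flat A (K.X k)) : (sesCx S₀ K).ShortExact := by
  apply HomologicalComplex.shortExact_of_degreewise_shortExact
  intro k
  haveI := hK k
  exact hS₀.map_of_exact (tensorRight (K.X k))

noncomputable def sesCxMap {K K' : ChainComplex (ModuleCat.{u} A) ℕ} (φ : K ⟶ K') :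
    sesCx S₀ K ⟶ sesCx S₀ K' where
  τ₁ := (((tensoringLeft _).obj S₀.X₁).mapHomologicalComplex _).map φ
  τ₂ := (((tensoringLeft _).obj S₀.X₂).mapHomologicalComplex _).map φ
  τ₃ := (((tensoringLeft _).obj S₀.X₃).mapHomologicalComplex _).map φ
  comm₁₂ := (NatTrans.mapHomologicalComplex ((tensoringLeft _).map S₀.f) _).naturality φ
  comm₂₃ := (NatTrans.mapHomologicalComplex ((tensoringLeft _).map S₀.g) _).naturality φ

theorem flat_res (N : ModuleCat.{u} A) (k : ℕ) :
    Module.Flat A ((projectiveResolution N).complex.X k) := inferInstance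

/-- The connecting map `Tor_{p+1}(M, N) ⟶ Tor_p(K, N)`. -/
noncomputable def torδ (p : ℕ) (N : ModuleCat.{u} A) :
    ((Tor (ModuleCat.{u} A) (p + 1)).obj S₀.X₃).obj N ⟶ ((Tor (ModuleCat.{u} A) p).obj S₀.X₁).obj N :=
  ((projectiveResolution N).isoLeftDerivedObj ((tensoringLeft _).obj S₀.X₃) (p + 1)).hom ≫
  (sesCx_shortExact S₀ hS₀ _ (flat_res N)).δ (p + 1) p rfl ≫
  ((projectiveResolution N).isoLeftDerivedObj ((tensoringLeft _).obj S₀.X₁) p).inv

theorem torδ_naturality (p : ℕ) {N N' : ModuleCat.{u} A} (g : N ⟶ N') :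
    ((Tor (ModuleCat.{u} A) (p + 1)).obj S₀.X₃).map g ≫ torδ S₀ hS₀ p N' =
      torδ S₀ hS₀ p N ≫ ((Tor (ModuleCat.{u} A) p).obj S₀.X₁).map g := by
  have comm := ProjectiveResolution.lift_commutes_zero g (projectiveResolution N)
    (projectiveResolution N')
  have h1 := ProjectiveResolution.isoLeftDerivedObj_hom_naturality g (projectiveResolution N)
    (projectiveResolution N') (ProjectiveResolution.lift g _ _) comm
    ((tensoringLeft _).obj S₀.X₃) (p + 1)
  have h2 := ProjectiveResolution.isoLeftDerivedObj_inv_naturality g (projectiveResolution N)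
    (projectiveResolution N') (ProjectiveResolution.lift g _ _) comm
    ((tensoringLeft _).obj S₀.X₁) p
  have h3 := HomologicalComplex.HomologySequence.δ_naturality
    (sesCxMap S₀ (ProjectiveResolution.lift g (projectiveResolution N) (projectiveResolution N')))
    (sesCx_shortExact S₀ hS₀ _ (flat_res N)) (sesCx_shortExact S₀ hS₀ _ (flat_res N')) (p + 1) p rfl
  exact chase _ _ _ _ _ _ _ _ _ _ h1 h3 h2

theorem torδ_comp (p : ℕ) (N : ModuleCat.{u} A) :
    torδ S₀ hS₀ p N ≫ ((Tor (ModuleCat.{u} A) p).map S₀.f).app N = 0 := by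
  have h := (projectiveResolution N).leftDerived_app_eq ((tensoringLeft (ModuleCat.{u} A)).map S₀.f) p
  have h' : ((Tor (ModuleCat.{u} A) p).map S₀.f).app N =
      ((projectiveResolution N).isoLeftDerivedObj ((tensoringLeft _).obj S₀.X₁) p).hom ≫
      HomologicalComplex.homologyMap (sesCx S₀ (projectiveResolution N).complex).f p ≫
      ((projectiveResolution N).isoLeftDerivedObj ((tensoringLeft _).obj S₀.X₂) p).inv := h
  exact (congrArg (fun z => torδ S₀ hS₀ p N ≫ z) h').trans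
    (chase0 _ _ _ _ _ ((sesCx_shortExact S₀ hS₀ _ (flat_res N)).δ_comp (p + 1) p rfl))

theorem torδ_exact (p : ℕ) (N : ModuleCat.{u} A) :
    (ShortComplex.mk (torδ S₀ hS₀ p N) (((Tor (ModuleCat.{u} A) p).map S₀.f).app N)
      (torδ_comp S₀ hS₀ p N)).Exact := by
  have h := (projectiveResolution N).leftDerived_app_eq ((tensoringLeft (ModuleCat.{u} A)).map S₀.f) p
  have h' : ((Tor (ModuleCat.{u} A) p).map S₀.f).app N =
      ((projectiveResolution N).isoLeftDerivedObj ((tensoringLeft _).obj S₀.X₁) p).hom ≫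
      HomologicalComplex.homologyMap (sesCx S₀ (projectiveResolution N).complex).f p ≫
      ((projectiveResolution N).isoLeftDerivedObj ((tensoringLeft _).obj S₀.X₂) p).inv := h
  refine (ShortComplex.exact_iff_of_iso ?_).mpr
    ((sesCx_shortExact S₀ hS₀ _ (flat_res N)).homology_exact₁ (p + 1) p rfl)
  refine ShortComplex.isoMk
    ((projectiveResolution N).isoLeftDerivedObj ((tensoringLeft _).obj S₀.X₃) (p + 1))
    ((projectiveResolution N).isoLeftDerivedObj ((tensoringLeft _).obj S₀.X₁) p)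
    ((projectiveResolution N).isoLeftDerivedObj ((tensoringLeft _).obj S₀.X₂) p) ?_ ?_
  · exact chase1 _ _ _
  · exact (chase1 _ _ _).trans (congrArg (fun z => z ≫
      ((projectiveResolution N).isoLeftDerivedObj ((tensoringLeft _).obj S₀.X₂) p).hom) h').symm

theorem torδ_mono (p : ℕ) (N : ModuleCat.{u} A) [Module.Flat A S₀.X₂] :
    Mono (torδ S₀ hS₀ p N) := by
  have hz : IsZero ((sesCx S₀ (projectiveResolution N).complex).X₂.homology (p + 1)) :=
    IsZero.of_iso (isZero_tor_succ_of_flat_left S₀.X₂ N p)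
      ((projectiveResolution N).isoLeftDerivedObj ((tensoringLeft _).obj S₀.X₂) (p + 1)).symm
  have hex := (sesCx_shortExact S₀ hS₀ _ (flat_res N)).homology_exact₃ (p + 1) p rfl
  have hm : Mono ((sesCx_shortExact S₀ hS₀ _ (flat_res N)).δ (p + 1) p rfl) :=
    hex.mono_g (hz.eq_of_src _ _)
  exact mono_chase _ _ hm _

/-- The connecting natural transformation. -/
noncomputable def torδNat (p : ℕ) :
    (Tor (ModuleCat.{u} A) (p + 1)).obj S₀.X₃ ⟶ (Tor (ModuleCat.{u} A) p).obj S₀.X₁ where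
  app N := torδ S₀ hS₀ p N
  naturality _ _ g := torδ_naturality S₀ hS₀ p g


/-- A presentation `0 → K → F → M → 0` with `F` projective. -/
noncomputable def presSES (M : ModuleCat.{u} A) : ShortComplex (ModuleCat.{u} A) :=
  ShortComplex.mk (kernel.ι (Projective.π M)) (Projective.π M) (kernel.condition _)

theorem presSES_shortExact (M : ModuleCat.{u} A) : (presSES M).ShortExact :=
  ShortComplex.ShortExact.mk' (ShortComplex.exact_of_f_is_kernel _ (kernelIsKernel _))
    (inferInstanceAs (Mono (kernel.ι (Projective.π M)))) (inferInstanceAs (Epi (Projective.π M)))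

instance presSES_flat (M : ModuleCat.{u} A) : Module.Flat A (presSES M).X₂ := by
  show Module.Flat A ((Projective.over M : ModuleCat.{u} A))
  infer_instance

theorem preserves_tor : ∀ (p : ℕ) (M : ModuleCat.{u} A) (J : Type u) [SmallCategory J]
    [IsFiltered J], PreservesColimitsOfShape J ((Tor (ModuleCat.{u} A) p).obj M) := by
  intro p
  induction p with
  | zero =>
    intro M J _ _
    exact preservesColimitsOfShape_of_natIso ((tensorLeft M).leftDerivedZeroIsoSelf).symm
  | succ p ih =>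
    intro M J _ _
    have hS₀ := presSES_shortExact M
    constructor
    intro D
    constructor
    intro c hc
    have hX : IsColimit (((Tor (ModuleCat.{u} A) p).obj (presSES M).X₁).mapCocone c) := by
      haveI := ih (presSES M).X₁ J
      exact isColimitOfPreserves _ hc
    have hY : IsColimit (((Tor (ModuleCat.{u} A) p).obj (presSES M).X₂).mapCocone c) := by
      haveI := ih (presSES M).X₂ J
      exact isColimitOfPreserves _ hc
    exact H2HC.isColimit_of_kernel (Functor.whiskerLeft D (torδNat (presSES M) hS₀ p))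
      (Functor.whiskerLeft D ((Tor (ModuleCat.{u} A) p).map (presSES M).f))
      (by apply NatTrans.ext; funext j; exact torδ_comp (presSES M) hS₀ p (D.obj j))
      (fun j => torδ_exact (presSES M) hS₀ p (D.obj j))
      (fun j => torδ_mono (presSES M) hS₀ p (D.obj j))
      (((Tor (ModuleCat.{u} A) (p + 1)).obj M).mapCocone c) hX hY
      (torδ (presSES M) hS₀ p c.pt) (((Tor (ModuleCat.{u} A) p).map (presSES M).f).app c.pt)
      (torδ_comp (presSES M) hS₀ p c.pt)
      (fun j => torδ_naturality (presSES M) hS₀ p (c.ι.app j))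
      (fun j => (((Tor (ModuleCat.{u} A) p).map (presSES M).f).naturality (c.ι.app j)))
      (torδ_exact (presSES M) hS₀ p c.pt) (torδ_mono (presSES M) hS₀ p c.pt)

end H2Tor
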