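import Mathlib

/-! A formally unramified, essentially finite type algebra over a field in which every element has
a `q^n`-th power in the base field is a quotient of the base field (adapted from
`Algebra.FormallyUnramified.range_eq_top_of_isPurelyInseparable`). -/

open scoped TensorProduct

theorem h2_unram_purelyInsep_surj {k T : Type*} [Field k] [CommRing T] [Algebra k T]
    [Algebra.FormallyUnramified k T] [Algebra.EssFiniteType k T] (q : ℕ) [ExpChar k q]
    (h : ∀ t : T, ∃ n : ℕ, t ^ q ^ n ∈ Set.range (algebraMap k T)) :
    Function.Surjective (algebraMap k T) := by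
  classical
  rcases subsingleton_or_nontrivial T with hT | hT
  · intro t
    exact ⟨0, Subsingleton.elim _ _⟩
  intro x
  obtain ⟨n, r, hr⟩ := h x
  have hnt : Nontrivial (T ⊗[k] T) := by
    rw [← not_subsingleton_iff_nontrivial, ← rank_zero_iff (R := k), rank_tensorProduct',
      mul_eq_zero, or_self, rank_zero_iff, not_subsingleton_iff_nontrivial]
    infer_instance
  have hexp : ExpChar (T ⊗[k] T) q :=
    expChar_of_injective_ringHom (algebraMap k _).injective q
  have hnil : (1 ⊗ₜ x - x ⊗ₜ 1 : T ⊗[k] T) ^ q ^ n = 0 := by
    rw [sub_pow_expChar_pow, Algebra.TensorProduct.tmul_pow, one_pow,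
      Algebra.TensorProduct.tmul_pow, one_pow, ← hr, Algebra.algebraMap_eq_smul_one,
      TensorProduct.smul_tmul, sub_self]
  have H : (1 ⊗ₜ x : T ⊗[k] T) = x ⊗ₜ 1 := by
    have i1 : Algebra.FormallyUnramified k (T ⊗[k] T) := Algebra.FormallyUnramified.comp k T _
    have i2 : Algebra.EssFiniteType k (T ⊗[k] T) := Algebra.EssFiniteType.comp k T _
    have inst : IsReduced (T ⊗[k] T) := Algebra.FormallyUnramified.isReduced_of_field k _
    exact sub_eq_zero.mp (IsNilpotent.eq_zero ⟨_, hnil⟩)
  by_cases h' : LinearIndependent k ![1, x]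
  · have h := h'.linearIndepOn_id
    let S := h.extend (Set.subset_univ _)
    let a : S := ⟨1, h.subset_extend _ (by simp)⟩
    have ha : Module.Basis.extend h a = 1 := by simp [a]
    let b : S := ⟨x, h.subset_extend _ (by simp)⟩
    have hb : Module.Basis.extend h b = x := by simp [b]
    by_cases e : a = b
    · have h1x : (1 : T) = x := congr_arg Subtype.val e
      exact ⟨1, by rw [map_one, h1x]⟩
    have := DFunLike.congr_fun
      (DFunLike.congr_arg ((Module.Basis.extend h).tensorProduct (Module.Basis.extend h)).repr H)
      (a, b)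
    simp only [Module.Basis.tensorProduct_repr_tmul_apply, ← ha, ← hb, Module.Basis.repr_self,
      smul_eq_mul, Finsupp.single_apply, e, Ne.symm e, ↓reduceIte, mul_one, mul_zero,
      one_ne_zero] at this
  · rw [LinearIndependent.pair_iff] at h'
    simp only [not_forall, not_and, exists_prop] at h'
    obtain ⟨a, b, e, hab⟩ := h'
    have hbu : IsUnit b := by
      rw [isUnit_iff_ne_zero]
      rintro rfl
      rw [zero_smul, ← Algebra.algebraMap_eq_smul_one, add_zero,
        (injective_iff_map_eq_zero' _).mp (algebraMap k T).injective] at e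
      cases hab e rfl
    use (-hbu.unit⁻¹ * a)
    rw [map_mul, ← Algebra.smul_def, Algebra.algebraMap_eq_smul_one,
      eq_neg_iff_add_eq_zero.mpr e, smul_neg, neg_smul, neg_neg, smul_smul, hbu.val_inv_mul,
      one_smul]
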