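import Mathlib

/-! Recursion for the top coefficient of `T^(a-1+j) mod ∏ (T - X_i)` (helper2). -/

namespace H2Vieta
open Polynomial

theorem vieta (a : ℕ) :
    (∏ i : Fin a, ((X : (MvPolynomial (Fin a) ℤ)[X]) - C (MvPolynomial.X i))) =
      ∑ j ∈ Finset.range (a + 1), (-1 : (MvPolynomial (Fin a) ℤ)[X]) ^ j *
        (C (MvPolynomial.esymm (Fin a) ℤ j) * X ^ (a - j)) := by
  let s := Finset.univ.val.map fun i : Fin a => (MvPolynomial.X i : MvPolynomial (Fin a) ℤ)
  have hc : Multiset.card s = a := by simp [s]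
  have h := Multiset.prod_X_sub_X_eq_sum_esymm s
  rw [hc] at h
  rw [MvPolynomial.esymm_eq_multiset_esymm (Fin a) ℤ, Finset.prod_eq_multiset_prod]
  convert h using 2
  simp_rw [s, Multiset.map_map, Function.comp_apply]

theorem main (a : ℕ) (ha : 0 < a) :
    let P : (MvPolynomial (Fin a) ℤ)[X] := ∏ i : Fin a, (X - C (MvPolynomial.X i))
    let coef : ℤ → MvPolynomial (Fin a) ℤ := fun j =>
      if j < 0 then 0 else ((X : (MvPolynomial (Fin a) ℤ)[X]) ^ (a - 1 + j.toNat) %ₘ P).coeff (a - 1)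
    coef 0 = 1 ∧ ∀ j : ℕ, 0 < j →
      (∑ i ∈ Finset.range (a + 1), (-1 : MvPolynomial (Fin a) ℤ) ^ i * MvPolynomial.esymm (Fin a) ℤ i *
        coef ((j : ℤ) - i)) = 0 := by
  intro P coef
  have hP : P.Monic := monic_prod_of_monic _ _ (fun i _ => monic_X_sub_C _)
  have hdeg : P.natDegree = a := by
    show (∏ i : Fin a, (X - C (MvPolynomial.X i) : (MvPolynomial (Fin a) ℤ)[X])).natDegree = a
    rw [natDegree_finsetProd_X_sub_C_eq_card]; simp
  have hdeg' : P.degree = (a : WithBot ℕ) := by rw [degree_eq_natDegree hP.ne_zero, hdeg]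
  have hmod : ∀ m : ℕ, m < a → (X : (MvPolynomial (Fin a) ℤ)[X]) ^ m %ₘ P = X ^ m := fun m hm => by
    rw [modByMonic_eq_self_iff hP, hdeg', degree_X_pow]; exact_mod_cast hm
  constructor
  · show (if (0:ℤ) < 0 then 0 else
      ((X : (MvPolynomial (Fin a) ℤ)[X]) ^ (a - 1 + (0:ℤ).toNat) %ₘ P).coeff (a - 1)) = 1
    rw [if_neg (lt_irrefl _)]
    have h0 : a - 1 + (0:ℤ).toNat = a - 1 := by simp
    rw [h0, hmod (a - 1) (by omega), coeff_X_pow, if_pos rfl]
  · intro j hj
    let L : (MvPolynomial (Fin a) ℤ)[X] →ₗ[MvPolynomial (Fin a) ℤ] MvPolynomial (Fin a) ℤ :=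
      (lcoeff _ (a - 1)).comp (modByMonicHom P)
    have hL : ∀ q, L q = (q %ₘ P).coeff (a - 1) := fun q => rfl
    have h1 : ∀ i ∈ Finset.range (a + 1), coef ((j : ℤ) - i) = L (X ^ (a - 1 + j - i)) := by
      intro i hi
      rw [Finset.mem_range] at hi
      rw [hL]
      show (if ((j : ℤ) - i) < 0 then 0 else
        ((X : (MvPolynomial (Fin a) ℤ)[X]) ^ (a - 1 + ((j : ℤ) - i).toNat) %ₘ P).coeff (a - 1)) = _
      by_cases hij : i ≤ j
      · rw [if_neg (by omega)]
        have h3 : a - 1 + ((j : ℤ) - i).toNat = a - 1 + j - i := by omega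
        rw [h3]
      · rw [if_pos (by omega)]
        rw [hmod _ (by omega), coeff_X_pow, if_neg (by omega)]
    rw [Finset.sum_congr rfl (fun i hi => by rw [h1 i hi])]
    have h2 : ∑ i ∈ Finset.range (a + 1), (-1 : MvPolynomial (Fin a) ℤ) ^ i *
        MvPolynomial.esymm (Fin a) ℤ i * L (X ^ (a - 1 + j - i)) = L (X ^ (j - 1) * P) := by
      rw [show P = _ from vieta a, Finset.mul_sum, map_sum]
      apply Finset.sum_congr rfl
      intro i hi
      rw [Finset.mem_range] at hi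
      rw [← smul_eq_mul (a := (-1 : MvPolynomial (Fin a) ℤ) ^ i * MvPolynomial.esymm (Fin a) ℤ i),
        ← map_smul]
      congr 1
      rw [smul_eq_C_mul, map_mul, map_pow, map_neg, map_one]
      have h4 : a - 1 + j - i = (j - 1) + (a - i) := by omega
      rw [h4, pow_add]
      ring
    rw [h2, hL, (modByMonic_eq_zero_iff_dvd hP).2 (dvd_mul_left P _), coeff_zero]

end H2Vieta
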